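import Cfsg.Agent.H753.FrobTop
import Cfsg.Agent.H753.SLFiveTwo
import Cfsg.Agent.LieClassical.SLGen
import Cfsg.Agent.S0813

/-!
# `PSL(5,2)` is not a factor of a group with the orders of `PSL(6,2)` (helper753, for S3587)
-/

set_option autoImplicit false

open Cfsg

namespace Cfsg.Agent.H753

/-- the conjugation action on a normal subgroup with trivial centralizer is faithful -/
theorem conjNormal_injective {G : Type*} [Group G] (S : Subgroup G) [S.Normal]
    (hC : Subgroup.centralizer (S : Set G) = ⊥) : Function.Injective (MulAut.conjNormal : G →* MulAut S) := by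
  rw [injective_iff_map_eq_one]
  intro g hg
  have h1 : g ∈ Subgroup.centralizer (S : Set G) := by
    rw [Subgroup.mem_centralizer_iff]
    intro x hx
    have h1 := congrArg (fun y : S => (y : G)) (DFunLike.congr_fun hg (⟨x, hx⟩ : S))
    simp only [MulAut.conjNormal_apply, MulAut.one_apply] at h1
    rw [mul_inv_eq_iff_eq_mul] at h1
    exact h1.symm
  rwa [hC, Subgroup.mem_bot] at h1

/-- an element acts without fixed points on `K` if `r` is isolated -/
theorem fpf_of_isolated {G : Type*} [Group G] [Finite G] (K : Subgroup G) {r : ℕ} (hr : r.Prime)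
    (hK : ¬ r ∣ Nat.card K) (h : ∀ g : G, r ∣ orderOf g → orderOf g = r) {y : G} (hy : orderOf y = r) :
    ∀ m ∈ K, y * m = m * y → m = 1 := by
  intro m hm hc
  have h1 : (orderOf y).Coprime (orderOf m) := by
    rw [hy, Nat.Prime.coprime_iff_not_dvd hr]
    intro h1
    exact hK (h1.trans (Subgroup.orderOf_dvd_natCard K hm))
  have h2 := (show Commute y m from hc).orderOf_mul_eq_mul_orderOf_of_coprime h1
  have h3 := h (y * m) (by rw [h2, hy]; exact Dvd.intro _ rfl)
  rw [h2, hy] at h3
  have h4 : orderOf m = 1 := Nat.eq_of_mul_eq_mul_left hr.pos (by rw [h3, mul_one])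
  exact orderOf_eq_one_iff.1 h4

theorem no_psl52 {G : Type*} [Group G] [Finite G] (K : Subgroup G) [K.Normal] (hK : Group.IsSolvable ↥K)
    (S : Subgroup (G ⧸ K)) [S.Normal] (hC : Subgroup.centralizer (S : Set (G ⧸ K)) = ⊥) {F : Type*} [Field F]
    [Fintype F] (hF : Fintype.card F = 2) (e : ↥S ≃* Matrix.ProjectiveSpecialLinearGroup (Fin 5) F)
    (h31 : ¬ 31 ∣ Nat.card ↥K) (h31' : ∀ g : G, 31 ∣ orderOf g → orderOf g = 31)
    (h45 : ¬ ∃ g : G, orderOf g = 45) (h9 : ∃ g : G, orderOf g = 9) : False := by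
  classical
  have hp31 : Nat.Prime 31 := by norm_num
  let E : S ≃* FiveTwo.SL := e.trans (FiveTwo.pslEquiv hF)
  have hPs : IsSimpleGroup (Matrix.ProjectiveSpecialLinearGroup (Fin 5) F) :=
    LieClassical.SLGen.psl_isSimpleGroup (by rw [Fintype.card_fin]; norm_num)
  have hSnt : Nontrivial S := e.toEquiv.nontrivial
  have hSs : IsSimpleGroup S := IsSimpleGroup.isSimpleGroup_of_surjective e.symm.toMonoidHom e.symm.surjective
  have hcS : Nat.card S = Nat.card (Matrix.GeneralLinearGroup (Fin 5) F) := by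
    rw [Nat.card_congr e.toEquiv, FiveTwo.card_GL_eq hF]
    exact Nat.card_congr ((QuotientGroup.quotientMulEquivOfEq (FiveTwo.center_eq_bot hF)).trans
      QuotientGroup.quotientBot).toEquiv
  -- the element of order 31
  obtain ⟨y, hy, hyS⟩ : ∃ y : G, orderOf y = 31 ∧ (y : G ⧸ K) ∈ S := by
    have h1 : 31 ∣ Nat.card S := hcS ▸ FiveTwo.dvd_card hF
    have : Fact (Nat.Prime 31) := ⟨hp31⟩
    obtain ⟨s, hs⟩ := exists_prime_orderOf_dvd_card' 31 h1
    obtain ⟨y, hy⟩ := QuotientGroup.mk_surjective (s : G ⧸ K)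
    refine ⟨y, h31' y ?_, ?_⟩
    · rw [← hs, ← Subgroup.orderOf_coe, ← hy]
      exact orderOf_map_dvd (QuotientGroup.mk' K) y
    · rw [hy]
      exact s.2
  have hfix := fpf_of_isolated K hp31 h31 h31' hy
  have hnil : Group.IsNilpotent K :=
    H366.Coclique.nilpotent_of_fpf K hp31 (by rw [← hy, pow_orderOf_eq_one]) hfix
  -- the index of `S`
  have hind : S.index ∣ 2 := by
    have h1 : Nat.card (G ⧸ K) ∣ Nat.card (MulAut S) := Subgroup.card_dvd_of_injective _ (conjNormal_injective S hC)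
    have h2 : Nat.card (MulAut S) = 2 * 1 * Nat.card (Matrix.ProjGenLinGroup (Fin 5) F) := by
      rw [Nat.card_congr (MulAut.congr e).toEquiv]
      have : Fact (Nat.Prime 2) := ⟨Nat.prime_two⟩
      rw [S0813.result (F := F) 2 1 le_rfl (by rw [hF, pow_one]) 5 (by norm_num) (by norm_num)]
      rw [if_neg (by norm_num)]
    have h3 : Nat.card (Matrix.ProjGenLinGroup (Fin 5) F) ∣ Nat.card S := by
      rw [hcS]
      exact Subgroup.card_quotient_dvd_card _
    have h4 : Nat.card S * S.index ∣ Nat.card S * 2 := by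
      rw [Subgroup.card_mul_index]
      rw [h2] at h1
      refine h1.trans ?_
      rw [mul_one, mul_comm]
      exact Nat.mul_dvd_mul_right h3 2
    exact Nat.dvd_of_mul_dvd_mul_left Nat.card_pos h4
  -- 3 divides `|K|`
  have h3K : 3 ∣ Nat.card K := by
    by_contra h3
    obtain ⟨g, hg⟩ := h9
    have h1 : (g : G ⧸ K) ^ 9 = 1 := by
      rw [← QuotientGroup.mk_pow, ← hg, pow_orderOf_eq_one]
      rfl
    have h2 : (g : G ⧸ K) ∈ S := by
      have h3 : (g : G ⧸ K) ^ 2 ∈ S := by
        have h4 := S.pow_index_mem (g : G ⧸ K)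
        obtain ⟨k, hk⟩ := hind
        rw [hk, pow_mul]
        exact S.pow_mem h4 k
      have h4 : (g : G ⧸ K) = ((g : G ⧸ K) ^ 2) ^ 5 := by
        rw [← pow_mul, show 2 * 5 = 9 + 1 from rfl, pow_succ, h1, one_mul]
      rw [h4]
      exact S.pow_mem h3 5
    have h5 : (g : G ⧸ K) ^ 3 = 1 := by
      have h6 := FiveTwo.no_nine (E ⟨g, h2⟩) (by
        rw [← map_pow, ← map_one E]
        exact congrArg E (Subtype.ext h1))
      rw [← map_pow, ← map_one E] at h6
      exact congrArg Subtype.val (E.injective h6)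
    have h6 : g ^ 3 ∈ K := by
      rw [← QuotientGroup.eq_one_iff, QuotientGroup.mk_pow]
      exact h5
    have h7 : orderOf (g ^ 3) = 3 := by
      rw [orderOf_pow_of_dvd (by norm_num) (by rw [hg]; norm_num), hg]
    apply h3
    rw [← h7]
    exact Subgroup.orderOf_dvd_natCard K h6
  -- the Frobenius group
  let f : FiveTwo.SL →* G ⧸ K := S.subtype.comp E.symm.toMonoidHom
  have hf : Function.Injective f := S.subtype_injective.comp E.symm.injective
  have hoc : orderOf (f FiveTwo.c) = 15 := by rw [orderOf_injective f hf, FiveTwo.orderOf_c]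
  obtain ⟨g, hg⟩ := FrobTop.exists_orderOf_mul K hnil Nat.prime_three h3K S hSs hyS hfix
    (f.comp FiveTwo.upHom).range (c := f FiveTwo.c) (by
      rintro _ ⟨v, rfl⟩
      exact (E.symm (FiveTwo.upHom v)).2) (by
      intro hb
      have h1 : f (FiveTwo.upHom (Multiplicative.ofAdd (1, 0, 0, 0))) ∈ (f.comp FiveTwo.upHom).range := ⟨_, rfl⟩
      rw [hb, Subgroup.mem_bot, ← map_one f] at h1
      have h2 : FiveTwo.up (1, 0, 0, 0) = FiveTwo.up 0 := (hf h1).trans FiveTwo.up_zero.symm
      have h3 := FiveTwo.up_inj h2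
      revert h3
      decide) (by
      rintro _ ⟨v, rfl⟩
      refine ⟨Multiplicative.ofAdd (v.toAdd.2.2.2, v.toAdd.1 + v.toAdd.2.2.2, v.toAdd.2.1, v.toAdd.2.2.1), ?_⟩
      rw [eq_mul_inv_iff_mul_eq]
      change f _ * f _ = f _ * f _
      rw [← map_mul, ← map_mul]
      exact congrArg f (FiveTwo.c_conj v.toAdd).symm) (by
      rintro i hi0 hi _ ⟨v, rfl⟩ hcomm
      rw [hoc] at hi
      have hcomm' : f (FiveTwo.c ^ i * FiveTwo.upHom v) = f (FiveTwo.upHom v * FiveTwo.c ^ i) := by
        rw [map_mul f, map_mul f, map_pow f]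
        exact hcomm
      have h1 : v.toAdd = 0 := FiveTwo.c_fix hi0 hi (hf hcomm')
      have h2 : v = 1 := h1
      rw [h2, map_one]) (by
      have h2 := Subgroup.card_range_dvd (f.comp FiveTwo.upHom)
      have h3 : Nat.card (Multiplicative FiveTwo.V4) = 16 := by
        rw [Nat.card_congr (Multiplicative.toAdd (α := FiveTwo.V4)), Nat.card_prod, Nat.card_prod, Nat.card_prod,
          Nat.card_zmod]
      rw [h3] at h2
      exact Nat.Coprime.coprime_dvd_left h2 (by norm_num))
  rw [hoc] at hg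
  exact h45 ⟨g, hg⟩

end Cfsg.Agent.H753
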