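import Cfsg.Agent.H909.Sp4List
import Cfsg.Agent.S2119
import Cfsg.Agent.S0813
import Cfsg.Agent.LFourA.AltPsiAut
import Cfsg.Agent.ClassicalGeometry.PSL2Basic
import Cfsg.Agent.H753.NoPsl52

/-!
# The orders of the residual subgroups of `Sp(4,q)`: upper bounds (helper753, for S5786)
-/

set_option autoImplicit false

open Cfsg Cfsg.Geo Matrix
open Cfsg.Agent.H909.Sp4List

namespace Cfsg.Agent.H753.ResCard

universe u

section general

variable {F : Type u} [Field F]

theorem scalar_comm {z : GL I4 F} (hz : z ∈ scalars I4 F) (g : GL I4 F) : g * z = z * g := by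
  obtain ⟨c, hc⟩ := (mem_scalars_iff z).1 hz
  apply Units.ext
  rw [Units.val_mul, Units.val_mul, hc]
  simp

theorem scalars_normal : (scalars I4 F).Normal :=
  ⟨fun z hz g => by rw [scalar_comm hz, mul_inv_cancel_right]; exact hz⟩

theorem scalar_sp {z : GL I4 F} (hz : z ∈ scalars I4 F) (hs : z ∈ spGL 2 F) :
    z ∈ Subgroup.zpowers (-1 : GL I4 F) := by
  obtain ⟨c, hc⟩ := (mem_scalars_iff z).1 hz
  have h1 : (c : F) * c = 1 := by
    have h2 := hs (Pi.single (Sum.inr 0) 1) (Pi.single (Sum.inl 0) 1)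
    have h3 : ∀ u : I4 → F, glToMat I4 F z *ᵥ u = (c : F) • u := by
      intro u
      change (z : Matrix I4 I4 F) *ᵥ u = _
      rw [hc, Matrix.smul_mulVec, Matrix.one_mulVec]
    rw [h3, h3] at h2
    have h4 : sympForm 2 F (Pi.single (Sum.inr 0) 1) (Pi.single (Sum.inl 0) 1) = 1 := by
      simp [sympForm, Matrix.J, Matrix.fromBlocks, Matrix.mulVec_single]
    have h5 : ∀ u v : I4 → F, sympForm 2 F ((c : F) • u) ((c : F) • v) = (c * c : F) * sympForm 2 F u v := by
      intro u v
      simp only [sympForm, Matrix.mulVec_smul, smul_dotProduct, dotProduct_smul, smul_eq_mul]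
      ring
    rw [h5, h4, mul_one] at h2
    exact h2
  have h2 : (c : F) = 1 ∨ (c : F) = -1 := by
    have h3 : ((c : F) - 1) * (c + 1) = 0 := by linear_combination h1
    rcases mul_eq_zero.1 h3 with h | h
    · exact Or.inl (sub_eq_zero.1 h)
    · exact Or.inr (eq_neg_of_add_eq_zero_left h)
  rcases h2 with h | h
  · have h3 : z = 1 := by
      apply Units.ext
      rw [hc, h, one_smul, Units.val_one]
    rw [h3]
    exact one_mem _
  · have h3 : z = -1 := by
      apply Units.ext
      rw [hc, h, neg_smul, one_smul, Units.val_neg, Units.val_one]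
    rw [h3]
    exact Subgroup.mem_zpowers _

/-- **The order divides `2 |Aut T|`.** -/
theorem card_dvd [Finite F] {H P : Subgroup (GL I4 F)} (hle : H ≤ spGL 2 F) (hc : IsResidualCore H P) :
    Nat.card H ∣ 2 * Nat.card (MulAut (P ⧸ (scalars I4 F).subgroupOf P)) := by
  classical
  have hsn : (scalars I4 F).Normal := scalars_normal
  set Z : Subgroup H := (scalars I4 F).subgroupOf H with hZ
  have hZn : Z.Normal := inferInstance
  have hPn : (P.subgroupOf H).Normal := ⟨fun x hx g => hc.normal g g.2 x hx⟩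
  set T : Subgroup (H ⧸ Z) := (P.subgroupOf H).map (QuotientGroup.mk' Z) with hT
  have hTn : T.Normal := hPn.map _ (QuotientGroup.mk'_surjective Z)
  have hZ2 : Nat.card Z ∣ 2 := by
    have h1 : Nat.card (Z.map H.subtype) ∣ Nat.card (Subgroup.zpowers (-1 : GL I4 F)) := by
      apply Subgroup.card_dvd_of_le
      rintro _ ⟨z, hz, rfl⟩
      exact scalar_sp hz (hle z.2)
    rw [Nat.card_zpowers, Nat.card_congr (Z.equivMapOfInjective H.subtype H.subtype_injective).symm.toEquiv] at h1
    exact h1.trans (orderOf_dvd_of_pow_eq_one (by rw [neg_one_sq]))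
  have hcent : Subgroup.centralizer (T : Set (H ⧸ Z)) = ⊥ := by
    rw [eq_bot_iff]
    intro g hg
    obtain ⟨h, rfl⟩ := QuotientGroup.mk_surjective g
    rw [Subgroup.mem_bot]
    apply (QuotientGroup.eq_one_iff _).2
    refine hc.centralizer_scalar h h.2 ?_
    intro x hx
    obtain ⟨x', hx'⟩ : ∃ x' : H, (x' : GL I4 F) = x := ⟨⟨x, hc.le hx⟩, rfl⟩
    have h1 := Subgroup.mem_centralizer_iff.1 hg (QuotientGroup.mk' Z x')
      ⟨x', by rw [SetLike.mem_coe, Subgroup.mem_subgroupOf, hx']; exact hx, rfl⟩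
    have h2 : QuotientGroup.mk' Z (h * x' * h⁻¹ * x'⁻¹) = 1 := by
      rw [map_mul, map_mul, map_mul, map_inv, map_inv]
      change (h : H ⧸ Z) * _ * (h : H ⧸ Z)⁻¹ * _ = 1
      rw [← h1]
      group
    rw [QuotientGroup.mk'_apply, QuotientGroup.eq_one_iff, hZ, Subgroup.mem_subgroupOf] at h2
    rw [← hx']
    simpa only [Subgroup.coe_mul, Subgroup.coe_inv] using h2
  -- the isomorphism
  obtain ⟨f, hfx⟩ : ∃ f : P →* T, ∀ x : P, (f x : H ⧸ Z) = QuotientGroup.mk' Z ⟨x, hc.le x.2⟩ :=
    ⟨{ toFun := fun x => ⟨QuotientGroup.mk' Z ⟨x, hc.le x.2⟩, ⟨⟨x, hc.le x.2⟩, x.2, rfl⟩⟩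
       map_one' := Subtype.ext rfl
       map_mul' := fun x y => Subtype.ext rfl }, fun x => rfl⟩
  have hf : Function.Surjective f := by
    rintro ⟨_, ⟨x, hx, rfl⟩⟩
    exact ⟨⟨x, hx⟩, Subtype.ext (hfx _)⟩
  have hker : f.ker = (scalars I4 F).subgroupOf P := by
    ext x
    rw [MonoidHom.mem_ker, Subgroup.mem_subgroupOf, ← Subtype.coe_inj, hfx, QuotientGroup.mk'_apply,
      Subgroup.coe_one, QuotientGroup.eq_one_iff, hZ, Subgroup.mem_subgroupOf]
  have e : T ≃* P ⧸ (scalars I4 F).subgroupOf P :=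
    (QuotientGroup.quotientKerEquivOfSurjective f hf).symm.trans (QuotientGroup.quotientMulEquivOfEq hker)
  have hfin : Finite (GL I4 F) := inferInstance
  have h1 : Nat.card (H ⧸ Z) ∣ Nat.card (MulAut T) :=
    Subgroup.card_dvd_of_injective _ (conjNormal_injective T hcent)
  rw [Nat.card_congr (MulAut.congr e).toEquiv] at h1
  rw [← Subgroup.card_mul_index Z]
  exact Nat.mul_dvd_mul hZ2 h1

end general

variable {F : Type u} [Field F] [Fintype F]

open Cfsg.Agent.LFourA.AltPsiAut in
theorem card_mulAut_A6 : Nat.card (MulAut (alternatingGroup (Fin 6))) ∣ 1440 := by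
  classical
  have hfin : Finite (MulAut (alternatingGroup (Fin 6))) :=
    Finite.of_injective (fun σ => (σ : alternatingGroup (Fin 6) → alternatingGroup (Fin 6))) DFunLike.coe_injective
  have h1 : Nat.card NE ∣ 720 := by
    have h2 : NE ≤ (MulAut.conjNormal : Equiv.Perm (Fin 6) →* MulAut (alternatingGroup (Fin 6))).range := by
      intro a ha
      obtain ⟨σ, hσ⟩ := exists_perm ha
      refine ⟨σ, ?_⟩
      refine MulEquiv.ext fun x => Subtype.ext ?_
      rw [MulAut.conjNormal_apply, hσ]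
    have h3 := (Subgroup.card_dvd_of_le h2).trans (Subgroup.card_range_dvd _)
    rw [Nat.card_perm, Nat.card_fin] at h3
    exact h3
  have h2 : NE.index ∣ 2 := by
    by_cases h : ∃ β : MulAut (alternatingGroup (Fin 6)), β ∉ NE
    · obtain ⟨β, hβ⟩ := h
      have h3 : NE.index = 2 := by
        rw [Subgroup.index_eq_two_iff_exists_notMem_and]
        refine ⟨β, hβ, fun b => ?_⟩
        by_cases hb : b ∈ NE
        · right; exact hb
        · left
          have h4 := inv_mul_mem (α := b⁻¹) (fun h => hb (by have := NE.inv_mem h; rwa [inv_inv] at this)) hβ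
          rwa [inv_inv] at h4
      rw [h3]
    · push Not at h
      rw [Subgroup.index_eq_one.2 (eq_top_iff.2 fun x _ => h x)]
      exact one_dvd _
  rw [← Subgroup.card_mul_index NE]
  exact Nat.mul_dvd_mul h1 h2

theorem card_A6 {H P : Subgroup (GL I4 F)} (hle : H ≤ spGL 2 F) (hcore : IsResidualCore H P)
    (e : (P ⧸ (scalars I4 F).subgroupOf P) ≃* alternatingGroup (Fin 6)) : Nat.card H ∣ 2880 := by
  have h1 := card_dvd hle hcore
  rw [Nat.card_congr (MulAut.congr e).toEquiv] at h1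
  exact h1.trans (Nat.mul_dvd_mul_left 2 card_mulAut_A6)

theorem card_A7 {H P : Subgroup (GL I4 F)} (hle : H ≤ spGL 2 F) (hcore : IsResidualCore H P)
    (e : (P ⧸ (scalars I4 F).subgroupOf P) ≃* alternatingGroup (Fin 7)) : Nat.card H ∣ 10080 := by
  have h1 := card_dvd hle hcore
  rw [Nat.card_congr (MulAut.congr e).toEquiv] at h1
  have h2 : Nat.card (MulAut (alternatingGroup (Fin 7))) = 5040 := by
    rw [← Nat.card_congr (Equiv.ofBijective _ (S2119.result 7 (by norm_num) (by norm_num))), Nat.card_perm,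
      Nat.card_fin]
    rfl
  rwa [h2] at h1

theorem card_L2 {p f : ℕ} (hp : p.Prime) (hf : Fintype.card F = p ^ f) (hodd : Odd (Fintype.card F))
    (h5 : 5 ≤ Fintype.card F) {H P : Subgroup (GL I4 F)} (hle : H ≤ spGL 2 F) (hcore : IsResidualCore H P)
    (e : (P ⧸ (scalars I4 F).subgroupOf P) ≃* Matrix.ProjectiveSpecialLinearGroup (Fin 2) F) :
    Nat.card H ∣ 2 * f * (Nat.card F * (Nat.card F ^ 2 - 1)) := by
  have hpf : Fact p.Prime := ⟨hp⟩
  have hf1 : 1 ≤ f := by
    by_contra h
    have h2 : f = 0 := by omega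
    rw [h2, pow_zero] at hf
    omega
  have h1 := card_dvd hle hcore
  rw [Nat.card_congr (MulAut.congr e).toEquiv] at h1
  rw [S0813.result p f hf1 hf 2 le_rfl (fun _ => by rw [← hf]; omega), if_pos rfl, one_mul,
    ClassicalGeometry.PSL2Basic.card_PGL2] at h1
  rw [Nat.card_eq_fintype_card (α := F), mul_assoc]
  exact h1

end Cfsg.Agent.H753.ResCard
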