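import Cfsg.Agent.H753.LongThreeKey
import Cfsg.Agent.OddHalf.LongSL.Abs
import Cfsg.Agent.LFourR.QThreeSL
import Cfsg.Agent.LFourB.FixQuat
import Cfsg.Agent.SignalizersComponents.Components
import Cfsg.Agent.SignalizersComponents.SLQuasisimple
import Cfsg.Agent.S0542

/-!
# Long `SL₂(q)`s and 2-central involutions (helper753, for S3263)
-/

set_option autoImplicit false

namespace Cfsg.Agent.H753.LongThree

open Cfsg Subgroup Cfsg.Agent.OddHalf.LongSL Cfsg.Agent.SignalizersComponents.Components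

variable {G : Type*} [Group G]

/-- The conclusion of `three_of_hasLong` for the involution `τ`. -/
def Con (τ : G) : Prop :=
  (∃ (F : Type) (_ : Field F) (_ : Fintype F) (J : Subgroup G), 3 < Fintype.card F ∧ Odd (Fintype.card F) ∧
      J ≤ Subgroup.centralizer ({τ} : Set G) ∧ Nonempty (↥J ≃* Matrix.SpecialLinearGroup (Fin 2) F)) ∨
    (∃ (T : Subgroup G) (w : G), IsPGroup 2 T ∧ T ≤ Subgroup.centralizer ({τ} : Set G) ∧
      w ∈ Subgroup.centralizer ({τ} : Set G) ∧ (∃ k : ℕ, w ^ 3 ^ k = 1) ∧ ∃ t ∈ T, w * t ≠ t * w)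

theorem Con.conj {z : G} (h : Con z) (f : MulAut G) : Con (f z) := by
  have hc : ∀ g : G, g ∈ centralizer ({z} : Set G) → f g ∈ centralizer ({f z} : Set G) := by
    intro g hg
    rw [mem_centralizer_singleton_iff] at hg ⊢
    rw [← map_mul, hg, map_mul]
  rcases h with ⟨F, i1, i2, J, h1, h2, h3, ⟨e⟩⟩ | ⟨T, w, h1, h2, h3, ⟨k, hk⟩, t, ht, htw⟩
  · left
    refine ⟨F, i1, i2, J.map f.toMonoidHom, h1, h2, ?_, ⟨(f.subgroupMap J).symm.trans e⟩⟩
    rintro _ ⟨g, hg, rfl⟩
    exact hc g (h3 hg)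
  · right
    refine ⟨T.map f.toMonoidHom, f w, h1.map _, ?_, hc w h3, ⟨k, by rw [← map_pow, hk, map_one]⟩, f t, ⟨t, ht, rfl⟩, ?_⟩
    · rintro _ ⟨g, hg, rfl⟩
      exact hc g (h2 hg)
    · intro h
      rw [← map_mul, ← map_mul] at h
      exact htw (f.injective h)

/-- A central involution of `C` lies in every Sylow 2-subgroup. -/
theorem mem_sylow_of_central {C : Type*} [Group C] [Finite C] {j : C} (hj : orderOf j = 2)
    (hc : ∀ c : C, c * j = j * c) (S0 : Sylow 2 C) : j ∈ S0 := by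
  have : Fact (Nat.Prime 2) := ⟨Nat.prime_two⟩
  have hz : zpowers j ≤ center C := by
    rw [zpowers_le, mem_center_iff]
    exact hc
  have hn : (zpowers j).Normal := by
    constructor
    intro x hx g
    rw [mem_center_iff.1 (hz hx) g, mul_inv_cancel_right]
    exact hx
  have hp : IsPGroup 2 (zpowers j) := by
    refine IsPGroup.of_card (n := 1) ?_
    rw [Nat.card_zpowers, hj, pow_one]
  exact (hp.le_sylow_of_normal S0) (mem_zpowers _)

/-- The case `q > 3`. -/
theorem con_big [Finite G] {j : G} {J : Subgroup G}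
    (hJ : J ≤ centralizer ({j} : Set G)) (hs : (J.subgroupOf (centralizer ({j} : Set G))).IsSubnormal)
    {F : Type*} [Field F] [Fintype F] (ho : Odd (Fintype.card F)) (h3 : 3 < Fintype.card F)
    (e : J ≃* Matrix.SpecialLinearGroup (Fin 2) F) (S0 : Sylow 2 (centralizer ({j} : Set G)))
    {z : G} (hzz : z * z = 1) (hzC : z ∈ centralizer ({j} : Set G))
    (hzc : ∀ x : centralizer ({j} : Set G), x ∈ S0 → (x : G) * z = z * x) : J ≤ centralizer ({z} : Set G) := by
  have : Fact (Nat.Prime 2) := ⟨Nat.prime_two⟩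
  have h2F : (2 : F) ≠ 0 := two_ne_of_odd ho
  have hq : IsQuasisimple J := isQuasisimple_of_mulEquiv e.symm
    (Cfsg.Agent.SignalizersComponents.SLQuasisimple.isQuasisimple_two (by rw [Nat.card_eq_fintype_card]; omega))
  let C := centralizer ({j} : Set G)
  have hc : IsComponent (J.subgroupOf C) := ⟨hs, isQuasisimple_of_mulEquiv (subgroupOfEquivOfLe hJ).symm hq⟩
  obtain ⟨P, hP⟩ := Cfsg.Agent.S0542.result 2 (J.subgroupOf C) hs S0
  have hTz : ∀ x ∈ J, ∀ hx : x ∈ C, (⟨x, hx⟩ : C) ∈ S0 → z * x = x * z := by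
    intro x _ hx hxS
    exact (hzc ⟨x, hx⟩ hxS).symm
  let f : J.subgroupOf C ≃* Matrix.SpecialLinearGroup (Fin 2) F := (subgroupOfEquivOfLe hJ).trans e
  obtain ⟨x, hx, y, hy, hxy⟩ := Cfsg.Agent.LFourB.FixQuat.exists_not_comm h2F
    (P.mapSurjective (f := f.toMonoidHom) f.surjective)
  obtain ⟨x, hx, rfl⟩ := hx
  obtain ⟨y, hy, rfl⟩ := hy
  have hxS0 : (x : C) ∈ S0 := by
    have : x ∈ (P : Subgroup (J.subgroupOf C)) := hx
    rw [hP, mem_subgroupOf] at this
    exact this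
  have hxy' : (x : C) * y ≠ y * x := by
    intro h
    apply hxy
    have h' : x * y = y * x := Subtype.ext h
    rw [← map_mul, h', map_mul]
  have hzJ : (J.subgroupOf C).map (MulAut.conj (⟨z, hzC⟩ : C)).toMonoidHom = J.subgroupOf C := by
    by_contra hne
    have h1 := component_commutator_eq_bot_of_ne (isComponent_conj (⟨z, hzC⟩ : C) hc) hc hne
    have h2 := commutator_eq_bot_iff_le_centralizer.1 h1
    have h3 : (x : C) ∈ (J.subgroupOf C).map (MulAut.conj (⟨z, hzC⟩ : C)).toMonoidHom := by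
      refine ⟨x, x.2, ?_⟩
      have h4 : z * ((x : C) : G) = ((x : C) : G) * z := hTz _ (mem_subgroupOf.1 x.2) (x : C).2 hxS0
      refine Subtype.ext ?_
      change z * ((x : C) : G) * z⁻¹ = ((x : C) : G)
      rw [h4, mul_inv_cancel_right]
    exact hxy' (mem_centralizer_iff.1 (h2 h3) y y.2).symm
  have hzn : z ∈ normalizer (J : Set G) := by
    have h1 : ∀ g ∈ J, z * g * z⁻¹ ∈ J := by
      intro g hg
      have h2 : (MulAut.conj (⟨z, hzC⟩ : C)) ⟨g, hJ hg⟩ ∈ J.subgroupOf C := by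
        rw [← hzJ]
        exact ⟨⟨g, hJ hg⟩, mem_subgroupOf.2 hg, rfl⟩
      exact h2
    rw [mem_normalizer_iff]
    intro g
    refine ⟨h1 g, fun h => ?_⟩
    have h3 := h1 _ h
    have h4 : z⁻¹ = z := inv_eq_of_mul_eq_one_left hzz
    rw [h4] at h3
    rwa [show z * (z * g * z) * z = (z * z) * g * (z * z) by group, hzz, one_mul, mul_one] at h3
  have hzcent : ∀ a ∈ J, z * a = a * z := by
    refine Cfsg.Agent.LFourB.FixQuat.centralizes h2F e (Q := (S0 : Subgroup C).map C.subtype)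
      (S0.isPGroup'.map C.subtype) ?_ hzn (fun a _ => by rw [hzz, one_mul, mul_one]) ?_
    · have h1 : ((S0 : Subgroup C).subgroupOf (J.subgroupOf C)).index = ((S0 : Subgroup C)).relIndex (J.subgroupOf C) := rfl
      have h2 : ¬ 2 ∣ ((S0 : Subgroup C)).relIndex (J.subgroupOf C) := by
        rw [← h1, ← hP]
        exact P.not_dvd_index
      have h3 : ((S0 : Subgroup C).map C.subtype).relIndex J = ((S0 : Subgroup C)).relIndex (J.subgroupOf C) := by
        have h4 : J = (J.subgroupOf C).map C.subtype := (map_subgroupOf_eq_of_le hJ).symm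
        conv_lhs => rw [h4]
        exact relIndex_map_map_of_injective _ _ C.subtype_injective
      rw [h3, ← Nat.not_even_iff_odd, even_iff_two_dvd]
      exact h2
    · rintro _ ⟨x, hx, rfl⟩
      exact (hzc x hx).symm
  exact fun a ha => mem_centralizer_singleton_iff.2 (hzcent a ha).symm

/-- The case `q = 3`. -/
theorem con_three [Finite G] {j : G} {J : Subgroup G} (hj : orderOf j = 2) (hjJ : j ∈ J)
    (hJ : J ≤ centralizer ({j} : Set G)) (hs : (J.subgroupOf (centralizer ({j} : Set G))).IsSubnormal)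
    {F : Type*} [Field F] [Fintype F] (h3 : Fintype.card F = 3)
    (e : J ≃* Matrix.SpecialLinearGroup (Fin 2) F) (S0 : Sylow 2 (centralizer ({j} : Set G)))
    {z : G} (hzz : z * z = 1) (hzC : z ∈ centralizer ({j} : Set G))
    (hzc : ∀ x : centralizer ({j} : Set G), x ∈ S0 → (x : G) * z = z * x) :
    ∃ (T : Subgroup G) (w : G), IsPGroup 2 T ∧ T ≤ Subgroup.centralizer ({z} : Set G) ∧
      w ∈ Subgroup.centralizer ({z} : Set G) ∧ (∃ k : ℕ, w ^ 3 ^ k = 1) ∧ ∃ t ∈ T, w * t ≠ t * w := by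
  have : Fact (Nat.Prime 2) := ⟨Nat.prime_two⟩
  obtain ⟨i, l, x, ht⟩ := Cfsg.Agent.LFourR.QThreeSL.exists_tet h3 e
  have hj1 : j ≠ 1 := fun h => by rw [h, orderOf_one] at hj; omega
  have hj2 : j * j = 1 := by rw [← pow_two, ← hj, pow_orderOf_eq_one]
  -- `T = O_2(J)`
  let T0 : Subgroup J :=
    { carrier := {g | g ^ 4 = 1}
      one_mem' := one_pow 4
      mul_mem' := fun {a b} ha hb => ht.mul4 a b ha hb
      inv_mem' := fun {a} ha => by
        change a⁻¹ ^ 4 = 1
        rw [inv_pow, show a ^ 4 = 1 from ha, inv_one] }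
  have hT0 : ∀ g : J, g ∈ T0 ↔ g ^ 4 = 1 := fun g => Iff.rfl
  have hT0n : T0.Normal := ⟨fun n hn g => by
    rw [hT0] at hn ⊢
    rw [conj_pow, hn, mul_one, mul_inv_cancel]⟩
  have hT0p : IsPGroup 2 T0 := fun g => ⟨2, Subtype.ext (by
    change (g : J) ^ 2 ^ 2 = 1
    exact g.2)⟩
  set T : Subgroup G := T0.map J.subtype with hT
  have hTm : ∀ g : G, g ∈ T ↔ g ∈ J ∧ g ^ 4 = 1 := by
    intro g
    constructor
    · rintro ⟨g, hg, rfl⟩
      exact ⟨g.2, congrArg Subtype.val hg⟩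
    · rintro ⟨hg, h4⟩
      exact ⟨⟨g, hg⟩, Subtype.ext h4, rfl⟩
  have hTJ : T ≤ J := fun g hg => ((hTm g).1 hg).1
  have hTp : IsPGroup 2 T := hT0p.map _
  let C : Subgroup G := centralizer ({j} : Set G)
  -- `T` is contained in `S0`
  obtain ⟨P, hP⟩ := Cfsg.Agent.S0542.result 2 (J.subgroupOf C) hs S0
  have hTS0 : ∀ g, ∀ hg : g ∈ T, (⟨g, hJ (hTJ hg)⟩ : C) ∈ S0 := by
    intro g hg
    have h5 : (T0.comap (subgroupOfEquivOfLe hJ).toMonoidHom).Normal := hT0n.comap _
    have h6 : IsPGroup 2 (T0.comap (subgroupOfEquivOfLe hJ).toMonoidHom) :=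
      hT0p.comap_of_injective _ (subgroupOfEquivOfLe hJ).injective
    have h7 := h6.le_sylow_of_normal P
    have h8 : (⟨⟨g, hJ (hTJ hg)⟩, mem_subgroupOf.2 (hTJ hg)⟩ : J.subgroupOf C) ∈ (P : Subgroup (J.subgroupOf C)) := by
      apply h7
      exact Subtype.ext ((hTm g).1 hg).2
    rw [hP, mem_subgroupOf] at h8
    exact h8
  have hzT : ∀ g ∈ T, z * g = g * z := fun g hg => (hzc ⟨g, hJ (hTJ hg)⟩ (hTS0 g hg)).symm
  -- the normaliser
  set Y : Subgroup G := C ⊓ normalizer (T : Set G) with hY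
  have hYC : Y ≤ C := inf_le_left
  have hJN : J ≤ normalizer (T : Set G) := by
    have key : ∀ g ∈ J, ∀ t ∈ T, g * t * g⁻¹ ∈ T := by
      intro g hg t htT
      obtain ⟨h5, h6⟩ := (hTm t).1 htT
      refine (hTm _).2 ⟨J.mul_mem (J.mul_mem hg h5) (J.inv_mem hg), ?_⟩
      rw [conj_pow, h6, mul_one, mul_inv_cancel]
    intro g hg
    rw [mem_normalizer_iff]
    intro t
    refine ⟨key g hg t, fun h => ?_⟩
    have := key g⁻¹ (inv_mem hg) _ h
    rwa [show g⁻¹ * (g * t * g⁻¹) * g⁻¹⁻¹ = t by group] at this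
  have hJY : J ≤ Y := le_inf hJ hJN
  have hzY : z ∈ Y := by
    refine mem_inf.2 ⟨hzC, ?_⟩
    have key : ∀ t ∈ T, z * t * z⁻¹ ∈ T := by
      intro t htT
      rw [hzT t htT, mul_inv_cancel_right]
      exact htT
    rw [mem_normalizer_iff]
    intro t
    refine ⟨key t, fun h => ?_⟩
    have h5 := key _ h
    have h4 : z⁻¹ = z := inv_eq_of_mul_eq_one_left hzz
    rw [h4] at h5
    rwa [show z * (z * t * z) * z = (z * z) * t * (z * z) by group, hzz, one_mul, mul_one] at h5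
  have hTY : T ≤ Y := hTJ.trans hJY
  have hTn : (T.subgroupOf Y).Normal := by
    constructor
    intro n hn g
    rw [mem_subgroupOf] at hn ⊢
    exact (mem_normalizer_iff.1 (mem_inf.1 g.2).2 n).1 hn
  have hJs : (J.subgroupOf Y).IsSubnormal := by
    have h5 := hs.comap (inclusion hYC)
    exact h5
  have hcen : ∀ g : G, g ∈ J → (∀ s ∈ T, g * s = s * g) → g = 1 ∨ g = ((i * i : J) : G) := by
    intro g hg hgs
    have hi4 : i ^ 4 = 1 := by rw [← ht.i4]; simp only [pow_succ, pow_zero, one_mul, mul_assoc]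
    have hl4 : l ^ 4 = 1 := by
      have : l ^ 4 = l * l * (l * l) := by simp only [pow_succ, pow_zero, one_mul, mul_assoc]
      rw [this, ht.jj, ht.i4]
    have h5 : (⟨g, hg⟩ : J) * i = i * ⟨g, hg⟩ := Subtype.ext (hgs i ⟨i, hi4, rfl⟩)
    have h6 : (⟨g, hg⟩ : J) * l = l * ⟨g, hg⟩ := Subtype.ext (hgs l ⟨l, hl4, rfl⟩)
    rcases ht.cen _ h5 h6 with h7 | h7
    · exact Or.inl (congrArg Subtype.val h7)
    · exact Or.inr (congrArg Subtype.val h7)
  have hjC : ∀ c ∈ C, c * j = j * c := fun c hc => mem_centralizer_singleton_iff.1 hc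
  have hji : j = ((i * i : J) : G) :=
    (hcen j hjJ (fun s hs => (hjC s (hJ (hTJ hs))).symm)).resolve_left hj1
  have hi4 : i ^ 4 = 1 := by rw [← ht.i4]; simp only [pow_succ, pow_zero, one_mul, mul_assoc]
  obtain ⟨w, hwz, ⟨k, hk⟩, t, htT, htw⟩ := key (Y := Y) (T := T.subgroupOf Y) (J := J.subgroupOf Y) hTn hJs
    (by
      intro g hg
      refine ⟨1, ?_⟩
      rw [mem_subgroupOf, pow_one]
      refine (hTm _).2 ⟨J.pow_mem (mem_subgroupOf.1 hg) 3, ?_⟩
      have h5 := ht.pow12 ⟨g, mem_subgroupOf.1 hg⟩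
      have h6 : (g : G) ^ 12 = 1 := congrArg Subtype.val h5
      change ((g : G) ^ 3) ^ 4 = 1
      rw [← pow_mul]
      exact h6)
    (x := ⟨x, hJY x.2⟩) (z := ⟨z, hzY⟩) (j := ⟨j, hJY hjJ⟩) (mem_subgroupOf.2 x.2)
    (Subtype.ext (show (x : G) ^ 3 = 1 from congrArg (fun y : J => (y : G)) ht.x3))
    (Subtype.ext hzz) (fun t htT => Subtype.ext (hzT t (mem_subgroupOf.1 htT)))
    (fun y => Subtype.ext (hjC y (hYC y.2))) (Subtype.ext hj2)
    (by
      intro t htT hts
      rcases hcen t (hTJ (mem_subgroupOf.1 htT)) (fun s hs => congrArg Subtype.val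
        (hts ⟨s, hTY hs⟩ (mem_subgroupOf.2 hs))) with h5 | h5
      · exact Or.inl (Subtype.ext h5)
      · exact Or.inr (Subtype.ext (h5.trans hji.symm)))
    (by
      refine ⟨⟨i, hJY i.2⟩, mem_subgroupOf.2 ⟨i, hi4, rfl⟩, ?_⟩
      intro h5
      have h6 : x * i = i * x := Subtype.ext (congrArg (fun y : Y => (y : G)) h5)
      have h7 : l = i := by rw [← ht.xi, h6, mul_inv_cancel_right]
      have h8 := ht.ji
      rw [h7] at h8
      exact ht.ne (left_eq_mul.1 h8))
  refine ⟨T, w, hTp, ?_, ?_, ⟨k, congrArg Subtype.val hk⟩, t, mem_subgroupOf.1 htT, ?_⟩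
  · intro g hg
    exact mem_centralizer_singleton_iff.2 (hzT g hg).symm
  · exact mem_centralizer_singleton_iff.2 (congrArg Subtype.val hwz)
  · intro h5
    exact htw (Subtype.ext h5)

end Cfsg.Agent.H753.LongThree

namespace Cfsg.Agent.H753

open Cfsg Subgroup Cfsg.Agent.OddHalf.LongSL LongThree

set_option linter.unusedVariables false in
/-- In a group with a long `SL₂(q)`, a 2-central involution centralizes some `SL₂(F)`, `|F| > 3` odd, or a 2-group
and a 3-element acting nontrivially on it. -/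
theorem three_of_hasLong {G : Type*} [Group G] [Finite G] {r : ℕ} (h : Cfsg.Agent.OddHalf.LongSL.HasLong r G)
    {S : Sylow 2 G} {τ : G}
    (hτ : orderOf τ = 2) (hτS : τ ∈ (S : Subgroup G)) (hτc : ∀ s ∈ (S : Subgroup G), s * τ = τ * s) :
    (∃ (F : Type) (_ : Field F) (_ : Fintype F) (J : Subgroup G), 3 < Fintype.card F ∧ Odd (Fintype.card F) ∧
      J ≤ Subgroup.centralizer ({τ} : Set G) ∧ Nonempty (↥J ≃* Matrix.SpecialLinearGroup (Fin 2) F)) ∨
    (∃ (T : Subgroup G) (w : G), IsPGroup 2 T ∧ T ≤ Subgroup.centralizer ({τ} : Set G) ∧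
      w ∈ Subgroup.centralizer ({τ} : Set G) ∧ (∃ k : ℕ, w ^ 3 ^ k = 1) ∧ ∃ t ∈ T, w * t ≠ t * w) := by
  have : Fact (Nat.Prime 2) := ⟨Nat.prime_two⟩
  obtain ⟨j, J, hj, hjJ, hJ, hs, F, i1, i2, hF, ho, ⟨e⟩⟩ := h
  obtain ⟨S0⟩ : Nonempty (Sylow 2 (centralizer ({j} : Set G))) := inferInstance
  obtain ⟨S', hS'⟩ := (S0.isPGroup'.map (centralizer ({j} : Set G)).subtype).exists_le_sylow
  obtain ⟨g, hg⟩ := MulAction.exists_smul_eq G S S'
  have hgS : ∀ s : G, s ∈ (S' : Subgroup G) → g⁻¹ * s * g ∈ (S : Subgroup G) := by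
    intro s hs
    rw [← hg, Sylow.coe_subgroup_smul, Subgroup.mem_pointwise_smul_iff_inv_smul_mem] at hs
    have h5 : (MulAut.conj g)⁻¹ • s = g⁻¹ * s * g := by
      rw [← map_inv]
      change MulAut.conj g⁻¹ s = _
      rw [MulAut.conj_apply, inv_inv]
    rw [← h5]
    exact hs
  set z := g * τ * g⁻¹ with hz
  have hzc' : ∀ s ∈ (S' : Subgroup G), s * z = z * s := by
    intro s hs
    have h5 := hτc _ (hgS s hs)
    calc s * z = g * ((g⁻¹ * s * g) * τ) * g⁻¹ := by rw [hz]; group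
      _ = g * (τ * (g⁻¹ * s * g)) * g⁻¹ := by rw [h5]
      _ = z * s := by rw [hz]; group
  have hjC : j ∈ centralizer ({j} : Set G) := hJ hjJ
  have hjS0 : (⟨j, hjC⟩ : centralizer ({j} : Set G)) ∈ S0 := by
    apply mem_sylow_of_central
    · rw [Subgroup.orderOf_mk, hj]
    · intro c
      exact Subtype.ext (mem_centralizer_singleton_iff.1 c.2)
  have hjS' : j ∈ (S' : Subgroup G) := hS' ⟨_, hjS0, rfl⟩
  have hzC : z ∈ centralizer ({j} : Set G) := mem_centralizer_singleton_iff.2 (hzc' j hjS').symm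
  have hzz : z * z = 1 := by
    have h5 : τ * τ = 1 := by rw [← pow_two, ← hτ, pow_orderOf_eq_one]
    calc z * z = g * (τ * τ) * g⁻¹ := by rw [hz]; group
      _ = 1 := by rw [h5, mul_one, mul_inv_cancel]
  have hzc : ∀ x : centralizer ({j} : Set G), x ∈ S0 → (x : G) * z = z * x := fun x hx =>
    hzc' x (hS' ⟨x, hx, rfl⟩)
  have hcon : Con z := by
    rcases lt_or_ge 3 (Fintype.card F) with h3 | h3
    · exact Or.inl ⟨F, i1, i2, J, h3, hF ▸ ho, con_big hJ hs (hF ▸ ho) h3 e S0 hzz hzC hzc, ⟨e⟩⟩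
    · have h4 : Fintype.card F = 3 := by
        have h5 : 1 < Fintype.card F := Fintype.one_lt_card
        have h6 : Odd (Fintype.card F) := hF ▸ ho
        rcases h6 with ⟨m, hm⟩
        omega
      exact Or.inr (con_three hj hjJ hJ hs h4 e S0 hzz hzC hzc)
  have hcon' := hcon.conj (MulAut.conj g⁻¹)
  have h7 : MulAut.conj g⁻¹ z = τ := by rw [MulAut.conj_apply, hz]; group
  rw [h7] at hcon'
  exact hcon'

end Cfsg.Agent.H753
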