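import Cfsg.Agent.H384.Cyc.Defs

/-!
# TEAM TWOCYC (S3507): tools for the rows `Sz(q)`, `²G₂(q)` (helper753)
-/

set_option autoImplicit false

namespace Cfsg.Agent.H753.Cyc

open Cfsg Cfsg.Agent.H384.Cyc Cfsg.Agent.H954.OutDeg

universe u v

/-- minimal degrees from the representations -/
theorem md_of_rep {X : Type u} [Group X] {d : ℕ}
    (h : ∀ (k : ℕ) (ρ : Representation ℂ X (Fin k → ℂ)), ρ.IsIrreducible → 2 ≤ k → d ≤ k) : MD X d := by
  intro χ hχ
  obtain ⟨n, ρ, hρ, hn⟩ := χ.2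
  have h2 : ρ.character 1 = (n : ℂ) := by
    rw [Representation.char_one, Module.finrank_fin_fun]
  have h3 : charDegree (χ : X → ℂ) = n := by
    apply Cfsg.Agent.Blocks.Basic.charDegree_of_eq
    rw [← h2, hn]
  have h4 := Cfsg.Agent.Blocks.Basic.charDegree_pos χ.2
  rw [h3] at hχ h4 ⊢
  exact h n ρ hρ (by omega)

/-- the order of an inner automorphism -/
theorem orderOf_conj_le {T : Type u} [Group T] [Finite T] (x : T) : orderOf (MulAut.conj x) ≤ orderOf x :=
  Nat.le_of_dvd (orderOf_pos x) (orderOf_map_dvd _ x)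

theorem orderOf_le_of_pow {G : Type u} [Group G] {a : G} {n k : ℕ} (hn : 0 < n) (hk : 0 < orderOf (a ^ n))
    (h : orderOf (a ^ n) ≤ k) : orderOf a ≤ n * k := by
  have h1 : a ^ (n * orderOf (a ^ n)) = 1 := by rw [pow_mul, pow_orderOf_eq_one]
  exact (orderOf_le_of_pow_eq_one (Nat.mul_pos hn hk) h1).trans (Nat.mul_le_mul_left _ h)

/-- automorphisms of order at most `n k`, if `|Out T| = n` and the elements have order at most `k` -/
theorem mo_of_out {T : Type u} [Group T] [Finite T] {n k : ℕ} (hn : Nat.card (Cfsg.Out T) = n) (hn0 : 0 < n)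
    (hk : ∀ x : T, orderOf x ≤ k) : Mo T (n * k) := by
  intro α
  have h1 : ((QuotientGroup.mk α : Cfsg.Out T)) ^ n = 1 := by
    rw [← hn]
    exact pow_card_eq_one'
  have h2 : ((QuotientGroup.mk (α ^ n) : Cfsg.Out T)) = 1 := h1
  rw [QuotientGroup.eq_one_iff] at h2
  obtain ⟨x, hx⟩ := h2
  refine orderOf_le_of_pow hn0 (orderOf_pos _) ?_
  rw [← hx]
  exact (orderOf_conj_le x).trans (hk x)

end Cfsg.Agent.H753.Cyc
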