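import Cfsg.Agent.H753.AbRee
import Cfsg.Agent.H753.CycTools
import Cfsg.Agent.S2127
import Cfsg.Agent.S2343

/-!
# TEAM TWOCYC (S3507): the row `²G₂(q)` (helper753)

* `orderOf_le` : the elements of `²G₂(q)` have order at most `12 q`;
* `smC_ree` : `SmC` for the Ree groups.
-/

set_option autoImplicit false

namespace Cfsg.Agent.H753.CycRee

open Subgroup Cfsg.Agent.H968.TwoRee Cfsg.Agent.H753.AbRee Cfsg.Agent.H384.Cyc Cfsg.Agent.H753.Cyc
open Cfsg.Agent.H498.Ab (comm_iff)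
open Cfsg.Agent.LieRecognition.ReeAbs Cfsg.Agent.LieRecognition.ReeSylowThree Cfsg.Agent.LieRecognition.ReeSplit
open Cfsg.Agent.FixBN.RankOneRee

universe u v

section unip

variable {K : Type*} [Field K] {G : Type*} [Group G] {m : ℕ} {U : K → K → K → G} {h : Kˣ → G} {n : G}

theorem pow_nine (h3 : (3 : K) = 0) (D : Data m U h n) {x : G} (hx : x ∈ uSub D) : x ^ 9 = 1 := by
  obtain ⟨t, u, v, rfl⟩ := hx
  have h1 : ∀ w : K, U 0 0 w ^ 3 = 1 := by
    intro w
    rw [pow_succ, pow_two, D.U_mul, D.U_mul, ← D.U_zero]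
    congr 1
    · ring
    · rw [zero_pow (by positivity)]
      ring
    · rw [zero_pow (by positivity)]
      linear_combination w * h3
  have h2 : U t u v ^ 3 = U 0 0 (-(t ^ 2 * t ^ 3 ^ (m + 1))) := by
    rw [pow_succ, pow_two, D.U_mul, D.U_mul]
    congr 1
    · linear_combination t * h3
    · linear_combination (u - t * t ^ 3 ^ (m + 1)) * h3
    · linear_combination (v - u * t) * h3
  rw [show 9 = 3 * 3 from rfl, pow_mul, h2, h1]

end unip

theorem dich_of_facts {G : Type*} [Group G] [Finite G] {q r : ℕ} (h27 : 27 ≤ q) (h8 : q % 8 = 3) (hr9 : 9 ≤ r)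
    (hqr : r * r = 3 * q) (hq3 : ∀ p : ℕ, p.Prime → p ∣ q → p = 3) (hr3 : ∀ p : ℕ, p.Prime → p ∣ r → p = 3)
    (h3q : 3 ∣ q) (hcard : Nat.card G = q ^ 3 * (q - 1) * (q ^ 3 + 1))
    (hcent : ∀ x : G, orderOf x = 2 → Nat.card (centralizer ({x} : Set G)) = q * (q ^ 2 - 1))
    (hnorm : ∀ p : ℕ, p.Prime → p ≠ 2 → p ∣ q - 1 → ∀ X : Subgroup G, Nat.card X = p →
      Nat.card (normalizer (X : Set G)) = 2 * (q - 1))
    (hN2 : ∃ C : Subgroup G, Nat.card C = (q + 1) / 4 ∧ Nat.card (normalizer (C : Set G)) = 6 * (q + 1) ∧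
      ∀ A₀ : Subgroup G, A₀ ≤ C → A₀ ≠ ⊥ → normalizer (A₀ : Set G) = normalizer (C : Set G))
    (hN3 : ∃ C : Subgroup G, Nat.card C = q - r + 1 ∧ Nat.card (normalizer (C : Set G)) = 6 * (q - r + 1) ∧
      ∀ A₀ : Subgroup G, A₀ ≤ C → A₀ ≠ ⊥ → normalizer (A₀ : Set G) = normalizer (C : Set G))
    (hN4 : ∃ C : Subgroup G, Nat.card C = q + r + 1 ∧ Nat.card (normalizer (C : Set G)) = 6 * (q + r + 1) ∧
      ∀ A₀ : Subgroup G, A₀ ≤ C → A₀ ≠ ⊥ → normalizer (A₀ : Set G) = normalizer (C : Set G))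
    (A : Subgroup G) (hA : IsMulCommutative A) : Nat.card A ≤ 12 * q ∨ Nat.card A ∣ q ^ 3 := by
  obtain ⟨q', rfl⟩ : ∃ q', q = q' + 1 := ⟨q - 1, by omega⟩
  set q := q' + 1 with hq
  have h3r : 3 * r ≤ q := by nlinarith
  have hrq : r ≤ q := by omega
  have hq'0 : 0 < q' := by omega
  obtain ⟨a, ha⟩ : ∃ a, q - r + 1 = a := ⟨_, rfl⟩
  have ha' : a + r = q + 1 := by omega
  set b := q + r + 1 with hb
  have hab : a * b + q = q ^ 2 + 1 := by
    have h1 : a * b + r * b = (q + 1) * b := by rw [← add_mul, ha']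
    have h2 : r * b = r * q + 3 * q + r := by rw [hb]; ring_nf; rw [sq, hqr]; ring
    have h3 : (q + 1) * b = q ^ 2 + 2 * q + 1 + r * q + r := by rw [hb]; ring
    omega
  have hcube : q ^ 3 + 1 = (q + 1) * (a * b) := by
    have h1 : (q + 1) * (a * b) + (q + 1) * q = (q + 1) * (q ^ 2 + 1) := by rw [← mul_add, hab]
    have h2 : (q + 1) * q = q ^ 2 + q := by ring
    have h3 : (q + 1) * (q ^ 2 + 1) = q ^ 3 + q ^ 2 + q + 1 := by ring
    omega
  have hG : Nat.card G = q ^ 3 * q' * ((q + 1) * (a * b)) := by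
    rw [hcard, hcube]
    rfl
  have hq4 : q + 1 = 4 * ((q + 1) / 4) := by omega
  have hq2 : q' = 2 * (q' / 2) := by omega
  have ha0' : 0 < a := by omega
  have hb0' : 0 < b := by omega
  have ha0 : a ≠ 0 := by omega
  have hb0 : b ≠ 0 := by omega
  have h5 : ∀ p : ℕ, p.Prime → p ≠ 2 → p ≠ 3 → ∀ A : Subgroup G, IsMulCommutative A → p ∣ Nat.card A →
      Nat.card A ≤ 12 * q := by
    intro p hp hp2 hp3 A hA hpA
    have hpq : ¬ p ∣ q := fun h => hp3 (hq3 p hp h)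
    have hpr : ¬ p ∣ r := fun h => hp3 (hr3 p hp h)
    have hpG : p ∣ q ^ 3 * q' * ((q + 1) * (a * b)) := hG ▸ hpA.trans (Subgroup.card_subgroup_dvd_card A)
    have hp4 : ¬ p ∣ 2 := fun h => hp2 ((Nat.prime_dvd_prime_iff_eq hp Nat.prime_two).1 h)
    have hp5 : ¬ p ∣ 3 := fun h => hp3 ((Nat.prime_dvd_prime_iff_eq hp Nat.prime_three).1 h)
    have hp6 : ¬ p ∣ 4 := fun h => hp4 (by
      have : p ∣ 2 ^ 2 := h
      exact hp.dvd_of_dvd_pow this)
    -- pairwise coprimality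
    have c1 : p ∣ q' → ¬ p ∣ q + 1 := by
      intro h1 h2
      apply hp4
      have : q + 1 = q' + 2 := by omega
      rw [this] at h2
      exact (Nat.dvd_add_right h1).1 h2
    have c2 : p ∣ q' → ¬ p ∣ a * b := by
      intro h1 h2
      have h3 : a * b = q' * q + 1 := by
        have : q ^ 2 + 1 = q' * q + q + 1 := by rw [hq]; ring
        omega
      rw [h3] at h2
      exact hp.one_lt.ne' (Nat.dvd_one.1 ((Nat.dvd_add_right (h1.mul_right q)).1 h2))
    have c3 : p ∣ q + 1 → ¬ p ∣ a * b := by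
      intro h1 h2
      apply hp5
      have h3 : a * b + 3 * q = (q + 1) ^ 2 := by
        have : (q + 1) ^ 2 = q ^ 2 + 2 * q + 1 := by ring
        omega
      have h4 : p ∣ a * b + 3 * q := by rw [h3]; exact h1.trans (dvd_pow_self _ (by norm_num))
      have h5 := (Nat.dvd_add_right h2).1 h4
      exact (hp.dvd_mul.1 h5).resolve_right hpq
    have c4 : p ∣ a → ¬ p ∣ b := by
      intro h1 h2
      have h3 : b = a + 2 * r := by omega
      rw [h3] at h2
      have h4 := (Nat.dvd_add_right h1).1 h2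
      rcases hp.dvd_mul.1 h4 with h | h
      · exact hp4 h
      · exact hpr h
    by_cases d1 : p ∣ q'
    · -- `q - 1`
      have : Fact p.Prime := ⟨hp⟩
      obtain ⟨x, hx⟩ := exists_prime_orderOf_dvd_card' p hpA
      have hX : Nat.card (zpowers (x : G)) = p := by
        rw [Nat.card_zpowers, Subgroup.orderOf_coe, hx]
      have h1 : A ≤ normalizer ((zpowers (x : G) : Subgroup G) : Set G) := by
        intro a ha
        refine Subgroup.centralizer_le_normalizer _ ?_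
        rw [Subgroup.mem_centralizer_iff]
        intro y hy
        obtain ⟨k, rfl⟩ := Subgroup.mem_zpowers_iff.1 hy
        have h2 : Commute ((x : G)) a := comm_iff.1 hA _ x.2 _ ha
        exact (h2.zpow_left k).eq
      have h2 := hnorm p hp hp2 d1 _ hX
      have h3 := Subgroup.card_le_of_le h1
      rw [h2] at h3
      omega
    by_cases d2 : p ∣ q + 1
    · obtain ⟨C, hC1, hC2, hC3⟩ := hN2
      have h1 := card_le_of_prime hp C ?_ hC3 hA hpA
      · rw [hC2] at h1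
        omega
      · rw [hC1, hG]
        have e : q ^ 3 * q' * ((q + 1) * (a * b)) = ((q + 1) / 4) * (4 * (q ^ 3 * q' * (a * b))) := by
          conv_lhs => rw [hq4]
          ring
        rw [e]
        refine factorization_eq (by omega) (by positivity) ?_
        intro h
        rcases hp.dvd_mul.1 h with h | h
        · exact hp6 h
        · rcases hp.dvd_mul.1 h with h | h
          · rcases hp.dvd_mul.1 h with h | h
            · exact hpq (hp.dvd_of_dvd_pow h)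
            · exact d1 h
          · exact c3 d2 h
    by_cases d3 : p ∣ a
    · obtain ⟨C, hC1, hC2, hC3⟩ := hN3
      have h1 := card_le_of_prime hp C ?_ hC3 hA hpA
      · rw [hC2] at h1
        omega
      · rw [hC1, hG, ha]
        have e : q ^ 3 * q' * ((q + 1) * (a * b)) = a * (q ^ 3 * q' * ((q + 1) * b)) := by ring
        rw [e]
        refine factorization_eq ha0 (by positivity) ?_
        intro h
        rcases hp.dvd_mul.1 h with h | h
        · rcases hp.dvd_mul.1 h with h | h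
          · exact hpq (hp.dvd_of_dvd_pow h)
          · exact d1 h
        · rcases hp.dvd_mul.1 h with h | h
          · exact d2 h
          · exact c4 d3 h
    have d4 : p ∣ b := by
      rcases hp.dvd_mul.1 hpG with h | h
      · rcases hp.dvd_mul.1 h with h | h
        · exact absurd (hp.dvd_of_dvd_pow h) hpq
        · exact absurd h d1
      · rcases hp.dvd_mul.1 h with h | h
        · exact absurd h d2
        · exact (hp.dvd_mul.1 h).resolve_left d3
    obtain ⟨C, hC1, hC2, hC3⟩ := hN4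
    have h1 := card_le_of_prime hp C ?_ hC3 hA hpA
    · rw [hC2] at h1
      omega
    · rw [hC1, hG]
      have e : q ^ 3 * q' * ((q + 1) * (a * b)) = b * (q ^ 3 * q' * ((q + 1) * a)) := by ring
      rw [e]
      refine factorization_eq hb0 (by positivity) ?_
      intro h
      rcases hp.dvd_mul.1 h with h | h
      · rcases hp.dvd_mul.1 h with h | h
        · exact hpq (hp.dvd_of_dvd_pow h)
        · exact d1 h
      · rcases hp.dvd_mul.1 h with h | h
        · exact d2 h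
        · exact d3 h
  by_cases hex : ∃ p : ℕ, p.Prime ∧ p ≠ 2 ∧ p ≠ 3 ∧ p ∣ Nat.card A
  · obtain ⟨p, hp, hp2, hp3, hpA⟩ := hex
    exact Or.inl (h5 p hp hp2 hp3 A hA hpA)
  push Not at hex
  by_cases h2A : 2 ∣ Nat.card A
  · have : Fact (Nat.Prime 2) := ⟨Nat.prime_two⟩
    obtain ⟨x, hx⟩ := exists_prime_orderOf_dvd_card' 2 h2A
    have h1 : A ≤ centralizer ({(x : G)} : Set G) := by
      intro a ha
      rw [mem_centralizer_singleton_iff]
      exact comm_iff.1 hA _ ha _ x.2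
    have h2 := Subgroup.card_dvd_of_le h1
    rw [hcent _ (by rw [Subgroup.orderOf_coe]; exact hx)] at h2
    have h3 : q * (q ^ 2 - 1) = 8 * q * (((q + 1) / 4) * (q' / 2)) := by
      have e1 : q ^ 2 - 1 = (q + 1) * q' := by
        have : q ^ 2 = (q + 1) * q' + 1 := by rw [hq]; ring
        omega
      rw [e1]
      conv_lhs => rw [hq4, hq2]
      ring
    rw [h3] at h2
    have h4 : Nat.Coprime (Nat.card A) (((q + 1) / 4) * (q' / 2)) := by
      rw [Nat.Coprime, Nat.eq_one_iff_not_exists_prime_dvd]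
      intro p hp hpd
      have hpA := hpd.trans (Nat.gcd_dvd_left _ _)
      have hpd := hpd.trans (Nat.gcd_dvd_right _ _)
      by_cases hp2 : p = 2
      · subst hp2
        rcases hp.dvd_mul.1 hpd with h | h <;> omega
      by_cases hp3 : p = 3
      · subst hp3
        rcases hp.dvd_mul.1 hpd with h | h <;> omega
      exact hex p hp hp2 hp3 hpA
    have h5 := Nat.le_of_dvd (by positivity) (h4.dvd_of_dvd_mul_right h2)
    exact Or.inl (by omega)
  · have h1 : Nat.card A ∣ q ^ 3 * (q' * ((q + 1) * (a * b))) := by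
      rw [← mul_assoc, ← hG]
      exact Subgroup.card_subgroup_dvd_card A
    have h4 : Nat.Coprime (Nat.card A) (q' * ((q + 1) * (a * b))) := by
      rw [Nat.Coprime, Nat.eq_one_iff_not_exists_prime_dvd]
      intro p hp hpd
      have hpA := hpd.trans (Nat.gcd_dvd_left _ _)
      have hpd := hpd.trans (Nat.gcd_dvd_right _ _)
      by_cases hp2 : p = 2
      · subst hp2
        exact h2A hpA
      by_cases hp3 : p = 3
      · subst hp3
        rw [← hcube] at hpd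
        rcases hp.dvd_mul.1 hpd with h | h
        · omega
        · have h6 : 3 ∣ q ^ 3 := h3q.trans (dvd_pow_self _ (by norm_num))
          have := (Nat.dvd_add_right h6).1 h
          omega
      exact hex p hp hp2 hp3 hpA
    exact Or.inr (h4.dvd_of_dvd_mul_right h1)

theorem orderOf_le {K : Type*} [Field K] [Fintype K] {m : ℕ} (hm : 1 ≤ m)
    (hK : Fintype.card K = 3 ^ (2 * m + 1)) (x : ↥(Cfsg.Lie.twistedG2 K (3 ^ m))) :
    orderOf x ≤ 12 * 3 ^ (2 * m + 1) := by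
  obtain ⟨U, h, n, D⟩ := Cfsg.Agent.ChevalleyStructure.Ree.Data.exists_data hK
  have hfin : Finite ↥(Cfsg.Lie.twistedG2 K (3 ^ m)) := finite D
  obtain ⟨P, hP⟩ := (Cfsg.Agent.H71.RoRee.ro hm hK D).syl
  have F := facts hm hK
  obtain ⟨_, _, hN2, hN3, hN4⟩ : ∃ _ : True, ∃ _ : True,
      (∃ C : Subgroup ↥(Cfsg.Lie.twistedG2 K (3 ^ m)), Nat.card C = (3 ^ (2 * m + 1) + 1) / 4 ∧
        Nat.card (normalizer (C : Set ↥(Cfsg.Lie.twistedG2 K (3 ^ m)))) = 6 * (3 ^ (2 * m + 1) + 1) ∧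
        ∀ A₀ : Subgroup ↥(Cfsg.Lie.twistedG2 K (3 ^ m)), A₀ ≤ C → A₀ ≠ ⊥ →
          normalizer (A₀ : Set ↥(Cfsg.Lie.twistedG2 K (3 ^ m))) =
            normalizer (C : Set ↥(Cfsg.Lie.twistedG2 K (3 ^ m)))) ∧
      (∃ C : Subgroup ↥(Cfsg.Lie.twistedG2 K (3 ^ m)), Nat.card C = 3 ^ (2 * m + 1) - 3 ^ (m + 1) + 1 ∧
        Nat.card (normalizer (C : Set ↥(Cfsg.Lie.twistedG2 K (3 ^ m)))) =
          6 * (3 ^ (2 * m + 1) - 3 ^ (m + 1) + 1) ∧
        ∀ A₀ : Subgroup ↥(Cfsg.Lie.twistedG2 K (3 ^ m)), A₀ ≤ C → A₀ ≠ ⊥ →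
          normalizer (A₀ : Set ↥(Cfsg.Lie.twistedG2 K (3 ^ m))) =
            normalizer (C : Set ↥(Cfsg.Lie.twistedG2 K (3 ^ m)))) ∧
      (∃ C : Subgroup ↥(Cfsg.Lie.twistedG2 K (3 ^ m)), Nat.card C = 3 ^ (2 * m + 1) + 3 ^ (m + 1) + 1 ∧
        Nat.card (normalizer (C : Set ↥(Cfsg.Lie.twistedG2 K (3 ^ m)))) =
          6 * (3 ^ (2 * m + 1) + 3 ^ (m + 1) + 1) ∧
        ∀ A₀ : Subgroup ↥(Cfsg.Lie.twistedG2 K (3 ^ m)), A₀ ≤ C → A₀ ≠ ⊥ →
          normalizer (A₀ : Set ↥(Cfsg.Lie.twistedG2 K (3 ^ m))) =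
            normalizer (C : Set ↥(Cfsg.Lie.twistedG2 K (3 ^ m)))) := by
    refine ⟨trivial, trivial, ?_, ?_, ?_⟩
    · obtain ⟨C, -, h1, h2, h3⟩ := Cfsg.Agent.S1158.result hm hK
        ((3 ^ (2 * m + 1) + 1) / 4, 6 * (3 ^ (2 * m + 1) + 1)) (by simp)
      exact ⟨C, h1, h2, h3⟩
    · obtain ⟨C, -, h1, h2, h3⟩ := Cfsg.Agent.S1158.result hm hK
        (3 ^ (2 * m + 1) - 3 ^ (m + 1) + 1, 6 * (3 ^ (2 * m + 1) - 3 ^ (m + 1) + 1)) (by simp)
      exact ⟨C, h1, h2, h3⟩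
    · obtain ⟨C, -, h1, h2, h3⟩ := Cfsg.Agent.S1158.result hm hK
        (3 ^ (2 * m + 1) + 3 ^ (m + 1) + 1, 6 * (3 ^ (2 * m + 1) + 3 ^ (m + 1) + 1)) (by simp)
      exact ⟨C, h1, h2, h3⟩
  have hcard := F.card
  have hcent : ∀ x : ↥(Cfsg.Lie.twistedG2 K (3 ^ m)), orderOf x = 2 →
      Nat.card (centralizer ({x} : Set ↥(Cfsg.Lie.twistedG2 K (3 ^ m)))) =
        3 ^ (2 * m + 1) * ((3 ^ (2 * m + 1)) ^ 2 - 1) := by
    intro x hx
    obtain ⟨s, hs, ⟨e⟩⟩ := F.cent
    obtain ⟨g, rfl⟩ := isConj_iff.1 (F.conj s x hs hx)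
    have h1 : Nat.card (centralizer ({s} : Set ↥(Cfsg.Lie.twistedG2 K (3 ^ m)))) =
        3 ^ (2 * m + 1) * ((3 ^ (2 * m + 1)) ^ 2 - 1) := by
      rw [Nat.card_congr e.toEquiv, Nat.card_prod, Nat.card_eq_fintype_card (α := Multiplicative (ZMod 2)),
        Fintype.card_multiplicative, ZMod.card]
      have h2 := Cfsg.Agent.ClassicalGeometry.PSL2Basic.card_PSL2_odd (F := K) (by
        rw [hK]
        exact Odd.pow (by decide))
      rw [hK] at h2
      exact h2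
    rw [← h1]
    refine Nat.card_congr
      { toFun := fun y => ⟨g⁻¹ * y * g, ?_⟩
        invFun := fun y => ⟨g * y * g⁻¹, ?_⟩
        left_inv := fun y => Subtype.ext (by simp only; group)
        right_inv := fun y => Subtype.ext (by simp only; group) }
    · have h := mem_centralizer_singleton_iff.1 y.2
      rw [mem_centralizer_singleton_iff]
      have h3 : g⁻¹ * (y : ↥(Cfsg.Lie.twistedG2 K (3 ^ m))) * g * s = g⁻¹ * (y * (g * s * g⁻¹)) * g := by group
      rw [h3, h]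
      group
    · have h := mem_centralizer_singleton_iff.1 y.2
      rw [mem_centralizer_singleton_iff]
      have h3 : g * (y : ↥(Cfsg.Lie.twistedG2 K (3 ^ m))) * g⁻¹ * (g * s * g⁻¹) = g * (y * s) * g⁻¹ := by group
      rw [h3, h]
      group
  have hnorm := F.norm
  have h27 := four_lt hm
  have h8 := mod_eight m
  have hr9 : 9 ≤ 3 ^ (m + 1) := by
    have := Nat.pow_le_pow_right (n := 3) (by norm_num) (show 2 ≤ m + 1 by omega)
    norm_num at this
    exact this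
  have hqr : 3 ^ (m + 1) * 3 ^ (m + 1) = 3 * 3 ^ (2 * m + 1) := by
    rw [← pow_add, ← pow_succ']
    congr 1
    ring
  have hq3 : ∀ p : ℕ, p.Prime → p ∣ 3 ^ (2 * m + 1) → p = 3 := fun p hp hpd =>
    (Nat.prime_dvd_prime_iff_eq hp Nat.prime_three).1 (hp.dvd_of_dvd_pow hpd)
  have hr3 : ∀ p : ℕ, p.Prime → p ∣ 3 ^ (m + 1) → p = 3 := fun p hp hpd =>
    (Nat.prime_dvd_prime_iff_eq hp Nat.prime_three).1 (hp.dvd_of_dvd_pow hpd)
  have h3q : 3 ∣ 3 ^ (2 * m + 1) := dvd_pow_self 3 (by omega)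
  have h1 := dich_of_facts h27 h8 hr9 hqr hq3 hr3 h3q hcard hcent hnorm hN2 hN3 hN4 (zpowers x) inferInstance
  rw [Nat.card_zpowers] at h1
  rcases h1 with h1 | h1
  · exact h1
  -- a `3`-element
  have h2 : IsPGroup 3 (zpowers x) := by
    rw [← pow_mul] at h1
    have : Fact (Nat.Prime 3) := ⟨Nat.prime_three⟩
    obtain ⟨k, -, hk⟩ := (Nat.dvd_prime_pow Nat.prime_three).1 h1
    exact IsPGroup.of_card (n := k) (by rw [Nat.card_zpowers, hk])
  have : Fact (Nat.Prime 3) := ⟨Nat.prime_three⟩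
  obtain ⟨Q, hQ⟩ := h2.exists_le_sylow
  obtain ⟨g, hg⟩ := MulAction.exists_smul_eq ↥(Cfsg.Lie.twistedG2 K (3 ^ m)) Q P
  have h3 : (P : Subgroup ↥(Cfsg.Lie.twistedG2 K (3 ^ m))) =
      (Q : Subgroup ↥(Cfsg.Lie.twistedG2 K (3 ^ m))).map (MulAut.conj g).toMonoidHom := by
    rw [← hg]
    rfl
  have h4 : MulAut.conj g x ∈ uSub D := by
    rw [← hP, h3]
    exact ⟨x, hQ (mem_zpowers x), rfl⟩
  have hch : CharP K 3 := LieRecognition.ReeAbs.charP_three hK
  have h5 := pow_nine (by exact_mod_cast CharP.cast_eq_zero K 3) D h4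
  have h6 : orderOf x ≤ 9 := by
    refine orderOf_le_of_pow_eq_one (by norm_num) ?_
    rw [← map_pow] at h5
    exact (MulAut.conj g).injective (h5.trans (map_one _).symm)
  omega


theorem le_three_pow {k : ℕ} (hk : 3 ≤ k) : 8 * k + 1 ≤ 3 ^ k := by
  induction k, hk using Nat.le_induction with
  | base => norm_num
  | succ n hn ih =>
    rw [pow_succ]
    omega

/-- the orders of the automorphisms -/
theorem exists_mo {K : Type*} [Field K] [Fintype K] {m : ℕ} (hm : 1 ≤ m)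
    (hK : Fintype.card K = 3 ^ (2 * m + 1)) :
    ∃ M, Mo ↥(Cfsg.Lie.twistedG2 K (3 ^ m)) M ∧ 2 * M ≤ 3 * ((3 ^ (2 * m + 1)) ^ 2 - 3 ^ (2 * m + 1) + 1) := by
  obtain ⟨U, h, n, D⟩ := Cfsg.Agent.ChevalleyStructure.Ree.Data.exists_data hK
  have hfin : Finite ↥(Cfsg.Lie.twistedG2 K (3 ^ m)) := finite D
  refine ⟨_, mo_of_out (S2127.result hm hK) (by omega) (orderOf_le hm hK), ?_⟩
  have h1 := le_three_pow (k := 2 * m + 1) (by omega)
  generalize 3 ^ (2 * m + 1) = q at h1 ⊢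
  generalize 2 * m + 1 = f at h1 ⊢
  obtain ⟨d, rfl⟩ := Nat.exists_eq_add_of_le h1
  have h2 : (8 * f + 1 + d) ^ 2 - (8 * f + 1 + d) = (8 * f + 1 + d) * (8 * f + d) := by
    rw [show (8 * f + 1 + d) ^ 2 = (8 * f + 1 + d) * (8 * f + d) + (8 * f + 1 + d) by ring, Nat.add_sub_cancel]
  rw [h2]
  nlinarith [Nat.zero_le (d * f), Nat.zero_le (d * d), Nat.zero_le (f * f)]

/-- **Small Ree groups** -/
theorem smC_ree {T : Type u} [Group T] (h : Lie.IsoRee T) : SmC T := by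
  obtain ⟨K, _, _, m, hm, hK, ⟨e⟩⟩ := h
  refine SmC.congr (T := ↥(Cfsg.Lie.twistedG2 K (3 ^ m))) ?_ e.symm
  obtain ⟨M, h1, h2⟩ := exists_mo hm hK
  exact ⟨M, _, h1, md_of_rep (S2343.result m hm hK), h2⟩

theorem ord_ree {T : Type u} [Group T] (h : Lie.IsoRee T) : H384.Cyc.Ord T := by
  obtain ⟨K, _, _, m, hm, hK, ⟨e⟩⟩ := h
  refine H384.Cyc.Ord.congr (T := ↥(Cfsg.Lie.twistedG2 K (3 ^ m))) ?_ e.symm
  obtain ⟨M, h1, h2⟩ := exists_mo hm hK
  refine ⟨M, h1, ?_⟩
  have hcard := (facts hm hK).card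
  rw [hcard]
  have h27 := four_lt hm
  generalize 3 ^ (2 * m + 1) = q at h27 h2 ⊢
  obtain ⟨k, rfl⟩ := Nat.exists_eq_add_of_le h27
  have h3 : 3 * ((27 + k) ^ 2 - (27 + k) + 1) ≤ 3 * (27 + k) ^ 2 := by
    have h5 : 1 ≤ 27 + k := by omega
    have h4 : 27 + k ≤ (27 + k) ^ 2 := by nlinarith
    omega
  have h4 : (2 * M) * (2 * M) ≤ (3 * (27 + k) ^ 2) * (3 * (27 + k) ^ 2) := Nat.mul_le_mul (h2.trans h3) (h2.trans h3)
  have h5 : (3 * (27 + k) ^ 2) * (3 * (27 + k) ^ 2) < 2 * ((27 + k) ^ 3 * (27 + k - 1) * ((27 + k) ^ 3 + 1)) := by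
    rw [show 27 + k - 1 = 26 + k by omega]
    have h6 : 9 * (27 + k) < 2 * ((26 + k) * ((27 + k) ^ 3 + 1)) := by nlinarith [Nat.zero_le k, Nat.zero_le (k * k), Nat.zero_le (k * k * k)]
    calc (3 * (27 + k) ^ 2) * (3 * (27 + k) ^ 2) = (9 * (27 + k)) * (27 + k) ^ 3 := by ring
      _ < (2 * ((26 + k) * ((27 + k) ^ 3 + 1))) * (27 + k) ^ 3 := Nat.mul_lt_mul_of_pos_right h6 (by positivity)
      _ = _ := by ring
  nlinarith

end Cfsg.Agent.H753.CycRee
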