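import Cfsg.Agent.H753.CycSz
import Cfsg.Agent.H753.CycRee
import Cfsg.Agent.H482.TwoCyc.Row

/-!
# TEAM TWOCYC (S3507): the rows `Sz(q)` and `²G₂(q)` (helper753, task 2961)
-/

set_option autoImplicit false

namespace Cfsg.Agent.H753.Cyc

open Cfsg Cfsg.Agent.H384.Cyc

universe u v

/-- **Suzuki groups** -/
theorem row_sz : Row3.{u, v} (fun T _ => Lie.IsoSuzuki T) :=
  fun G Ω _ _ T g h hT => H482.TwoCyc.row_smC G Ω T g h (CycSz.smC_sz hT)

/-- **Small Ree groups** -/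
theorem row_ree : Row3.{u, v} (fun T _ => Lie.IsoRee T) :=
  fun G Ω _ _ T g h hT => H482.TwoCyc.row_smC G Ω T g h (CycRee.smC_ree hT)

theorem ord_sz {T : Type u} [Group T] (h : Lie.IsoSuzuki T) : H384.Cyc.Ord T := CycSz.ord_sz h

theorem ord_ree {T : Type u} [Group T] (h : Lie.IsoRee T) : H384.Cyc.Ord T := CycRee.ord_ree h

end Cfsg.Agent.H753.Cyc
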