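import Cfsg.Agent.H415.IRow.Ree
import Cfsg.Agent.H533.Wf.Kills
import Cfsg.Agent.H897.T5Sub
import Cfsg.Agent.S1163

/-!
# S3826, `p = 3`: the small Ree groups and the Suzuki groups (helper753, task 4029)

* `exists_conj_fld` : automorphisms of order three of field type of `²G₂(q)` are conjugate to field automorphisms;
* `wrow_ree` : `WRow 3` for `²G₂(q)`;
* `wf_ree`, `wf_sz` : `WfRow 3`.
-/

set_option autoImplicit false
set_option linter.unusedSectionVars false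

namespace Cfsg.Agent.H753.WfRee

open MulAction Subgroup Cfsg Cfsg.Agent.H521.AAOne Cfsg.Agent.H533.T5
open Cfsg.Agent Cfsg.Agent.H521.AARee
open Cfsg.Agent.LieRecognition.ReeAbs Cfsg.Agent.LieRecognition.ReeSylowThree Cfsg.Agent.LieRecognition.ReeSplit
open scoped Pointwise

universe u v

/-- in a cyclic group all elements of order `r` generate the same subgroup -/
theorem mem_zpowers_cyc {C : Type*} [Group C] [Finite C] [IsCyclic C] {r : ℕ} {a b : C} (ha : orderOf a = r)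
    (hb : orderOf b = r) (hr : 0 < r) : b ∈ Subgroup.zpowers a := by
  classical
  have : Fintype C := Fintype.ofFinite C
  have h1 : (Finset.univ.filter fun x : C => x ^ r = 1).card ≤ r := IsCyclic.card_pow_eq_one_le hr
  have h2 : (Finset.univ.filter fun x : C => x ∈ Subgroup.zpowers a) ⊆ Finset.univ.filter fun x : C => x ^ r = 1 := by
    intro x hx
    rw [Finset.mem_filter] at hx ⊢
    obtain ⟨j, rfl⟩ := hx.2
    refine ⟨hx.1, ?_⟩
    change (a ^ j) ^ r = 1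
    rw [← ha, ← zpow_natCast, ← zpow_mul, mul_comm, zpow_mul, zpow_natCast, pow_orderOf_eq_one, one_zpow]
  have h3 : (Finset.univ.filter fun x : C => x ∈ Subgroup.zpowers a).card = r := by
    rw [← ha, ← Nat.card_zpowers, Nat.card_eq_fintype_card, Fintype.card_subtype]
  have h4 := Finset.eq_of_subset_of_card_le h2 (by rw [h3]; exact h1)
  have h5 : b ∈ Finset.univ.filter fun x : C => x ^ r = 1 := by
    rw [Finset.mem_filter]
    exact ⟨Finset.mem_univ _, by rw [← hb]; exact pow_orderOf_eq_one b⟩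
  rw [← h4, Finset.mem_filter] at h5
  exact h5.2

/-! ### rank one groups -/

section RO

variable {K : Type*} [Group K] {r : ℕ} [hr : Fact r.Prime]

/-- a nontrivial `r`-element fixes only one point -/
theorem eq_of_fix [Finite K] (R : RO K r) {k : K} {j : ℕ} (hk : k ^ r ^ j = 1) (hk1 : k ≠ 1) {P Q : Sylow r K}
    (hP : k • P = P) (hQ : k • Q = Q) : P = Q := by
  obtain ⟨g, hg⟩ := MulAction.exists_smul_eq K P R.S
  obtain ⟨k', hk'⟩ : ∃ k', k' = g * k * g⁻¹ := ⟨_, rfl⟩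
  have hfix : ∀ T : Sylow r K, k • T = T → k' • (g • T) = g • T := by
    intro T hT
    rw [hk', mul_smul, mul_smul, inv_smul_smul, hT]
  have hk'1 : k' ≠ 1 := fun h => hk1 (by rwa [hk', conj_eq_one_iff] at h)
  have hk'p : k' ^ r ^ j = 1 := by rw [hk', conj_pow, hk, mul_one, mul_inv_cancel]
  have h1 := hfix P hP
  rw [hg] at h1
  have h2 : k' ∈ (R.S : Subgroup K) := by
    have h3 : IsPGroup r (zpowers k') := by
      rw [IsPGroup.iff_orderOf]
      rintro ⟨x, hx⟩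
      obtain ⟨i, rfl⟩ := mem_zpowers_iff.1 hx
      have h4 : (k' ^ i) ^ r ^ j = 1 := by rw [← zpow_natCast, ← zpow_mul, mul_comm, zpow_mul, zpow_natCast, hk'p, one_zpow]
      obtain ⟨l, -, hl⟩ := (Nat.dvd_prime_pow hr.out).1 (orderOf_dvd_of_pow_eq_one h4)
      exact ⟨l, by rw [Subgroup.orderOf_mk, hl]⟩
    have h5 := h3.inf_normalizer_sylow R.S
    have h6 : k' ∈ zpowers k' ⊓ normalizer ((R.S : Subgroup K) : Set K) :=
      ⟨mem_zpowers k', (smul_eq_self_iff _ _).1 h1⟩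
    have h7 : k' ∈ zpowers k' ⊓ (R.S : Subgroup K) := by
      rw [← h5]
      exact h6
    exact h7.2
  have h3 := hfix Q hQ
  rcases R.br (g • Q) with h4 | ⟨u, hu, h4⟩
  · exact smul_left_cancel g (hg.trans h4.symm)
  · exfalso
    rw [h4, ← mul_smul, ← mul_assoc] at h3
    have h5 := R.inj' (mul_mem h2 hu) hu h3
    exact hk'1 (by rwa [mul_eq_right] at h5)

/-- a `r`-group of automorphisms fixes a point -/
theorem exists_fix [Finite K] {H : Subgroup (MulAut K)} (hH : IsPGroup r H) : ∃ P : Sylow r K, ∀ x ∈ H, x • P = P := by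
  have h1 : ¬ r ∣ Nat.card (Sylow r K) := by
    intro h
    have h2 := card_sylow_modEq_one r K
    have h3 := (Nat.modEq_zero_iff_dvd).2 h
    have h4 := (h3.symm.trans h2)
    exact hr.out.one_lt.ne' (Nat.dvd_one.1 ((Nat.modEq_zero_iff_dvd).1 h4.symm))
  obtain ⟨P, hP⟩ := hH.nonempty_fixed_point_of_prime_not_dvd_card (Sylow r K) h1
  exact ⟨P, fun x hx => hP ⟨x, hx⟩⟩

/-- an automorphism fixing all points is trivial -/
theorem eq_one_of_fix_all [Finite K] [IsSimpleGroup K] (R : RO K r) {x : MulAut K} (hx : ∀ P : Sylow r K, x • P = P) :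
    x = 1 := by
  have hker : (MulAction.toPermHom K (Sylow r K)).ker = ⊥ := by
    rcases (inferInstance : (MulAction.toPermHom K (Sylow r K)).ker.Normal).eq_bot_or_eq_top with h | h
    · exact h
    · exfalso
      have h1 : R.w ∈ (MulAction.toPermHom K (Sylow r K)).ker := by rw [h]; exact mem_top _
      apply R.ne
      have h2 := congrArg (fun f : Equiv.Perm (Sylow r K) => f R.S) (MonoidHom.mem_ker.1 h1)
      exact h2
  ext k
  have h1 : k⁻¹ * x k ∈ (MulAction.toPermHom K (Sylow r K)).ker := by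
    rw [MonoidHom.mem_ker]
    ext1 P
    show (k⁻¹ * x k) • P = P
    rw [mul_smul, inv_smul_eq_iff]
    have h2 := aut_smul x k P
    rw [hx, hx] at h2
    exact h2.symm
  rw [hker, mem_bot, inv_mul_eq_one] at h1
  exact h1.symm

/-- an inner automorphism of order `r` and an arbitrary automorphism -/
theorem wpair_inner [Finite K] [IsSimpleGroup K] (R : RO K r) {k : K} {j : ℕ} (hk : k ^ r ^ j = 1) (hk1 : k ≠ 1)
    {d : MulAut K} (hd : d ≠ 1) : WPair r (MulAut.conj : K →* MulAut K).range (MulAut.conj k) d := by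
  by_contra hcon
  have hall : ∀ g : K, IsPGroup r ↥(Subgroup.closure ({MulAut.conj k, MulAut.conj g * d * (MulAut.conj g)⁻¹} :
      Set (MulAut K))) := by
    intro g
    by_contra h
    exact hcon ⟨MulAut.conj g, ⟨g, rfl⟩, h⟩
  obtain ⟨P₀, hP₀⟩ := exists_fix (hall 1)
  have hkP₀ : k • P₀ = P₀ := hP₀ (MulAut.conj k) (Subgroup.subset_closure (by simp))
  have hg : ∀ g : K, (MulAut.conj g * d * (MulAut.conj g)⁻¹) • P₀ = P₀ := by
    intro g
    obtain ⟨P, hP⟩ := exists_fix (hall g)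
    have h1 : k • P = P := hP (MulAut.conj k) (Subgroup.subset_closure (by simp))
    rw [eq_of_fix R hk hk1 hkP₀ h1]
    exact hP _ (Subgroup.subset_closure (by simp))
  apply hd
  refine eq_one_of_fix_all R fun P => ?_
  obtain ⟨g, rfl⟩ := MulAction.exists_smul_eq K P₀ P
  have h1 := hg g⁻¹
  rw [mul_smul, mul_smul, ← map_inv, inv_inv, smul_mulAut, smul_mulAut, inv_smul_eq_iff] at h1
  exact h1

end RO

/-! ### automorphisms of field type -/

section Data

variable {K : Type*} [Field K] [Fintype K] {G : Type u} [Group G] {m : ℕ} {U : K → K → K → G} {h : Kˣ → G} {n : G}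
  {Φ : (K ≃+* K) → MulAut G}

open Cfsg.Agent.H71.ReeOut (Fld)

/-- `conj g * Φ τ` is conjugate to `Φ τ` -/
def Cj (Φ : (K ≃+* K) → MulAut G) (τ : K ≃+* K) (g : G) : Prop := ∃ k : G, k * g * (Φ τ k)⁻¹ = 1

omit [Fintype K] in
theorem Cj.of_conj {τ : K ≃+* K} {g : G} (k : G) (h1 : Cj Φ τ (k * g * (Φ τ k)⁻¹)) : Cj Φ τ g := by
  obtain ⟨k', h2⟩ := h1
  refine ⟨k' * k, ?_⟩
  rw [map_mul, ← h2]
  group

/-- **automorphisms of order three with a fixed Sylow `3`-subgroup and nontrivial field part are conjugate to field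
automorphisms** -/
theorem exists_conj_fld (hK : Fintype.card K = 3 ^ (2 * m + 1)) (D : Data m U h n) (Fl : Fld D Φ) {τ : K ≃+* K}
    (hτ : τ ^ 3 = 1) (hτ1 : τ ≠ 1) (hΦ : ∀ y, Φ τ (Φ τ (Φ τ y)) = y) {g : G} (hg : g ∈ bSub D)
    (hN : Nm Φ τ g) : Cj Φ τ g := by
  have h3 : (3 : K) = 0 := LieRecognition.ReeSplit.three_eq_zero hK
  obtain ⟨t, u, v, a, rfl⟩ := hg
  -- the torus part
  have hprod : ∀ (t u v : K) (a : Kˣ) (t' u' v' : K) (a' : Kˣ), ∃ t'' u'' v'',
      U t u v * h a * (U t' u' v' * h a') = U t'' u'' v'' * h (a * a') := by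
    intro t u v a t' u' v' a'
    rw [mul_assoc (U t u v), U_h_eq D, ← mul_assoc, D.U_mul]
    exact ⟨_, _, _, rfl⟩
  have hΦB : ∀ (t u v : K) (a : Kˣ), Φ τ (U t u v * h a) = U (τ t) (τ u) (τ v) * h (Units.mapEquiv τ.toMulEquiv a) := by
    intro t u v a
    rw [map_mul, Fl.onU, Fl.onH]
  obtain ⟨c, hc⟩ : ∃ c : Kˣ, c * a = Units.mapEquiv τ.toMulEquiv c := by
    have h4 : a * Units.mapEquiv τ.toMulEquiv a * Units.mapEquiv τ.toMulEquiv (Units.mapEquiv τ.toMulEquiv a) = 1 := by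
      have h5 := hN
      unfold Nm at h5
      rw [hΦB, hΦB] at h5
      obtain ⟨t₁, u₁, v₁, e1⟩ := hprod t u v a (τ t) (τ u) (τ v) (Units.mapEquiv τ.toMulEquiv a)
      rw [e1] at h5
      obtain ⟨t₂, u₂, v₂, e2⟩ := hprod t₁ u₁ v₁ (a * Units.mapEquiv τ.toMulEquiv a) (τ (τ t)) (τ (τ u)) (τ (τ v))
        (Units.mapEquiv τ.toMulEquiv (Units.mapEquiv τ.toMulEquiv a))
      rw [e2] at h5
      have h6 : U t₂ u₂ v₂ * h (a * Units.mapEquiv τ.toMulEquiv a *
          Units.mapEquiv τ.toMulEquiv (Units.mapEquiv τ.toMulEquiv a)) = U 0 0 0 * h 1 := by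
        rw [h5, D.U_zero, D.h_one, one_mul]
      exact (D.inj₁ _ _ _ _ _ _ _ _ h6).2.2.2
    have h5 : BpLin.nrm τ 3 (a : K) = 1 := by
      have h6 := congrArg Units.val h4
      rw [BpLin.nrm, Finset.prod_range_succ, Finset.prod_range_succ, Finset.prod_range_succ, Finset.prod_range_zero]
      rw [one_mul]
      exact h6
    obtain ⟨y, hy0, hy⟩ := BpLin.exists_units Nat.prime_three hτ hτ1 h5
    refine ⟨(Units.mk0 y hy0)⁻¹, Units.ext ?_⟩
    show y⁻¹ * (a : K) = τ y⁻¹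
    have hy1 : τ y ≠ 0 := by
      intro h6
      exact hy0 ((map_eq_zero τ).1 h6)
    rw [map_inv₀, inv_mul_eq_iff_eq_mul₀ hy0, eq_mul_inv_iff_mul_eq₀ hy1]
    exact hy
  refine Cj.of_conj (h c) ?_
  have hN1 := hN.conj hΦ (h c)
  obtain ⟨t₁, u₁, v₁, e1⟩ : ∃ t₁ u₁ v₁, h c * (U t u v * h a) * (Φ τ (h c))⁻¹ = U t₁ u₁ v₁ := by
    rw [U_h_eq D, Fl.onH, hc, mul_inv_cancel_right]
    exact ⟨_, _, _, rfl⟩
  rw [e1] at hN1 ⊢
  -- the first coordinate
  obtain ⟨s, hs⟩ : ∃ s, s - τ s = -t₁ := by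
    refine exists_sub h3 hτ hτ1 ?_
    have h5 := hN1
    unfold Nm at h5
    rw [Fl.onU, Fl.onU, D.U_mul, D.U_mul, ← D.U_zero] at h5
    obtain ⟨h6, -, -⟩ := U_injective D h5
    rw [map_neg, map_neg]
    linear_combination -h6
  refine Cj.of_conj (U s 0 0) ?_
  have hN2 := hN1.conj hΦ (U s 0 0)
  obtain ⟨u₂, v₂, e2⟩ : ∃ u₂ v₂, U s 0 0 * U t₁ u₁ v₁ * (Φ τ (U s 0 0))⁻¹ = U 0 u₂ v₂ := by
    obtain ⟨t', u', v', h5⟩ := U_inv D (τ s) (τ 0) (τ 0)
    rw [Fl.onU, h5, D.U_mul, D.U_mul]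
    have h6 : U (τ s) (τ 0) (τ 0) * U t' u' v' = 1 := by rw [← h5, mul_inv_cancel]
    rw [D.U_mul, ← D.U_zero] at h6
    obtain ⟨h7, -, -⟩ := U_injective D h6
    have h8 : s + t₁ + t' = 0 := by linear_combination hs + h7
    rw [h8]
    exact ⟨_, _, rfl⟩
  rw [e2] at hN2 ⊢
  -- the other coordinates
  have hadd : ∀ u v u' v' : K, U 0 u v * U 0 u' v' = U 0 (u + u') (v + v') := fun u v u' v' =>
    H71.ReeOut.U_add0 D 0 u v u' v'
  have hN3 : u₂ + τ u₂ + τ (τ u₂) = 0 ∧ v₂ + τ v₂ + τ (τ v₂) = 0 := by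
    have h5 := hN2
    unfold Nm at h5
    rw [Fl.onU, map_zero, Fl.onU, map_zero, hadd, hadd, ← D.U_zero] at h5
    obtain ⟨-, h6, h7⟩ := U_injective D h5
    exact ⟨h6, h7⟩
  obtain ⟨w, hw⟩ : ∃ w, w - τ w = -v₂ := by
    refine exists_sub h3 hτ hτ1 ?_
    rw [map_neg, map_neg]
    linear_combination -hN3.2
  obtain ⟨w', hw'⟩ : ∃ w', w' - τ w' = -u₂ := by
    refine exists_sub h3 hτ hτ1 ?_
    rw [map_neg, map_neg]
    linear_combination -hN3.1
  refine ⟨U 0 w' w, ?_⟩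
  rw [Fl.onU, map_zero, mul_inv_eq_iff_eq_mul, hadd, one_mul]
  congr 1
  · linear_combination hw'
  · linear_combination hw

/-- **The weak row.** -/
theorem wrow_data [Finite G] [IsSimpleGroup G] (hna : ¬ IsMulCommutative G)
    (hK : Fintype.card K = 3 ^ (2 * m + 1)) (D : Data m U h n) (Fl : Fld D Φ)
    (hmul : ∀ τ ρ, Φ (τ * ρ) = Φ τ * Φ ρ) (haut : ∀ α : MulAut G, ∃ (g : G) (τ : K ≃+* K), α = MulAut.conj g * Φ τ) :
    WRow 3 G := by
  classical
  intro c d hc hd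
  have hp3' : Fact (Nat.Prime 3) := ⟨Nat.prime_three⟩
  have hcen : Subgroup.center G = ⊥ := center_eq_bot_of_simple hna
  have hconj := conj_injective_of_simple (S := G) hna
  have hΦ1 : Φ 1 = 1 := by
    have h1 := hmul 1 1
    rw [mul_one] at h1
    exact mul_eq_left.1 h1.symm
  have hΦpow : ∀ (τ : K ≃+* K) (k : ℕ), Φ (τ ^ k) = Φ τ ^ k := by
    intro τ k
    induction k with
    | zero => rw [pow_zero, pow_zero, hΦ1]
    | succ k ih => rw [pow_succ, pow_succ, hmul, ih]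
  have hpowτ : ∀ {y : MulAut G} {g : G} {τ : K ≃+* K} {k : ℕ}, y ^ k = 1 → y = MulAut.conj g * Φ τ → τ ^ k = 1 := by
    intro y g τ k hy hyg
    have h1 : QuotientGroup.mk' (Cfsg.Inn G) (Φ τ ^ k) = 1 := by
      have h2 : QuotientGroup.mk' (Cfsg.Inn G) (MulAut.conj g) = 1 :=
        (QuotientGroup.eq_one_iff _).2 ⟨g, rfl⟩
      have h3 : QuotientGroup.mk' (Cfsg.Inn G) (y ^ k) = 1 := by rw [hy, map_one]
      rw [hyg, map_pow, map_mul, h2, one_mul] at h3
      rw [map_pow]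
      exact h3
    rw [← hΦpow] at h1
    obtain ⟨g', hg'⟩ := (QuotientGroup.eq_one_iff _).1 h1
    exact fld_one D Fl hg'.symm hK
  obtain ⟨S, hS⟩ := H71.ReeOut.exists_sylow hK D
  have T : RO G 3 := ofData D S hS
  -- inner automorphisms
  have hin : ∀ {x y : MulAut G}, orderOf x = 3 → orderOf y = 3 → (∃ g, x = MulAut.conj g) →
      WPair 3 (MulAut.conj : G →* MulAut G).range x y := by
    rintro x y hx hy ⟨g, rfl⟩
    refine wpair_inner T (j := 1) ?_ ?_ ?_
    · apply hconj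
      rw [pow_one, map_pow, map_one, ← hx, pow_orderOf_eq_one]
    · rintro rfl
      rw [map_one, orderOf_one] at hx
      norm_num at hx
    · rintro rfl
      rw [orderOf_one] at hy
      norm_num at hy
  by_cases hci : ∃ g, c = MulAut.conj g
  · exact hin hc hd hci
  by_cases hdi : ∃ g, d = MulAut.conj g
  · exact (hin hd hc hdi).symm
  -- field type
  have key : ∀ {x : MulAut G}, orderOf x = 3 → (¬ ∃ g, x = MulAut.conj g) →
      ∃ (g : G) (τ : K ≃+* K), orderOf τ = 3 ∧ MulAut.conj g * x * (MulAut.conj g)⁻¹ = Φ τ := by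
    intro x hx hxo
    have hxp : x ^ 3 = 1 := by rw [← hx, pow_orderOf_eq_one]
    obtain ⟨P, hP⟩ := exists_fix (r := 3) (H := zpowers x) (IsPGroup.of_card (n := 1) (by
      rw [Nat.card_zpowers, hx, pow_one]))
    have hPx := hP x (mem_zpowers x)
    obtain ⟨g, hg⟩ := MulAction.exists_smul_eq G P S
    obtain ⟨y, hy⟩ : ∃ y, y = MulAut.conj g * x * (MulAut.conj g)⁻¹ := ⟨_, rfl⟩
    have hyS : y • S = S := by
      rw [hy, mul_smul, mul_smul, ← map_inv, smul_mulAut, smul_mulAut, ← hg, inv_smul_smul, hPx]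
    have hyp : y ^ 3 = 1 := by rw [hy, conj_pow, hxp, mul_one, mul_inv_cancel]
    obtain ⟨k, τ, hkτ⟩ := haut y
    have hτ3 := hpowτ hyp hkτ
    have hτ1 : τ ≠ 1 := by
      rintro rfl
      apply hxo
      refine ⟨g⁻¹ * k * g, ?_⟩
      rw [hΦ1, mul_one] at hkτ
      have h1 : x = (MulAut.conj g)⁻¹ * y * MulAut.conj g := by rw [hy]; group
      rw [h1, hkτ, map_mul, map_mul, map_inv]
    have hkB : k ∈ bSub D := by
      have h1 : k • S = S := by
        have h2 := hyS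
        rw [hkτ, mul_smul, smul_S D S hS Fl τ, smul_mulAut] at h2
        exact h2
      have h2 := (smul_eq_self_iff _ _).1 h1
      rwa [hS, mem_N_iff] at h2
    have hΦ3 : ∀ z, Φ τ (Φ τ (Φ τ z)) = z := by
      intro z
      have h1 := hΦpow τ 3
      rw [hτ3, hΦ1] at h1
      have h2 := congrArg (fun f : MulAut G => f z) h1
      simpa [pow_succ] using h2.symm
    have hNm : Nm Φ τ k := by
      apply hconj
      rw [map_one, map_mul, map_mul]
      rw [H521.AAFld.conj_aut, H521.AAFld.conj_aut, H521.AAFld.conj_aut]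
      have h1 := hyp
      rw [hkτ, pow_succ, pow_two] at h1
      have h2 : Φ τ * Φ τ * Φ τ = 1 := by
        have h3 := hΦpow τ 3
        rw [hτ3, hΦ1, pow_succ, pow_two] at h3
        exact h3.symm
      calc MulAut.conj k * (Φ τ * MulAut.conj k * (Φ τ)⁻¹) * (Φ τ * (Φ τ * MulAut.conj k * (Φ τ)⁻¹) * (Φ τ)⁻¹) =
          (MulAut.conj k * Φ τ * (MulAut.conj k * Φ τ) * (MulAut.conj k * Φ τ)) * (Φ τ * Φ τ * Φ τ)⁻¹ := by group
        _ = 1 := by rw [h1, h2]; group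
    obtain ⟨l, hl⟩ := exists_conj_fld hK D Fl hτ3 hτ1 hΦ3 hkB hNm
    refine ⟨l * g, τ, orderOf_eq_prime hτ3 hτ1, ?_⟩
    have h1 : MulAut.conj (l * g) * x * (MulAut.conj (l * g))⁻¹ = MulAut.conj l * y * (MulAut.conj l)⁻¹ := by
      rw [hy, map_mul]
      group
    rw [h1, hkτ]
    have h2 := H521.AAFld.conj_aut (Φ τ) l
    have h3 : Φ τ * (MulAut.conj l)⁻¹ = (MulAut.conj (Φ τ l))⁻¹ * Φ τ := by
      rw [h2]
      group
    calc MulAut.conj l * (MulAut.conj k * Φ τ) * (MulAut.conj l)⁻¹ =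
        MulAut.conj l * MulAut.conj k * (Φ τ * (MulAut.conj l)⁻¹) := by group
      _ = MulAut.conj (l * k * (Φ τ l)⁻¹) * Φ τ := by rw [h3, map_mul, map_mul, map_inv]; group
      _ = Φ τ := by rw [hl, map_one, one_mul]
  obtain ⟨g₁, τ₁, h1, h2⟩ := key hc hci
  obtain ⟨g₂, τ₂, h3, h4⟩ := key hd hdi
  have hcyc : IsCyclic (K ≃+* K) := LieRecognition.FieldSemilinear.isCyclic_ringAut K
  have hfinR : Finite (K ≃+* K) := Finite.of_injective (fun e : K ≃+* K => (e : K → K)) DFunLike.coe_injective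
  obtain ⟨j, hj⟩ : ∃ j : ℕ, τ₂ ^ j = τ₁ := by
    obtain ⟨j, hj⟩ := mem_zpowers_iff.1 (mem_zpowers_cyc h3 h1 (by norm_num))
    refine ⟨(j % 3).toNat, ?_⟩
    have h5 : (((j % 3).toNat : ℕ) : ℤ) = j % 3 := Int.toNat_of_nonneg (Int.emod_nonneg _ (by norm_num))
    rw [← zpow_natCast, h5, ← hj]
    have h6 : τ₂ ^ (3 : ℤ) = 1 := by
      have h7 : τ₂ ^ (3 : ℕ) = 1 := by rw [← h3, pow_orderOf_eq_one]
      exact_mod_cast h7
    conv_rhs => rw [← Int.emod_add_mul_ediv j 3]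
    rw [zpow_add, zpow_mul, h6, one_zpow, mul_one]
  have hn : ((MulAut.conj : G →* MulAut G).range).Normal := conj_range_normal (S := G)
  refine wpair_of_isConj_pow (MulAut.conj : G →* MulAut G).range (conj_range_simple hna) ?_
    (centralizer_conj_range hcen) (c := c) (d := d) (s := MulAut.conj (g₁⁻¹ * g₂)) ⟨_, rfl⟩ (i := 1) (j := j) ?_ ?_
  · intro hP
    have h5 : IsPGroup 3 G := hP.of_equiv ((MulAut.conj : G →* MulAut G).ofInjective hconj).symm
    have h6 := h5.center_nontrivial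
    rw [hcen] at h6
    exact not_nontrivial _ h6
  · have h5 : (MulAut.conj g₂ * d * (MulAut.conj g₂)⁻¹) ^ j = Φ τ₁ := by rw [h4, ← hΦpow, hj]
    rw [conj_pow, ← h2] at h5
    rw [pow_one, map_mul, map_inv]
    calc (MulAut.conj g₁)⁻¹ * MulAut.conj g₂ * d ^ j * ((MulAut.conj g₁)⁻¹ * MulAut.conj g₂)⁻¹ =
        (MulAut.conj g₁)⁻¹ * (MulAut.conj g₂ * d ^ j * (MulAut.conj g₂)⁻¹) * MulAut.conj g₁ := by group
      _ = c := by rw [h5]; group
  · rw [pow_one]
    rintro rfl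
    rw [orderOf_one] at hc
    norm_num at hc

end Data

open Cfsg.Lie Cfsg.Agent.ChevalleyStructure.Ree.Normal Cfsg.Agent.ChevalleyStructure.Ree
  Cfsg.Agent.H415.CopReeRow

theorem wrow_twisted {K : Type*} [Field K] [Fintype K] {m : ℕ} (hm : 1 ≤ m) (hK : Fintype.card K = 3 ^ (2 * m + 1)) :
    WRow 3 ↥(Cfsg.Lie.twistedG2 K (3 ^ m)) := by
  obtain ⟨θ, c⟩ := exists_ctx hK
  have hfin : Finite ↥(Cfsg.Lie.twistedG2 K (3 ^ m)) :=
    LieRecognition.ReeSylowThree.finite (Data.data c)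
  obtain ⟨hs, hnc⟩ := S1073.result hm hK
  exact wrow_data (Φ := fun τ => S2127.fld τ (3 ^ m)) hnc hK (Data.data c)
    (H71.FldAut.reeFld c) (fun τ ρ => H71.FldAut.fldG_mul τ ρ (3 ^ m)) (H71.FldAut.ree_aut hm hK)

/-- **The weak row of the small Ree groups.** -/
theorem wrow_ree {K : Type v} [Group K] [Finite K] [IsSimpleGroup K] (h : Cfsg.Lie.IsoRee K) : WRow 3 K := by
  obtain ⟨F, iF, iF', m, hm, hK, ⟨f⟩⟩ := h
  exact H897.T5Sub.WRow.congr f.symm (wrow_twisted hm hK)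

/-- **The row of the small Ree groups.** -/
theorem wf_ree {K : Type v} [Group K] [Finite K] [IsSimpleGroup K] (h : Cfsg.Lie.IsoRee K) :
    Cfsg.Agent.H533.Wf.WfRow.{u, v} 3 K := by
  have : Fact (Nat.Prime 3) := ⟨Nat.prime_three⟩
  exact Cfsg.Agent.H533.Wf.WfRow.of_wrow (wrow_ree h)

/-- `3` does not divide the order of a Suzuki group -/
theorem not_three_dvd_sz {K : Type v} [Group K] (h : Cfsg.Lie.IsoSuzuki K) : ¬ 3 ∣ Nat.card K := by
  obtain ⟨F, _, _, m, hm, hF, ⟨e⟩⟩ := h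
  rw [Nat.card_congr e.toEquiv, (Cfsg.Agent.S1163.result hm hF).1]
  have h1 : 2 ^ (2 * m + 1) % 3 = 2 := by
    have : 2 ^ (2 * m + 1) = 4 ^ m * 2 := by rw [pow_succ, pow_mul]; norm_num
    rw [this, Nat.mul_mod, Nat.pow_mod]
    norm_num
  obtain ⟨k, hk⟩ : ∃ k, 2 ^ (2 * m + 1) = 3 * k + 2 := ⟨2 ^ (2 * m + 1) / 3, by omega⟩
  rw [hk]
  intro h3
  rcases (Nat.Prime.dvd_mul Nat.prime_three).mp h3 with h4 | h4
  · rcases (Nat.Prime.dvd_mul Nat.prime_three).mp h4 with h5 | h5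
    · have := Nat.prime_three.dvd_of_dvd_pow h5
      omega
    · omega
  · have h6 : (3 * k + 2) ^ 2 + 1 = 3 * (3 * k ^ 2 + 4 * k + 1) + 2 := by ring
    omega

/-- a group of order prime to `p` -/
theorem wf_of_not_dvd {p : ℕ} {K : Type v} [Group K] (h : ¬ p ∣ Nat.card K) :
    Cfsg.Agent.H533.Wf.WfRow.{u, v} p K := by
  rintro G _ _ S C D hc ⟨e⟩
  apply h
  rw [← Nat.card_congr e.toEquiv]
  exact hc.dvd

/-- **The row of the Suzuki groups.** -/
theorem wf_sz {K : Type v} [Group K] (h : Cfsg.Lie.IsoSuzuki K) : Cfsg.Agent.H533.Wf.WfRow.{u, v} 3 K :=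
  wf_of_not_dvd (not_three_dvd_sz h)

end Cfsg.Agent.H753.WfRee
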