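import Cfsg.Agent.H752.Ext

/-!
# Strong closure of the centralizer of an invariant subsystem (helper753)

For `F` saturated over `S` and `E` a subsystem over `T` invariant in `F`: if `x ∈ C_S(T)` is such that every map of `E`
extends to a map of `F` fixing `x` (that is `E ≤ C_F(⟨x⟩)`), then every `F`-conjugate of `x` has the same property
(in particular it lies in `C_S(T)`).
-/

set_option autoImplicit false

namespace Cfsg.Agent.H753

open Cfsg Cfsg.FusionSystem Cfsg.Agent.H752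

variable {Ω : Type*} [Group Ω] {S T : Subgroup Ω} {F : FusionSystem S} {E : FusionSystem T}

/-! ### Extension lemmas for functions -/

/-- Extension of a map onto a receptive subgroup, pointwise form. -/
theorem mp_extend {P Q : Subgroup Ω} {f : Ω → Ω} (hQ : F.IsReceptive Q) (hf : Mp F P f)
    (him : ∀ y, y ∈ Q ↔ ∃ x ∈ P, f x = y) :
    ∃ (N : Subgroup Ω) (ψ : Ω → Ω), Mp F N ψ ∧ P ≤ N ∧ (∀ x ∈ P, ψ x = f x) ∧
      ∀ g, g ∈ S → g ∈ Subgroup.normalizer (P : Set Ω) →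
        (∃ h ∈ S, ∀ x ∈ P, f (g * x * g⁻¹) = h * f x * h⁻¹) → g ∈ N := by
  obtain ⟨φ, hφ, h1⟩ := hf
  have hr : φ.range = Q := by
    ext y
    rw [him]
    constructor
    · rintro ⟨x, rfl⟩
      exact ⟨x, x.2, (h1 x x.2).symm⟩
    · rintro ⟨x, hx, rfl⟩
      exact ⟨⟨x, hx⟩, h1 x hx⟩
  obtain ⟨ψ, hψ, hψe⟩ := hQ.2 P φ hφ hr
  have hP : P ≤ extender S P φ := H802.le_extender (H802.hom_le hφ) (H802.hom_apply_mem hφ)
  refine ⟨_, ex ψ, mp_ex hψ, hP, fun x hx => ?_, fun g h2 h3 h5 => ?_⟩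
  · rw [ex_apply _ (hP hx), ← h1 x hx]
    exact hψe x hx (hP hx)
  · obtain ⟨h, hh, h4⟩ := h5
    rw [H802.mem_extender_iff]
    refine ⟨h2, h3, h, hh, fun x hx => ?_⟩
    rw [h1 _ hx, h1 x x.2]
    exact h4 x x.2

/-- Extension of a map onto a receptive subgroup to the centralizer. -/
theorem mp_extend_centralizer {P Q : Subgroup Ω} {f : Ω → Ω} (hQ : F.IsReceptive Q) (hf : Mp F P f)
    (him : ∀ y, y ∈ Q ↔ ∃ x ∈ P, f x = y) :
    ∃ ψ, Mp F (P ⊔ centralizerIn S P) ψ ∧ ∀ x ∈ P, ψ x = f x := by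
  obtain ⟨N, ψ, hψ, hPN, h1, h2⟩ := mp_extend hQ hf him
  refine ⟨ψ, hψ.res (sup_le hPN fun g hg => h2 g hg.1 (Subgroup.centralizer_le_normalizer _ hg.2)
    ⟨1, one_mem _, fun x hx => ?_⟩), h1⟩
  have h1 : g * x * g⁻¹ = x := by
    rw [← Subgroup.mem_centralizer_iff.1 hg.2 x hx]
    group
  rw [h1]
  simp

/-- Extension to the normalizer, onto a fully automized and receptive subgroup. -/
theorem mp_extend_normalizer [Finite S] {p : ℕ} [Fact p.Prime] (hS : IsPGroup p S)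
    {P Q : Subgroup Ω} {f : Ω → Ω} (hQa : F.IsFullyAutomized p Q) (hQ : F.IsReceptive Q)
    (hf : Mp F P f) (him : ∀ y, y ∈ Q ↔ ∃ x ∈ P, f x = y) :
    ∃ ψ, Mp F (normalizerIn S P) ψ ∧ ∀ y, y ∈ Q ↔ ∃ x ∈ P, ψ x = y := by
  obtain ⟨φ, hφ, h1⟩ := hf
  have hr : φ.range = Q := by
    ext y
    rw [him]
    constructor
    · rintro ⟨x, rfl⟩
      exact ⟨x, x.2, (h1 x x.2).symm⟩
    · rintro ⟨x, hx, rfl⟩
      exact ⟨⟨x, hx⟩, h1 x hx⟩
  obtain ⟨k, hk, ψ, hψ, h2⟩ := H759.exists_normalizer_hom F hS hQa hQ hφ hr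
  have hPS : P ≤ S := H802.hom_le hφ
  have hPN : P ≤ normalizerIn S P := le_inf hPS Subgroup.le_normalizer
  have h3 : ∀ (x : Ω) (hx : x ∈ P), φ ⟨x, hx⟩ ∈ Q := fun x hx => by rw [← hr]; exact ⟨_, rfl⟩
  have h4 : ∀ (x : Ω) (hx : x ∈ P), ex ψ x = (k ⟨φ ⟨x, hx⟩, h3 x hx⟩ : Q) := fun x hx => by
    rw [ex_apply _ (hPN hx)]
    exact h2 ⟨x, hx⟩ (h3 x hx) (hPN hx)
  refine ⟨ex ψ, mp_ex hψ, fun y => ⟨fun hy => ?_, ?_⟩⟩
  · have h5 : ((k.symm ⟨y, hy⟩ : Q) : Ω) ∈ φ.range := by rw [hr]; exact (k.symm ⟨y, hy⟩).2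
    obtain ⟨x, hx⟩ := h5
    refine ⟨x, x.2, ?_⟩
    rw [h4 x x.2]
    have h6 : (⟨φ ⟨x, x.2⟩, h3 x x.2⟩ : Q) = k.symm ⟨y, hy⟩ := Subtype.ext hx
    rw [h6]
    show ((k (k.symm ⟨y, hy⟩) : Q) : Ω) = y
    rw [MulEquiv.apply_symm_apply]
  · rintro ⟨x, hx, rfl⟩
    rw [h4 x hx]
    exact (k _).2

/-- Every subgroup of `S` has a map of the system onto a fully automized receptive subgroup, extending to the
normalizer. -/
theorem exists_mp_fullyNormalized [Finite S] {p : ℕ} [Fact p.Prime] (hS : IsPGroup p S)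
    (hF : F.IsSaturated p) {P : Subgroup Ω} (hP : P ≤ S) :
    ∃ (Q : Subgroup Ω) (ψ : Ω → Ω), F.IsFullyAutomized p Q ∧ F.IsReceptive Q ∧
      Mp F (normalizerIn S P) ψ ∧ ∀ y, y ∈ Q ↔ ∃ x ∈ P, ψ x = y := by
  obtain ⟨Q, ⟨φ, hφ, hr⟩, hQa, hQr⟩ := hF P hP
  obtain ⟨ψ, hψ, h1⟩ := mp_extend_normalizer hS hQa hQr (mp_ex hφ) (fun y => by
    rw [← hr]
    constructor
    · rintro ⟨x, rfl⟩
      exact ⟨x, x.2, ex_coe _ x⟩
    · rintro ⟨x, hx, rfl⟩
      rw [ex_apply _ hx]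
      exact ⟨_, rfl⟩)
  exact ⟨Q, ψ, hQa, hQr, hψ, h1⟩

theorem mem_zpowers_sup_iff {P : Subgroup Ω} {x : Ω} (hx : x ∈ Subgroup.centralizer (P : Set Ω))
    {w : Ω} : w ∈ P ⊔ Subgroup.zpowers x ↔ ∃ s ∈ P, ∃ i : ℤ, s * x ^ i = w := by
  have h1 : P ≤ Subgroup.normalizer ((Subgroup.zpowers x : Subgroup Ω) : Set Ω) := by
    intro s hs
    rw [Subgroup.mem_normalizer_iff]
    have h2 : ∀ s ∈ P, ∀ i : ℤ, s * x ^ i * s⁻¹ = x ^ i := by
      intro s hs i
      have h3 : x ^ i ∈ Subgroup.centralizer (P : Set Ω) := zpow_mem hx i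
      rw [Subgroup.mem_centralizer_iff.1 h3 s hs]
      group
    intro y
    constructor
    · rintro ⟨i, rfl⟩
      exact ⟨i, (h2 s hs i).symm⟩
    · rintro ⟨i, hi⟩
      refine ⟨i, ?_⟩
      have h3 := h2 s⁻¹ (inv_mem hs) i
      have h4 : x ^ i = s * y * s⁻¹ := hi
      show x ^ i = y
      rw [← h3, h4]
      group
  rw [H759.mem_sup_of_normalizes h1]
  constructor
  · rintro ⟨a, ha, b, ⟨i, rfl⟩, rfl⟩
    exact ⟨a, ha, i, rfl⟩
  · rintro ⟨s, hs, i, rfl⟩
    exact ⟨s, hs, x ^ i, ⟨i, rfl⟩, rfl⟩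

theorem Mp.zpow {P : Subgroup Ω} {f : Ω → Ω} (h : Mp F P f) {x : Ω} (hx : x ∈ P) (n : ℤ) :
    f (x ^ n) = f x ^ n := by
  obtain ⟨φ, hφ, h1⟩ := h
  rw [← h1 x hx, ← h1 _ (zpow_mem hx n), ← map_zpow]
  rfl

/-! ### Elements centralizing a subsystem -/

/-- `x ∈ C_S(T)` and every map of `E` extends to a map of `F` fixing `x`: that is `E ≤ C_F(⟨x⟩)`. -/
def CE (E : FusionSystem T) (F : FusionSystem S) (x : Ω) : Prop :=
  x ∈ centralizerIn S T ∧ ∀ (P : Subgroup Ω) (f : Ω → Ω), Mp E P f →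
    ∃ g, Mp F (P ⊔ Subgroup.zpowers x) g ∧ (∀ y ∈ P, g y = f y) ∧ g x = x

/-- Transport of `CE` along a map of `F` defined on `T ⟨x⟩`. -/
theorem CE.transport [Finite S] (hT : F.StronglyClosed T) (hI : InvC E F) {x : Ω}
    (hx : CE E F x) {f : Ω → Ω} (hf : Mp F (T ⊔ Subgroup.zpowers x) f) : CE E F (f x) := by
  have hTS : T ≤ S := hT.1
  have hfT : Finite T := H802.finite_of_le hTS
  have hxW : x ∈ T ⊔ Subgroup.zpowers x :=
    (le_sup_right : Subgroup.zpowers x ≤ _) (Subgroup.mem_zpowers x)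
  have hTW : T ≤ T ⊔ Subgroup.zpowers x := le_sup_left
  have hfTm : ∀ t ∈ T, f t ∈ T := fun t ht => mp_mem_of_stronglyClosed hT hf (hTW ht) ht
  have hsurj : ∀ y ∈ T, ∃ t ∈ T, f t = y := fun y hy => (hf.res hTW).surj hfTm hy
  obtain ⟨W', hW', hW'S, -⟩ := hf.exists_image le_rfl
  obtain ⟨b, hb, hb1, hb2⟩ := hf.exists_symm le_rfl hW'
  have hTW' : T ≤ W' := by
    intro y hy
    obtain ⟨t, ht, rfl⟩ := hsurj y hy
    exact (hW' _).2 ⟨t, hTW ht, rfl⟩
  have hfxW' : f x ∈ W' := (hW' _).2 ⟨x, hxW, rfl⟩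
  refine ⟨⟨hf.mem hxW, Subgroup.mem_centralizer_iff.2 fun y hy => ?_⟩, fun P u hu => ?_⟩
  · obtain ⟨t, ht, rfl⟩ := hsurj y hy
    rw [← hf.mul (hTW ht) hxW, ← hf.mul hxW (hTW ht),
      Subgroup.mem_centralizer_iff.1 hx.1.2 t ht]
  · have hPT : P ≤ T := hu.le
    have hbT : Mp F T b := hb.res hTW'
    obtain ⟨P', hP', hP'S, -⟩ := hb.exists_image (hPT.trans hTW')
    have hu' : Mp E P' (fun y => b (u (f y))) := by
      refine hI P P' u b _ hu hbT fun y hy => ?_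
      obtain ⟨z, hz, rfl⟩ := (hP' y).1 hy
      refine ⟨z, hz, rfl, ?_⟩
      show b (u (f (b z))) = b (u z)
      rw [(hb2 z (hTW' (hPT hz))).2]
    obtain ⟨g, hg, hg1, hg2⟩ := hx.2 P' _ hu'
    have hle : P ⊔ Subgroup.zpowers (f x) ≤ W' :=
      sup_le (hPT.trans hTW') (by rwa [Subgroup.zpowers_le])
    have hm1 : ∀ y ∈ P ⊔ Subgroup.zpowers (f x), b y ∈ P' ⊔ Subgroup.zpowers x := by
      refine (hb.res hle).mem_sup (fun y hy => ?_) (fun y hy => ?_)
      · exact (le_sup_left : P' ≤ _) ((hP' _).2 ⟨y, hy, rfl⟩)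
      · obtain ⟨i, rfl⟩ := hy
        refine (le_sup_right : Subgroup.zpowers x ≤ _) ⟨i, ?_⟩
        show x ^ i = b (f x ^ i)
        rw [← Mp.zpow hf hxW, hb1 _ (zpow_mem hxW i)]
    have hm2 : ∀ y ∈ P' ⊔ Subgroup.zpowers x, g y ∈ T ⊔ Subgroup.zpowers x := by
      refine hg.mem_sup (fun y hy => ?_) (fun y hy => ?_)
      · rw [hg1 y hy]
        exact hTW (hu'.mem hy)
      · obtain ⟨i, rfl⟩ := hy
        show g (x ^ i) ∈ _
        rw [Mp.zpow hg ((le_sup_right : Subgroup.zpowers x ≤ P' ⊔ _) (Subgroup.mem_zpowers x)), hg2]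
        exact zpow_mem hxW i
    refine ⟨fun y => f (g (b y)), ((hb.res hle).comp hg hm1).comp hf fun y hy => hm2 _ (hm1 y hy),
      fun y hy => ?_, ?_⟩
    · show f (g (b y)) = u y
      rw [hg1 _ ((hP' _).2 ⟨y, hy, rfl⟩)]
      show f (b (u (f (b y)))) = u y
      rw [(hb2 y (hTW' (hPT hy))).2, (hb2 _ (hTW' (hu.mem hy))).2]
    · show f (g (b (f x))) = f x
      rw [hb1 x hxW, hg2]

/-- The image of `⟨x⟩` under a map. -/
theorem mem_zpowers_apply_iff {P : Subgroup Ω} {f : Ω → Ω} (h : Mp F P f) {x : Ω} (hx : x ∈ P)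
    (y : Ω) : y ∈ Subgroup.zpowers (f x) ↔ ∃ z ∈ Subgroup.zpowers x, f z = y := by
  constructor
  · rintro ⟨i, rfl⟩
    exact ⟨x ^ i, ⟨i, rfl⟩, Mp.zpow h hx i⟩
  · rintro ⟨_, ⟨i, rfl⟩, rfl⟩
    exact ⟨i, (Mp.zpow h hx i).symm⟩

/-- A map of the system sending `x` to `y`, for `y` conjugate to a third element `z` with `⟨z⟩` receptive, extends
to the centralizer. -/
theorem exists_mp_of_receptive {x z : Ω} {f : Ω → Ω} (hf : Mp F (Subgroup.zpowers x) f)
    (hz : f x = z) (hQ : F.IsReceptive (Subgroup.zpowers z)) :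
    ∃ ψ, Mp F (Subgroup.zpowers x ⊔ centralizerIn S (Subgroup.zpowers x)) ψ ∧ ψ x = z := by
  have hx : x ∈ Subgroup.zpowers x := Subgroup.mem_zpowers x
  obtain ⟨ψ, hψ, h1⟩ := mp_extend_centralizer hQ hf (fun y => by
    rw [← hz]; exact mem_zpowers_apply_iff hf hx y)
  exact ⟨ψ, hψ, by rw [h1 x hx, hz]⟩

theorem centralizer_zpowers_le {x : Ω} {X : Subgroup Ω} (hX : X ≤ S)
    (h : ∀ t ∈ X, t * x = x * t) : X ≤ centralizerIn S (Subgroup.zpowers x) := by
  intro t ht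
  refine ⟨hX ht, Subgroup.mem_centralizer_iff.2 ?_⟩
  rintro _ ⟨i, rfl⟩
  have h1 : Commute t x := h t ht
  exact ((h1.zpow_right i).symm : _)

/-- The automorphisms of a `p`-group `V` that are trivial on `V ∩ T` and on `V / V ∩ T` and lie in the system are
induced by `S`, if `V` is fully automized. -/
theorem exists_conj_of_trivial [Finite S] {p : ℕ} [Fact p.Prime] (hS : IsPGroup p S)
    (hT : F.StronglyClosed T) {V : Subgroup Ω} (hV : F.IsFullyAutomized p V) {κ : MulAut V}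
    (hκ : κ ∈ F.autGroup V) (h1 : ∀ v : V, (v : Ω) ∈ T → κ v = v)
    (h2 : ∀ v : V, (v : Ω)⁻¹ * (κ v : V) ∈ T) :
    ∃ s ∈ S, ∀ v : V, ((κ v : V) : Ω) = s * v * s⁻¹ := by
  have hVS : V ≤ S := hV.1
  have hfV : Finite V := H802.finite_of_le hVS
  have hpV : IsPGroup p V := hS.to_le hVS
  let K : Subgroup (MulAut V) :=
    { carrier := {κ | κ ∈ F.autGroup V ∧ (∀ v : V, (v : Ω) ∈ T → κ v = v) ∧
        ∀ v : V, (v : Ω)⁻¹ * (κ v : V) ∈ T}
      one_mem' := ⟨one_mem _, fun v _ => rfl, fun v => by simp⟩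
      mul_mem' := by
        rintro a b ⟨ha, ha1, ha2⟩ ⟨hb, hb1, hb2⟩
        refine ⟨mul_mem ha hb, fun v hv => by rw [MulAut.mul_apply, hb1 v hv, ha1 v hv],
          fun v => ?_⟩
        have h3 := mul_mem (hb2 v) (ha2 (b v))
        rw [MulAut.mul_apply]
        simpa [mul_assoc] using h3
      inv_mem' := by
        rintro a ⟨ha, ha1, ha2⟩
        refine ⟨inv_mem ha, fun v hv => ?_, fun v => ?_⟩
        · have h3 : a⁻¹ (a v) = v := a.symm_apply_apply v
          rw [ha1 v hv] at h3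
          exact h3
        · have h3 := inv_mem (ha2 (a⁻¹ v))
          have h4 : a (a⁻¹ v) = v := a.apply_symm_apply v
          rw [h4] at h3
          simpa using h3 }
  have hKle : K ≤ autInducedBy S V := by
    refine H759.le_autInducedBy_of_normal hV K (fun k hk => hk.1) ?_ ?_
    · rintro a ha k ⟨hk, hk1, hk2⟩
      have hmem : ∀ (b : MulAut V), b ∈ F.autGroup V → ∀ v : V, (v : Ω) ∈ T → ((b v : V) : Ω) ∈ T := by
        intro b hb v hv
        have h3 := mp_mem_of_stronglyClosed hT ((mp_iff_autGroup hVS b).1 hb) v.2 hv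
        rwa [ex_coe] at h3
      refine ⟨mul_mem (mul_mem ha hk) (inv_mem ha), fun v hv => ?_, fun v => ?_⟩
      · rw [MulAut.mul_apply, MulAut.mul_apply, hk1 _ (hmem _ (inv_mem ha) v hv)]
        exact a.apply_symm_apply v
      · rw [MulAut.mul_apply, MulAut.mul_apply]
        have h3 : (((a⁻¹ v)⁻¹ * k (a⁻¹ v) : V) : Ω) ∈ T := hk2 (a⁻¹ v)
        have h4 := hmem a ha _ h3
        rw [map_mul, map_inv] at h4
        have h5 : a (a⁻¹ v) = v := a.apply_symm_apply v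
        rw [h5] at h4
        exact h4
    · rintro ⟨k, hk⟩
      obtain ⟨n, hn⟩ := H759.exists_pow_eq_one_of_chain hpV k 2
        (fun i => if i = 0 then ⊤ else if i = 1 then T.subgroupOf V else ⊥) (by simp) (by simp)
        (by
          intro i hi x hx
          by_cases h0 : i = 0
          · simp [h0]
          · by_cases h1 : i = 1
            · simp only [h1, one_ne_zero, if_false, if_true] at hx ⊢
              have hx' : (x : Ω) ∈ T := hx
              rw [hk.2.1 x hx']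
              exact hx
            · simp only [h0, h1, if_false] at hx ⊢
              rw [Subgroup.mem_bot] at hx
              rw [hx, map_one]
              exact one_mem _)
        (by
          intro i hi x hx
          by_cases h0 : i = 0
          · subst h0
            simp only [zero_add, one_ne_zero, if_false, if_true]
            exact hk.2.2 x
          · have h1 : i = 1 := by omega
            subst h1
            simp only [one_ne_zero, if_false, if_true] at hx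
            have hx' : (x : Ω) ∈ T := hx
            have h2' : x⁻¹ * k x = 1 := by rw [hk.2.1 x hx', inv_mul_cancel]
            rw [h2']
            exact one_mem _)
      exact ⟨n, Subtype.ext hn⟩
  obtain ⟨s, hs, h3⟩ := (H802.mem_autInducedBy_iff S V κ).1 (hKle ⟨hκ, h1, h2⟩)
  exact ⟨s, hs, h3⟩

/-- A strongly closed subgroup not contained in `Q` has elements normalizing `Q` outside `Q`. -/
theorem exists_mem_normalizer_of_not_le [Finite S] {p : ℕ} [Fact p.Prime] (hS : IsPGroup p S)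
    (hT : F.StronglyClosed T) {Q : Subgroup Ω} (hQS : Q ≤ S) (hTQ : ¬ T ≤ Q) :
    ∃ t ∈ T, t ∉ Q ∧ t ∈ Subgroup.normalizer (Q : Set Ω) := by
  have h1 : Q < Q ⊔ T := lt_of_le_of_ne le_sup_left (fun h => hTQ (h ▸ le_sup_right))
  obtain ⟨g, hg, hgQ, hgn⟩ := H759.exists_mem_normalizer_not_mem hS (sup_le hQS hT.1) h1
  obtain ⟨q, hq, t, ht, rfl⟩ := (H759.mem_sup_of_normalizes
    (hQS.trans (H759.StronglyClosed.le_normalizer hT))).1 hg
  have htQ : t ∉ Q := fun h => hgQ (mul_mem hq h)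
  have htn : t ∈ Subgroup.normalizer (Q : Set Ω) := by
    have h2 := mul_mem (inv_mem (Subgroup.le_normalizer hq)) hgn
    simpa [← mul_assoc] using h2
  exact ⟨t, ht, htQ, htn⟩

/-- First step: a conjugate `y` of `x` is carried to an element `xo` with `E ≤ C_F(⟨xo⟩)` by a map of `F` defined on
`C_T(y) ⟨y⟩` which is the identity on `C_T(y)`. -/
theorem CE.exists_id [Finite S] {p : ℕ} [Fact p.Prime] (hS : IsPGroup p S) (hF : F.IsSaturated p)
    (hinv : E.IsInvariantIn F) {x : Ω} (hx : CE E F x) {f : Ω → Ω}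
    (hf : Mp F (Subgroup.zpowers x) f) :
    ∃ (χ : Ω → Ω) (xo : Ω), CE E F xo ∧
      Mp F ((T ⊓ Subgroup.centralizer {f x}) ⊔ Subgroup.zpowers (f x)) χ ∧
      (∀ t ∈ T ⊓ Subgroup.centralizer {f x}, χ t = t) ∧ χ (f x) = xo := by
  have hT : F.StronglyClosed T := hinv.2.1
  have hTS : T ≤ S := hT.1
  have hfT : Finite T := H802.finite_of_le hTS
  obtain ⟨hEF, -, hI, hFr⟩ := isInvariantIn_iff.1 hinv
  have hxS : Subgroup.zpowers x ≤ S := hf.le
  have hxx := Subgroup.mem_zpowers x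
  obtain ⟨Q, r, hQa, hQr, hr, hrim⟩ := exists_mp_fullyNormalized hS hF hxS
  have hxN : Subgroup.zpowers x ≤ normalizerIn S (Subgroup.zpowers x) :=
    le_inf hxS Subgroup.le_normalizer
  have hQ : Q = Subgroup.zpowers (r x) := by
    ext y
    rw [hrim, mem_zpowers_apply_iff (hr.res hxN) hxx]
  have hrQ : F.IsReceptive (Subgroup.zpowers (r x)) := hQ ▸ hQr
  have hTc : T ≤ centralizerIn S (Subgroup.zpowers x) :=
    centralizer_zpowers_le hTS fun t ht => (Subgroup.mem_centralizer_iff.1 hx.1.2 t ht)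
  have hTN : T ⊔ Subgroup.zpowers x ≤ normalizerIn S (Subgroup.zpowers x) :=
    sup_le (hTc.trans (H802.centralizerIn_le_normalizerIn _ _)) hxN
  have hstar : CE E F (r x) := hx.transport hT hI (hr.res hTN)
  -- the map `y → r x` on `⟨y⟩ C_S(y)`
  have hyy := Subgroup.mem_zpowers (f x)
  obtain ⟨b, hb, hb1, hb2⟩ := hf.exists_symm le_rfl (fun y => mem_zpowers_apply_iff hf hxx y)
  have hm : Mp F (Subgroup.zpowers (f x)) (fun w => r (b w)) :=
    hb.comp (hr.res hxN) fun w hw => (hb2 w hw).1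
  obtain ⟨g₁, hg₁, hg₁y⟩ := exists_mp_of_receptive hm (show r (b (f x)) = r x by
    rw [hb1 x hxx]) hrQ
  set T₁ : Subgroup Ω := T ⊓ Subgroup.centralizer {f x} with hT₁def
  have hT₁T : T₁ ≤ T := inf_le_left
  have hT₁y : ∀ t ∈ T₁, t * f x = f x * t := fun t ht =>
    (Subgroup.mem_centralizer_iff.1 ht.2 (f x) rfl).symm
  have hT₁c : T₁ ≤ centralizerIn S (Subgroup.zpowers (f x)) :=
    centralizer_zpowers_le (hT₁T.trans hTS) hT₁y
  have hsub : T₁ ⊔ Subgroup.zpowers (f x) ≤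
      Subgroup.zpowers (f x) ⊔ centralizerIn S (Subgroup.zpowers (f x)) :=
    sup_le (hT₁c.trans le_sup_right) le_sup_left
  have hg₁T : Mp F T₁ g₁ := hg₁.res (hT₁c.trans le_sup_right)
  obtain ⟨a, ha, f₀, hf₀, h1⟩ := hFr T₁ g₁ hT₁T hg₁T
  obtain ⟨a', ha', h3, h4⟩ := exists_aut_inv hT ha
  obtain ⟨α, hα, hαe⟩ := ha'.exists_aut (fun t ht => (h4 t ht).1)
  obtain ⟨β, hβ, hβr, hβC⟩ := exists_extension_centralizer hF hT hα
  set bh : Ω → Ω := ex (fun x => ((β x : ↥(T ⊔ centralizerIn S T)) : Ω)) with hbhdef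
  have hbh : Mp F (T ⊔ centralizerIn S T) bh :=
    (mp_iff_autGroup (sup_le hTS inf_le_left) β).1 hβ
  have hbhT : ∀ t ∈ T, bh t = a' t := by
    intro t ht
    rw [hbhdef, ex_apply _ ((le_sup_left : T ≤ T ⊔ centralizerIn S T) ht), hβr t ht, hαe t ht]
  have hxo : CE E F (bh (r x)) := hstar.transport hT hI
    (hbh.res (sup_le_sup_left ((Subgroup.zpowers_le).2 hstar.1) T))
  have hg₂m : ∀ w ∈ T₁ ⊔ Subgroup.zpowers (f x), g₁ w ∈ T ⊔ centralizerIn S T := by
    refine (hg₁.res hsub).mem_sup (fun t ht => ?_) (fun w hw => ?_)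
    · exact (le_sup_left : T ≤ _) (mp_mem_of_stronglyClosed hT hg₁T ht (hT₁T ht))
    · obtain ⟨i, rfl⟩ := hw
      show g₁ (f x ^ i) ∈ _
      rw [Mp.zpow hg₁ ((le_sup_left : Subgroup.zpowers (f x) ≤ _) hyy), hg₁y]
      exact zpow_mem ((le_sup_right : centralizerIn S T ≤ _) hstar.1) i
  have hg₂ : Mp F (T₁ ⊔ Subgroup.zpowers (f x)) (fun w => bh (g₁ w)) :=
    (hg₁.res hsub).comp hbh hg₂m
  have hg₂T : ∀ t ∈ T₁, bh (g₁ t) = f₀ t := by
    intro t ht
    rw [h1 t ht, hbhT _ (mp_mem_of_stronglyClosed hT ha (hf₀.mem ht) (hf₀.mem ht)),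
      h3 _ (hf₀.mem ht)]
  obtain ⟨h, hh, hh1, hh2⟩ := hxo.2 T₁ f₀ hf₀
  obtain ⟨W₀, hW₀, -, -⟩ := hh.exists_image le_rfl
  obtain ⟨h', hh', hh'1, hh'2⟩ := hh.exists_symm le_rfl hW₀
  have hxoW : bh (r x) ∈ T₁ ⊔ Subgroup.zpowers (bh (r x)) :=
    (le_sup_right : Subgroup.zpowers _ ≤ _) (Subgroup.mem_zpowers _)
  have hyW : f x ∈ T₁ ⊔ Subgroup.zpowers (f x) :=
    (le_sup_right : Subgroup.zpowers _ ≤ _) (Subgroup.mem_zpowers _)
  refine ⟨fun w => h' (bh (g₁ w)), bh (r x), hxo, hg₂.comp hh' ?_, fun t ht => ?_, ?_⟩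
  · refine hg₂.mem_sup (fun t ht => ?_) (fun w hw => ?_)
    · rw [hg₂T t ht, ← hh1 t ht]
      exact (hW₀ _).2 ⟨t, (le_sup_left : T₁ ≤ _) ht, rfl⟩
    · obtain ⟨i, rfl⟩ := hw
      have h5 := Mp.zpow hg₂ hyW i
      show bh (g₁ (f x ^ i)) ∈ W₀
      have h6 : bh (g₁ (f x ^ i)) = (bh (r x)) ^ i := by
        rw [← hg₁y]; exact h5
      rw [h6]
      refine zpow_mem ((hW₀ _).2 ⟨_, hxoW, hh2⟩) i
  · show h' (bh (g₁ t)) = t
    rw [hg₂T t ht, ← hh1 t ht, hh'1 t ((le_sup_left : T₁ ≤ _) ht)]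
  · show h' (bh (g₁ (f x))) = bh (r x)
    rw [hg₁y]
    have h5 := hh'1 _ hxoW
    rwa [hh2] at h5

/-- **Strong closure.** If `E ≤ C_F(⟨x⟩)`, `x ∈ C_S(T)`, then the same holds for every `F`-conjugate of `x`. -/
theorem CE.conj [Finite S] {p : ℕ} [Fact p.Prime] (hS : IsPGroup p S) (hF : F.IsSaturated p)
    (hinv : E.IsInvariantIn F) {x : Ω} (hx : CE E F x) {f : Ω → Ω}
    (hf : Mp F (Subgroup.zpowers x) f) : CE E F (f x) := by
  have hT : F.StronglyClosed T := hinv.2.1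
  have hTS : T ≤ S := hT.1
  have hfT : Finite T := H802.finite_of_le hTS
  obtain ⟨hEF, -, hI, hFr⟩ := isInvariantIn_iff.1 hinv
  have hxx := Subgroup.mem_zpowers x
  have main : ∀ (n : ℕ) (f : Ω → Ω), Mp F (Subgroup.zpowers x) f →
      Nat.card T - Nat.card (T ⊓ Subgroup.centralizer {f x} : Subgroup Ω) = n →
        CE E F (f x) := by
    intro n
    induction n using Nat.strong_induction_on with
    | _ n IH =>
    intro f hf hn
    obtain ⟨χ, xo, hxo, hχ, hχT, hχy⟩ := hx.exists_id hS hF hinv hf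
    set T₁ : Subgroup Ω := T ⊓ Subgroup.centralizer {f x} with hT₁def
    set y := f x with hy
    have hyS : y ∈ S := hf.mem hxx
    have hT₁T : T₁ ≤ T := inf_le_left
    have hyc : y ∈ Subgroup.centralizer (T₁ : Set Ω) :=
      Subgroup.mem_centralizer_iff.2 fun t ht =>
        (Subgroup.mem_centralizer_iff.1 ht.2 y rfl).symm
    have hyW' : y ∈ T₁ ⊔ Subgroup.zpowers y :=
      (le_sup_right : Subgroup.zpowers _ ≤ _) (Subgroup.mem_zpowers _)
    have hT₁W' : T₁ ≤ T₁ ⊔ Subgroup.zpowers y := le_sup_left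
    have hxoc : xo ∈ Subgroup.centralizer (T₁ : Set Ω) :=
      Subgroup.centralizer_le hT₁T hxo.1.2
    have hxoW : xo ∈ T₁ ⊔ Subgroup.zpowers xo :=
      (le_sup_right : Subgroup.zpowers _ ≤ _) (Subgroup.mem_zpowers _)
    have hT₁W : T₁ ≤ T₁ ⊔ Subgroup.zpowers xo := le_sup_left
    have hχpow : ∀ s ∈ T₁, ∀ i : ℤ, χ (s * y ^ i) = s * xo ^ i := by
      intro s hs i
      rw [hχ.mul (hT₁W' hs) (zpow_mem hyW' i), hχT s hs, Mp.zpow hχ hyW', hχy]
    have hχim : ∀ w, w ∈ T₁ ⊔ Subgroup.zpowers xo ↔ ∃ w' ∈ T₁ ⊔ Subgroup.zpowers y, χ w' = w := by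
      intro w
      constructor
      · intro hw
        obtain ⟨s, hs, i, rfl⟩ := (mem_zpowers_sup_iff hxoc).1 hw
        exact ⟨s * y ^ i, (mem_zpowers_sup_iff hyc).2 ⟨s, hs, i, rfl⟩, hχpow s hs i⟩
      · rintro ⟨w', hw', rfl⟩
        obtain ⟨s, hs, i, rfl⟩ := (mem_zpowers_sup_iff hyc).1 hw'
        rw [hχpow s hs i]
        exact (mem_zpowers_sup_iff hxoc).2 ⟨s, hs, i, rfl⟩
    by_cases hTT : T ≤ T₁
    · -- `T` centralizes `y`
      obtain ⟨b, hb, hb1, hb2⟩ := hχ.exists_symm le_rfl hχim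
      have h1 := hxo.transport hT hI (hb.res (sup_le_sup_right hTT _))
      have h2 := hb1 y hyW'
      rw [hχy] at h2
      rwa [h2] at h1
    · exfalso
      have hW'S : T₁ ⊔ Subgroup.zpowers y ≤ S := hχ.le
      have hW'T : ∀ w ∈ T₁ ⊔ Subgroup.zpowers y, w ∈ T → w ∈ T₁ := by
        intro w hw hwT
        obtain ⟨s, hs, i, rfl⟩ := (mem_zpowers_sup_iff hyc).1 hw
        have h1 : y ^ i ∈ T := by
          have := mul_mem (inv_mem (hT₁T hs)) hwT
          simpa using this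
        refine mul_mem hs ⟨h1, Subgroup.mem_centralizer_iff.2 ?_⟩
        rintro _ rfl
        exact (Commute.refl y).zpow_right i
      have hTW' : ¬ T ≤ T₁ ⊔ Subgroup.zpowers y := fun h => hTT fun t ht => hW'T t (h ht) ht
      obtain ⟨t, ht, htW', htn⟩ := exists_mem_normalizer_of_not_le hS hT hW'S hTW'
      have htS : t ∈ S := hTS ht
      have htconj : ∀ s ∈ T₁, t * s * t⁻¹ ∈ T₁ := fun s hs =>
        hW'T _ ((Subgroup.mem_normalizer_iff.1 htn s).1 (hT₁W' hs))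
          (mul_mem (mul_mem ht (hT₁T hs)) (inv_mem ht))
      have htconj' : ∀ s ∈ T₁, t⁻¹ * s * t ∈ T₁ := fun s hs => by
        refine hW'T _ ?_ (mul_mem (mul_mem (inv_mem ht) (hT₁T hs)) ht)
        have := (Subgroup.mem_normalizer_iff.1 (inv_mem htn) s).1 (hT₁W' hs)
        simpa using this
      have htxo : t * xo = xo * t := Subgroup.mem_centralizer_iff.1 hxo.1.2 t ht
      have htxoi : ∀ i : ℤ, t * xo ^ i * t⁻¹ = xo ^ i := fun i => by
        rw [((show Commute t xo from htxo).zpow_right i).eq]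
        group
      -- `t` normalizes `W`
      have htWN : t ∈ Subgroup.normalizer ((T₁ ⊔ Subgroup.zpowers xo : Subgroup Ω) : Set Ω) := by
        rw [Subgroup.mem_normalizer_iff]
        intro w
        constructor
        · intro hw
          obtain ⟨s, hs, i, rfl⟩ := (mem_zpowers_sup_iff hxoc).1 hw
          refine (mem_zpowers_sup_iff hxoc).2 ⟨t * s * t⁻¹, htconj s hs, i, ?_⟩
          calc t * s * t⁻¹ * xo ^ i = t * s * t⁻¹ * (t * xo ^ i * t⁻¹) := by rw [htxoi i]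
            _ = t * (s * xo ^ i) * t⁻¹ := by group
        · intro hw
          obtain ⟨s, hs, i, h1⟩ := (mem_zpowers_sup_iff hxoc).1 hw
          refine (mem_zpowers_sup_iff hxoc).2 ⟨t⁻¹ * s * t, htconj' s hs, i, ?_⟩
          have h2 : w = t⁻¹ * (t * w * t⁻¹) * t := by group
          rw [h2, ← h1]
          have h3 : xo ^ i = t⁻¹ * (t * xo ^ i * t⁻¹) * t := by group
          rw [htxoi i] at h3
          calc t⁻¹ * s * t * xo ^ i = t⁻¹ * s * t * (t⁻¹ * xo ^ i * t) := by rw [← h3]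
            _ = t⁻¹ * (s * xo ^ i) * t := by group
      have hWS : T₁ ⊔ Subgroup.zpowers xo ≤ S :=
        sup_le (hT₁T.trans hTS) ((Subgroup.zpowers_le).2 hxo.1.1)
      obtain ⟨V, r, hVa, hVr, hr, hrim⟩ := exists_mp_fullyNormalized hS hF hWS
      have hWN : T₁ ⊔ Subgroup.zpowers xo ≤ normalizerIn S (T₁ ⊔ Subgroup.zpowers xo) :=
        le_inf hWS Subgroup.le_normalizer
      have htN : t ∈ normalizerIn S (T₁ ⊔ Subgroup.zpowers xo) := ⟨htS, htWN⟩
      -- the induction hypothesis for `r xo`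
      have hc : CE E F (r xo) := by
        have hcomp : Mp F (Subgroup.zpowers x) (fun w => r (χ (f w))) := by
          refine (hf.comp hχ fun w hw => ?_).comp (hr.res hWN) fun w hw => ?_
          · exact (le_sup_right : Subgroup.zpowers y ≤ _)
              ((mem_zpowers_apply_iff hf hxx _).2 ⟨w, hw, rfl⟩)
          · exact (hχim _).2 ⟨f w, (le_sup_right : Subgroup.zpowers y ≤ _)
              ((mem_zpowers_apply_iff hf hxx _).2 ⟨w, hw, rfl⟩), rfl⟩
        have h1 := IH _ ?_ (fun w => r (χ (f w))) hcomp rfl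
        · have h2 : r (χ (f x)) = r xo := by rw [← hy, hχy]
          rw [← h2]
          exact h1
        · show Nat.card T - Nat.card (T ⊓ Subgroup.centralizer {r (χ (f x))} : Subgroup Ω) < n
          have h2 : r (χ (f x)) = r xo := by rw [← hy, hχy]
          rw [h2]
          have hT₂N : T₁ ⊔ Subgroup.zpowers t ≤ normalizerIn S (T₁ ⊔ Subgroup.zpowers xo) :=
            sup_le (hT₁W.trans hWN) ((Subgroup.zpowers_le).2 htN)
          have hT₂T : T₁ ⊔ Subgroup.zpowers t ≤ T := sup_le hT₁T ((Subgroup.zpowers_le).2 ht)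
          obtain ⟨U, hU, hUS, hUc⟩ := hr.exists_image hT₂N
          have hUle : U ≤ T ⊓ Subgroup.centralizer {r xo} := by
            intro u hu
            obtain ⟨w, hw, rfl⟩ := (hU u).1 hu
            refine ⟨mp_mem_of_stronglyClosed hT hr (hT₂N hw) (hT₂T hw),
              Subgroup.mem_centralizer_iff.2 ?_⟩
            rintro _ rfl
            rw [← hr.mul (hWN hxoW) (hT₂N hw), ← hr.mul (hT₂N hw) (hWN hxoW),
              Subgroup.mem_centralizer_iff.1 hxo.1.2 w (hT₂T hw)]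
          have h3 : Nat.card T₁ < Nat.card (T₁ ⊔ Subgroup.zpowers t : Subgroup Ω) := by
            have hfin : Finite (T₁ ⊔ Subgroup.zpowers t : Subgroup Ω) :=
              H802.finite_of_le (hT₂T.trans hTS)
            have hlt : T₁ ≤ T₁ ⊔ Subgroup.zpowers t := le_sup_left
            refine lt_of_le_of_ne (Subgroup.card_le_of_le hlt) fun h => htW' (hT₁W' ?_)
            rw [Subgroup.eq_of_le_of_card_ge hlt h.ge]
            exact (le_sup_right : Subgroup.zpowers t ≤ _) (Subgroup.mem_zpowers t)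
          have hfin2 : Finite (T ⊓ Subgroup.centralizer {r xo} : Subgroup Ω) :=
            H802.finite_of_le (inf_le_left.trans hTS)
          have h4 := Subgroup.card_le_of_le hUle
          have h5 : Nat.card (T ⊓ Subgroup.centralizer {r xo} : Subgroup Ω) ≤ Nat.card T :=
            Subgroup.card_le_of_le inf_le_left
          rw [← hn]
          omega
      -- the map `μ = r χ : W' → V`
      have hμ : Mp F (T₁ ⊔ Subgroup.zpowers y) (fun w => r (χ w)) :=
        hχ.comp (hr.res hWN) fun w hw => (hχim _).2 ⟨w, hw, rfl⟩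
      have hμim : ∀ v, v ∈ V ↔ ∃ w ∈ T₁ ⊔ Subgroup.zpowers y, r (χ w) = v := by
        intro v
        rw [hrim]
        constructor
        · rintro ⟨w, hw, rfl⟩
          obtain ⟨w', hw', rfl⟩ := (hχim w).1 hw
          exact ⟨w', hw', rfl⟩
        · rintro ⟨w, hw, rfl⟩
          exact ⟨χ w, (hχim _).2 ⟨w, hw, rfl⟩, rfl⟩
      obtain ⟨μ', hμ', hμ'1, hμ'2⟩ := hμ.exists_symm le_rfl hμim
      have hrtT : r t ∈ T := mp_mem_of_stronglyClosed hT hr htN ht
      have hrtS : r t ∈ S := hTS hrtT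
      have hrt : ∀ v ∈ V, r t * v * (r t)⁻¹ ∈ V := by
        intro v hv
        obtain ⟨w, hw, rfl⟩ := (hrim v).1 hv
        rw [← hr.inv htN, ← hr.mul htN (hWN hw), ← hr.mul (mul_mem htN (hWN hw)) (inv_mem htN)]
        exact (hrim _).2 ⟨_, (Subgroup.mem_normalizer_iff.1 htWN w).1 hw, rfl⟩
      have hrt' : ∀ v ∈ V, (r t)⁻¹ * v * r t ∈ V := by
        intro v hv
        obtain ⟨w, hw, rfl⟩ := (hrim v).1 hv
        rw [← hr.inv htN, ← hr.mul (inv_mem htN) (hWN hw),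
          ← hr.mul (mul_mem (inv_mem htN) (hWN hw)) htN]
        refine (hrim _).2 ⟨_, ?_, rfl⟩
        have := (Subgroup.mem_normalizer_iff.1 (inv_mem htWN) w).1 hw
        simpa using this
      have hVS : V ≤ S := hVa.1
      have hfV : Finite V := H802.finite_of_le hVS
      have hW'c : ∀ w ∈ T₁ ⊔ Subgroup.zpowers y, t * w * t⁻¹ ∈ T₁ ⊔ Subgroup.zpowers y :=
        fun w hw => (Subgroup.mem_normalizer_iff.1 htn w).1 hw
      have hκf : Mp F V (fun v => r (χ (t * μ' ((r t)⁻¹ * v * r t) * t⁻¹))) := by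
        have h1 : Mp F V (fun v => (r t)⁻¹ * v * r t) :=
          (mp_conj F hVS (inv_mem hrtS)).congr fun v _ => by simp
        have h2 : Mp F (T₁ ⊔ Subgroup.zpowers y) (fun w => t * w * t⁻¹) := mp_conj F hW'S htS
        exact (((h1.comp hμ' hrt').comp h2 fun v hv => (hμ'2 _ (hrt' v hv)).1)).comp hμ
          fun v hv => hW'c _ (hμ'2 _ (hrt' v hv)).1
      obtain ⟨κ, hκ, hκe⟩ := hκf.exists_aut fun v hv =>
        (hμim _).2 ⟨_, hW'c _ (hμ'2 _ (hrt' v hv)).1, rfl⟩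
      have hTn : ∀ s ∈ S, ∀ u ∈ T, s * u * s⁻¹ ∈ T := fun s hs u hu =>
        H759.StronglyClosed.conj_mem hT hs hu
      have hTn' : ∀ s ∈ S, ∀ u ∈ T, s⁻¹ * u * s ∈ T := fun s hs u hu =>
        H759.StronglyClosed.conj_mem' hT hs hu
      obtain ⟨s, hs, hsκ⟩ := exists_conj_of_trivial hS hT hVa hκ (fun v hv => by
          apply Subtype.ext
          rw [← hκe v v.2]
          obtain ⟨w, hw, hwv⟩ := (hμim v).1 v.2
          have hwT : w ∈ T := mp_mem_of_stronglyClosed' hT hμ hw (by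
            show r (χ w) ∈ T
            rw [hwv]
            exact hv)
          have hw1 : w ∈ T₁ := hW'T w hw hwT
          rw [hχT w hw1] at hwv
          have h1 : (r t)⁻¹ * (v : Ω) * r t = r (χ (t⁻¹ * w * t)) := by
            rw [hχT _ (htconj' w hw1), ← hwv, ← hr.inv htN,
              ← hr.mul (inv_mem htN) (hWN (hT₁W hw1)),
              ← hr.mul (mul_mem (inv_mem htN) (hWN (hT₁W hw1))) htN]
          show r (χ (t * μ' ((r t)⁻¹ * (v : Ω) * r t) * t⁻¹)) = v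
          rw [h1, hμ'1 _ (hT₁W' (htconj' w hw1))]
          have h2 : t * (t⁻¹ * w * t) * t⁻¹ = w := by group
          rw [h2, hχT w hw1, hwv])
        (fun v => by
          rw [← hκe v v.2]
          show (v : Ω)⁻¹ * r (χ (t * μ' ((r t)⁻¹ * (v : Ω) * r t) * t⁻¹)) ∈ T
          have hvS : (v : Ω) ∈ S := hVS v.2
          set v' : Ω := (r t)⁻¹ * (v : Ω) * r t with hv'
          have hv'V : v' ∈ V := hrt' v v.2
          have h1 : (v : Ω)⁻¹ * v' ∈ T := by
            have := mul_mem (hTn' v hvS _ (inv_mem hrtT)) hrtT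
            have h2 : (v : Ω)⁻¹ * v' = (v : Ω)⁻¹ * (r t)⁻¹ * (v : Ω) * r t := by rw [hv']; group
            rw [h2]
            exact this
          set w := μ' (v : Ω) with hw
          have hwW : w ∈ T₁ ⊔ Subgroup.zpowers y := (hμ'2 v v.2).1
          have hwv : r (χ w) = v := (hμ'2 v v.2).2
          have hwS : w ∈ S := hW'S hwW
          have h2 : w⁻¹ * μ' v' ∈ T := by
            rw [hw, ← hμ'.inv v.2, ← hμ'.mul (inv_mem v.2) hv'V]
            exact mp_mem_of_stronglyClosed hT hμ' (mul_mem (inv_mem v.2) hv'V) h1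
          have h3 : w⁻¹ * (t * μ' v' * t⁻¹) ∈ T := by
            have h4 : w⁻¹ * (t * μ' v' * t⁻¹) = (w⁻¹ * t * w) * (w⁻¹ * μ' v') * t⁻¹ := by group
            rw [h4]
            exact mul_mem (mul_mem (hTn' w hwS t ht) h2) (inv_mem ht)
          have h5 : t * μ' v' * t⁻¹ ∈ T₁ ⊔ Subgroup.zpowers y := hW'c _ (hμ'2 _ hv'V).1
          have h6 : (v : Ω)⁻¹ * r (χ (t * μ' v' * t⁻¹)) = r (χ (w⁻¹ * (t * μ' v' * t⁻¹))) := by
            have h7 : r (χ (w⁻¹ * (t * μ' v' * t⁻¹))) = r (χ w⁻¹) * r (χ (t * μ' v' * t⁻¹)) :=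
              hμ.mul (inv_mem hwW) h5
            have h8 : r (χ w⁻¹) = (r (χ w))⁻¹ := hμ.inv hwW
            rw [h7, h8, hwv]
          rw [h6]
          exact mp_mem_of_stronglyClosed hT hμ (mul_mem (inv_mem hwW) h5) h3)
      -- extension of `μ` to `t`
      obtain ⟨N, ψ, hψ, hPN, hψe, hN⟩ := mp_extend hVr hμ hμim
      have htNN : t ∈ N := by
        refine hN t htS htn ⟨s * r t, mul_mem hs hrtS, fun w hw => ?_⟩
        have h1 : r (χ w) ∈ V := (hμim _).2 ⟨w, hw, rfl⟩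
        have h2 := hsκ ⟨r t * r (χ w) * (r t)⁻¹, hrt _ h1⟩
        rw [← hκe _ (hrt _ h1)] at h2
        have h3 : (r t)⁻¹ * (r t * r (χ w) * (r t)⁻¹) * r t = r (χ w) := by group
        simp only at h2
        rw [h3, hμ'1 w hw] at h2
        show r (χ (t * w * t⁻¹)) = _
        rw [h2]
        group
      have hyN : y ∈ N := hPN hyW'
      have h1 : ψ y = r xo := by
        rw [hψe y hyW']
        show r (χ y) = r xo
        rw [hχy]
      have h2 : ψ t ∈ T := mp_mem_of_stronglyClosed hT hψ htNN ht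
      have h3 : ψ (t * y) = ψ (y * t) := by
        rw [hψ.mul htNN hyN, hψ.mul hyN htNN, h1]
        exact Subgroup.mem_centralizer_iff.1 hc.1.2 _ h2
      have h4 : t * y = y * t := hψ.inj (mul_mem htNN hyN) (mul_mem hyN htNN) h3
      refine htW' (hT₁W' ⟨ht, Subgroup.mem_centralizer_iff.2 ?_⟩)
      rintro _ rfl
      exact h4.symm
  exact main _ f hf rfl

/-! ### Interface with `centralizerHom` -/

theorem le_of_isSubsystemOf (hEF : E.IsSubsystemOf F) : T ≤ S :=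
  (F.le_of_mem (hEF T (H802.subtype_mem E le_rfl))).1

theorem mem_centralizerHom_iff (hEF : E.IsSubsystemOf F) {Y P : Subgroup Ω} {φ : P →* Ω}
    (hφ : φ ∈ E.Hom P) (hY : Y ≤ centralizerIn S T) :
    φ ∈ F.centralizerHom Y P ↔
      ∃ g, Mp F (P ⊔ Y) g ∧ (∀ (y : Ω) (hy : y ∈ P), g y = φ ⟨y, hy⟩) ∧ ∀ y ∈ Y, g y = y := by
  constructor
  · rintro ⟨-, -, -, ψ, hψ, h1, h2⟩
    refine ⟨ex ψ, mp_ex hψ, fun y hy => ?_, fun y hy => ?_⟩
    · rw [ex_apply _ ((le_sup_left : P ≤ P ⊔ Y) hy)]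
      exact h1 ⟨y, hy⟩
    · rw [ex_apply _ ((le_sup_right : Y ≤ P ⊔ Y) hy)]
      exact h2 ⟨y, hy⟩
  · rintro ⟨g, ⟨ψ, hψ, h3⟩, h1, h2⟩
    have hTle : T ≤ centralizerIn S Y := by
      intro t ht
      refine ⟨le_of_isSubsystemOf hEF ht, Subgroup.mem_centralizer_iff.2 fun y hy => ?_⟩
      exact (Subgroup.mem_centralizer_iff.1 (hY hy).2 t ht).symm
    refine ⟨hEF P hφ, (E.le_of_mem hφ).1.trans hTle, fun x => hTle ((E.le_of_mem hφ).2 x),
      ψ, hψ, fun x => ?_, fun x => ?_⟩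
    · have h4 := h3 x ((le_sup_left : P ≤ P ⊔ Y) x.2)
      rw [h1 x x.2] at h4
      exact h4
    · have h4 := h3 x ((le_sup_right : Y ≤ P ⊔ Y) x.2)
      rw [h2 x x.2] at h4
      exact h4

theorem ce_iff (hEF : E.IsSubsystemOf F) {x : Ω} (hx : x ∈ centralizerIn S T) :
    CE E F x ↔ ∀ P : Subgroup Ω, E.Hom P ⊆ F.centralizerHom (Subgroup.zpowers x) P := by
  have hle : Subgroup.zpowers x ≤ centralizerIn S T := (Subgroup.zpowers_le).2 hx
  constructor
  · rintro ⟨-, h⟩ P φ hφ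
    obtain ⟨g, hg, h1, h2⟩ := h P (ex φ) (mp_ex hφ)
    refine (mem_centralizerHom_iff hEF hφ hle).2 ⟨g, hg, fun y hy => ?_, ?_⟩
    · rw [h1 y hy, ex_apply _ hy]
    · rintro _ ⟨i, rfl⟩
      show g (x ^ i) = x ^ i
      rw [Mp.zpow hg ((le_sup_right : Subgroup.zpowers x ≤ _) (Subgroup.mem_zpowers x)), h2]
  · intro h
    refine ⟨hx, fun P f hf => ?_⟩
    obtain ⟨φ, hφ, hφf⟩ := hf
    obtain ⟨g, hg, h1, h2⟩ := (mem_centralizerHom_iff hEF hφ hle).1 (h P hφ)
    exact ⟨g, hg, fun y hy => by rw [h1 y hy, hφf y hy], h2 x (Subgroup.mem_zpowers x)⟩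

/-- The largest subgroup of `C_S(T)` centralizing an invariant subsystem `E` is strongly closed. -/
theorem stronglyClosed_of_largest [Finite S] {p : ℕ} [Fact p.Prime] (hS : IsPGroup p S)
    (hF : F.IsSaturated p) (hinv : E.IsInvariantIn F) {C : Subgroup Ω}
    (hC : C ≤ centralizerIn S T) (hEC : ∀ P : Subgroup Ω, E.Hom P ⊆ F.centralizerHom C P)
    (hmax : ∀ Y : Subgroup Ω, Y ≤ centralizerIn S T →
      (∀ P : Subgroup Ω, E.Hom P ⊆ F.centralizerHom Y P) → Y ≤ C) : F.StronglyClosed C := by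
  have hEF := hinv.1
  refine ⟨hC.trans inf_le_left, fun R hR φ hφ x => ?_⟩
  have hx : CE E F x := by
    rw [ce_iff hEF (hC (hR x.2))]
    intro P ψ hψ
    obtain ⟨g, hg, h1, h2⟩ := (mem_centralizerHom_iff hEF hψ hC).1 (hEC P hψ)
    have hle : Subgroup.zpowers (x : Ω) ≤ C := (Subgroup.zpowers_le).2 (hR x.2)
    exact (mem_centralizerHom_iff hEF hψ (hle.trans hC)).2
      ⟨g, hg.res (sup_le_sup_left hle P), h1, fun y hy => h2 y (hle hy)⟩
  have hle2 : Subgroup.zpowers (x : Ω) ≤ R := (Subgroup.zpowers_le).2 x.2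
  have h1 := hx.conj hS hF hinv ((mp_ex hφ).res hle2)
  rw [ex_coe] at h1
  have h2 := (ce_iff hEF h1.1).1 h1
  exact hmax _ ((Subgroup.zpowers_le).2 h1.1) h2 (Subgroup.mem_zpowers _)

end Cfsg.Agent.H753
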