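import Cfsg.Agent.H753.IrrTwo
import Cfsg.Agent.H753.CommAutos

/-!
# Linear groups with Sylow subgroups in all point stabilizers, III (helper753, for S4992, task 2031)

`irred` : `F` acts irreducibly.
-/

set_option autoImplicit false
set_option linter.style.haveILetI false
set_option linter.unusedSectionVars false

namespace Cfsg.Agent.H753.Irr

open Subgroup Cfsg.Agent.H753.LinRing

variable {p : ℕ} {D V : Type*} [Group D] [AddCommGroup V] [DistribMulAction D V] {F : Subgroup D}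

namespace Lin

variable (h : Lin p V F)
include h

/-- only one block -/
theorem prim_uniq [Finite D] [Finite V] {e1 e2 : AddMonoid.End V} (he1 : Prim F e1) (he2 : Prim F e2) : e1 = e2 := by
  by_contra hne
  have hp := h.p_eq_two he1 he2 hne
  subst hp
  exact h.not_two he1 he2 hne

theorem prim_one [Finite D] [Finite V] [Nontrivial V] : Prim F (1 : AddMonoid.End V) := by
  obtain ⟨v, hv⟩ := exists_ne (0 : V)
  obtain ⟨e, he, -⟩ := h.exists_prim hv
  have h1 : e = 1 := by
    ext w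
    by_contra hcon
    have h2 : w - e w ≠ 0 := by
      intro h3
      exact hcon (sub_eq_zero.1 h3).symm
    obtain ⟨e', he', he2⟩ := h.exists_prim h2
    rw [h.prim_uniq he' he] at he2
    apply he2
    rw [map_sub, show e (e w) = e w from DFunLike.congr_fun he.2.2.1 w, sub_self]
  rw [← h1]
  exact he

/-- **the ring is a field** -/
theorem inv [Finite D] [Finite V] [Nontrivial V] {r : AddMonoid.End V} (hr : r ∈ R F V) (hr0 : r ≠ 0) :
    ∃ s ∈ R F V, s * r = 1 := by
  have h1 := h.prim_inv h.prim_one hr (by rwa [mul_one])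
  rwa [mul_one] at h1

theorem cyclic [Finite D] [Finite V] [Nontrivial V] : IsCyclic F := by
  refine isCyclic_of_domain (V := V) h.faith h.ab fun r hr s hs hrs => ?_
  by_cases hr0 : r = 0
  · exact Or.inl hr0
  · right
    obtain ⟨t, ht, htr⟩ := h.inv hr hr0
    calc s = (t * r) * s := by rw [htr, one_mul]
      _ = t * (r * s) := mul_assoc _ _ _
      _ = 0 := by rw [hrs, mul_zero]

theorem comm_mem [Finite D] [Finite V] [Nontrivial V] (g k : D) : g * k * g⁻¹ * k⁻¹ ∈ F := by
  refine h.cf _ fun f hf => comm_cyclic h.cyclic (fun f hf => h.nor.conj_mem f hf g)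
    (fun f hf => h.nor.conj_mem f hf k) hf

/-- **the Sylow subgroups are conjugate under `F`** -/
theorem conj_F [Finite D] [Finite V] [Nontrivial V] (S S' : Sylow p D) :
    ∃ f ∈ F, ∀ x ∈ (S : Subgroup D), f * x * f⁻¹ ∈ (S' : Subgroup D) := by
  haveI := Fact.mk h.hp
  haveI := h.nor
  obtain ⟨g, hg⟩ := MulAction.exists_smul_eq D S S'
  have hmem : ∀ (g : D) (S : Sylow p D) (x : D), x ∈ (S : Subgroup D) → g * x * g⁻¹ ∈ ((g • S : Sylow p D) : Subgroup D) := by
    intro g S x hx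
    rw [Sylow.coe_subgroup_smul]
    exact Subgroup.smul_mem_pointwise_smul _ (MulAut.conj g) _ hx
  have hS : (S : Subgroup D) ≤ F ⊔ (S : Subgroup D) := le_sup_right
  have hS' : (S' : Subgroup D) ≤ F ⊔ (S : Subgroup D) := by
    intro y hy
    rw [← hg, Sylow.coe_subgroup_smul] at hy
    obtain ⟨x, hx, rfl⟩ := hy
    change g * x * g⁻¹ ∈ _
    have h1 : g * x * g⁻¹ = (g * x * g⁻¹ * x⁻¹) * x := by group
    rw [h1]
    exact mul_mem_sup (h.comm_mem g x) hx
  obtain ⟨⟨m, hm⟩, hmS⟩ := MulAction.exists_smul_eq (F ⊔ (S : Subgroup D) : Subgroup D) (S.subtype hS) (S'.subtype hS')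
  obtain ⟨f, hf, s, hs, rfl⟩ := mem_sup_of_normal_left.1 hm
  refine ⟨f, hf, fun x hx => ?_⟩
  have hx' : s⁻¹ * x * s ∈ (S : Subgroup D) := mul_mem (mul_mem (inv_mem hs) hx) hs
  have h1 : (⟨s⁻¹ * x * s, hS hx'⟩ : (F ⊔ (S : Subgroup D) : Subgroup D)) ∈ ((S.subtype hS : Sylow p _) : Subgroup _) := hx'
  have h2 : (⟨f * s, hm⟩ : (F ⊔ (S : Subgroup D) : Subgroup D)) * ⟨s⁻¹ * x * s, hS hx'⟩ * ⟨f * s, hm⟩⁻¹ ∈
      (((⟨f * s, hm⟩ : (F ⊔ (S : Subgroup D) : Subgroup D)) • (S.subtype hS) : Sylow p _) : Subgroup _) := by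
    rw [Sylow.coe_subgroup_smul]
    exact Subgroup.smul_mem_pointwise_smul _ (MulAut.conj _) _ h1
  rw [hmS] at h2
  have h3 : (f * s) * (s⁻¹ * x * s) * (f * s)⁻¹ ∈ (S' : Subgroup D) := h2
  have h4 : (f * s) * (s⁻¹ * x * s) * (f * s)⁻¹ = f * x * f⁻¹ := by group
  rwa [h4] at h3

/-- every vector is an `F`-translate of a fixed vector of `S` -/
theorem exists_fix [Finite D] [Finite V] [Nontrivial V] (S : Sylow p D) {w : V} (hw : w ≠ 0) :
    ∃ f ∈ F, ∀ x ∈ (S : Subgroup D), x • f • w = f • w := by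
  obtain ⟨f, hf, hfS⟩ := h.conj_F S (h.Sv w)
  refine ⟨f⁻¹, inv_mem hf, fun x hx => ?_⟩
  have h1 := h.Sv_fix hw (hfS x hx)
  rw [mul_smul, mul_smul] at h1
  rw [eq_inv_smul_iff]
  exact h1

theorem trans1 [Finite D] [Finite V] [Nontrivial V] {v0 : V} (hv0 : v0 ≠ 0) (w : V) : ∃ r ∈ R F V, r v0 = w := by
  set S := h.Sv v0 with hS
  -- an element of `F` not commuting with an element of `S`
  obtain ⟨x, hx, hx1⟩ := h.exists_ne_one S
  obtain ⟨f, hf, hxf⟩ : ∃ f ∈ F, x * f ≠ f * x := by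
    by_contra hcon
    push Not at hcon
    exact hx1 (h.p_inter (h.cf x hcon) (pe_of_mem hx))
  have hmR : ∀ {r : AddMonoid.End V}, r ∈ R F V → cj x r ∈ R F V := fun hr =>
    cj_mem (fun f hf => h.nor.conj_mem f hf x) hr
  have hxv0 : x • v0 = v0 := h.Sv_fix hv0 hx
  -- fixed vectors of `S`
  have hfix : ∀ u : V, (∀ y ∈ (S : Subgroup D), y • u = u) → ∃ r ∈ R F V, r v0 = u := by
    intro u hu
    by_contra hcon
    have hcon' : ∀ r ∈ R F V, r v0 ≠ u := fun r hr h1 => hcon ⟨r, hr, h1⟩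
    have h1 : v0 + f • u ≠ 0 := by
      intro h2
      apply hcon' (-(rho D V f⁻¹)) (neg_mem (mem_R (inv_mem hf)))
      change -(f⁻¹ • v0) = u
      rw [← smul_neg, inv_smul_eq_iff]
      exact neg_eq_of_add_eq_zero_right h2
    obtain ⟨b, hb, hbS⟩ := h.exists_fix S h1
    have h2 := hbS x hx
    -- the two coefficients
    have e1 : x • b • v0 = cj x (rho D V b) v0 := by
      rw [h.cj_fix x hxv0]
      rfl
    have e2 : x • b • f • u = cj x (rho D V b * rho D V f) u := by
      rw [h.cj_fix x (hu x hx)]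
      rfl
    have h3 : (cj x (rho D V b) - rho D V b) v0 + (cj x (rho D V b * rho D V f) - rho D V b * rho D V f) u = 0 := by
      rw [smul_add, smul_add, e1, e2] at h2
      change cj x (rho D V b) v0 - b • v0 + (cj x (rho D V b * rho D V f) u - b • f • u) = 0
      rw [sub_add_sub_comm, h2, sub_self]
    have hr1 : cj x (rho D V b) - rho D V b ∈ R F V := sub_mem (hmR (mem_R hb)) (mem_R hb)
    have hr2 : cj x (rho D V b * rho D V f) - rho D V b * rho D V f ∈ R F V :=
      sub_mem (hmR (mul_mem (mem_R hb) (mem_R hf))) (mul_mem (mem_R hb) (mem_R hf))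
    have h4 : cj x (rho D V b * rho D V f) - rho D V b * rho D V f = 0 := by
      by_contra hne
      obtain ⟨s, hs, hs1⟩ := h.inv hr2 hne
      apply hcon' (-(s * (cj x (rho D V b) - rho D V b))) (neg_mem (mul_mem hs hr1))
      have h5 : s ((cj x (rho D V b) - rho D V b) v0 +
          (cj x (rho D V b * rho D V f) - rho D V b * rho D V f) u) = 0 := by rw [h3, map_zero]
      rw [map_add] at h5
      have h6 : s ((cj x (rho D V b * rho D V f) - rho D V b * rho D V f) u) = u := DFunLike.congr_fun hs1 u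
      rw [h6] at h5
      change -(s ((cj x (rho D V b) - rho D V b) v0)) = u
      exact neg_eq_of_add_eq_zero_right h5
    have h5 : cj x (rho D V b) - rho D V b = 0 := by
      by_contra hne
      obtain ⟨s, hs, hs1⟩ := h.inv hr1 hne
      rw [h4] at h3
      have h6 : (cj x (rho D V b) - rho D V b) v0 = 0 := by
        have h7 : (0 : AddMonoid.End V) u = 0 := rfl
        rwa [h7, add_zero] at h3
      apply hv0
      have h7 : s ((cj x (rho D V b) - rho D V b) v0) = v0 := DFunLike.congr_fun hs1 v0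
      rw [← h7, h6, map_zero]
    rw [cj_mul, sub_eq_zero.1 h5, ← mul_sub] at h4
    have h6 : cj x (rho D V f) - rho D V f = 0 := by
      calc cj x (rho D V f) - rho D V f
          = rho D V b⁻¹ * (rho D V b * (cj x (rho D V f) - rho D V f)) := by
            rw [← mul_assoc, ← map_mul, inv_mul_cancel, map_one, one_mul]
        _ = 0 := by rw [h4, mul_zero]
    rw [cj_rho, sub_eq_zero] at h6
    apply hxf
    have h7 : f⁻¹ * (x * f * x⁻¹) = 1 := by
      apply h.faith
      intro v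
      rw [mul_smul, inv_smul_eq_iff]
      exact DFunLike.congr_fun h6 v
    calc x * f = f * (f⁻¹ * (x * f * x⁻¹)) * x := by group
      _ = f * x := by rw [h7, mul_one]
  by_cases hw : w = 0
  · exact ⟨0, zero_mem _, hw.symm⟩
  · obtain ⟨b, hb, hbS⟩ := h.exists_fix S hw
    obtain ⟨r, hr, hrv⟩ := hfix (b • w) hbS
    refine ⟨rho D V b⁻¹ * r, mul_mem (mem_R (inv_mem hb)) hr, ?_⟩
    change b⁻¹ • r v0 = w
    rw [hrv, inv_smul_smul]

/-- **`F` is irreducible** -/
theorem irr [Finite D] [Finite V] [Nontrivial V] (W : AddSubgroup V) (hW : ∀ f ∈ F, ∀ w ∈ W, f • w ∈ W) :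
    W = ⊥ ∨ W = ⊤ := by
  by_cases hb : W = ⊥
  · exact Or.inl hb
  · right
    obtain ⟨⟨v0, hv0⟩, hv00⟩ := AddSubgroup.ne_bot_iff_exists_ne_zero.1 hb
    rw [AddSubgroup.eq_top_iff']
    intro w
    obtain ⟨r, hr, rfl⟩ := h.trans1 (v0 := v0) (fun h1 => hv00 (Subtype.ext h1)) w
    exact R_inv hW hr hv0

end Lin

/-- **task 2031** -/
theorem irred {p : ℕ} [Fact p.Prime] {D : Type*} [Group D] [Finite D] {V : Type*} [CommGroup V] [Finite V] [Nontrivial V]
    [MulDistribMulAction D V] (hV : ∀ v : V, v ^ p = 1) (hfaith : ∀ d : D, (∀ v : V, d • v = v) → d = 1)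
    (F : Subgroup D) [F.Normal] (hFab : ∀ a ∈ F, ∀ b ∈ F, a * b = b * a) (hFp : ¬ p ∣ Nat.card F)
    (hCF : ∀ d : D, (∀ f ∈ F, d * f = f * d) → d ∈ F)
    (hFit : ∀ E : Subgroup D, E.Normal → Group.IsNilpotent E → E ≤ F)
    (hsyl : ∀ v : V, v ≠ 1 → ∃ S : Sylow p D, (∀ x ∈ (S : Subgroup D), x • v = v) ∧
      ∀ d : D, d • v = v → ∀ x ∈ (S : Subgroup D), d * x * d⁻¹ ∈ (S : Subgroup D))
    (hp : p ∣ Nat.card D)
    (_hab : ∀ S : Sylow p D, ∀ a ∈ (S : Subgroup D), ∀ b ∈ (S : Subgroup D), a * b = b * a) :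
    ∀ W : Subgroup V, (∀ f ∈ F, ∀ w ∈ W, f • w ∈ W) → W = ⊥ ∨ W = ⊤ := by
  letI := CommAutos.actAdd D V
  have hL : Lin p (Additive V) F :=
    { hp := Fact.out
      pv := fun v => hV v.toMul
      faith := fun d hd => hfaith d fun v => hd (Additive.ofMul v)
      nor := inferInstance
      ab := hFab
      cop := hFp
      cf := hCF
      fit := hFit
      syl := fun v hv => hsyl v.toMul hv
      dvd := hp }
  haveI : Nontrivial (Additive V) := ‹Nontrivial V›
  intro W hW
  let U : AddSubgroup (Additive V) :=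
    { carrier := {w | w.toMul ∈ W}
      zero_mem' := W.one_mem
      add_mem' := fun ha hb => W.mul_mem ha hb
      neg_mem' := fun ha => W.inv_mem ha }
  rcases hL.irr U (fun f hf w hw => hW f hf w.toMul hw) with h1 | h1
  · left
    rw [Subgroup.eq_bot_iff_forall]
    intro x hx
    have h2 : Additive.ofMul x ∈ U := hx
    rw [h1] at h2
    exact AddSubgroup.mem_bot.1 h2
  · right
    rw [Subgroup.eq_top_iff']
    intro x
    have h2 : Additive.ofMul x ∈ U := by rw [h1]; trivial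
    exact h2

end Cfsg.Agent.H753.Irr
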