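import Cfsg.Agent.H939.RankOne
import Cfsg.Agent.LieRecognition.RankOneAbstract
import Cfsg.Agent.SuzukiRankOne.PSUModel

/-!
# Complemented subgroup lattices of rank one groups from rank one data (helper753, for S5900)
-/

set_option autoImplicit false

namespace Cfsg.Agent.H753.ClRank

open Subgroup Cfsg.Agent.H939 Cfsg.Agent.H939.KLat Cfsg.Agent.H939.Opp Cfsg.Agent.LieRecognition.RankOneAbstract

/-- rank one data, `U` a Sylow `p`-subgroup, with a subgroup `A` of `U` such that `A` and `U / A` are elementary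
abelian -/
structure RA {T : Type*} [Group T] (p : ℕ) (B U A : Subgroup T) (w : T) : Prop where
  data : Data B U w
  syl : ∃ P : Sylow p T, (P : Subgroup T) = U
  le : A ≤ U
  ne : A ≠ ⊥
  norm : ∀ h ∈ B, ∀ a ∈ A, h * a * h⁻¹ ∈ A
  comm : ∀ x ∈ A, ∀ y ∈ A, x * y = y * x
  exp : ∀ x ∈ A, x ^ p = 1
  quot : ∀ x ∈ U, ∀ y ∈ U, x * y * x⁻¹ * y⁻¹ ∈ A
  pw : ∀ x ∈ U, x ^ p ∈ A

variable {T : Type*} [Group T] {p : ℕ} {B U A : Subgroup T} {w : T}

theorem RA.eq_one_of_map (R : RA p B U A w) {T' : Type*} [Group T'] (f : T →* T') (hk : f.ker ≤ B) {x : T}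
    (hx : x ∈ U) (h : f x = 1) : x = 1 := by
  apply R.data.inter x hx
  apply hk
  rw [MonoidHom.mem_ker, map_mul, map_mul, h, mul_one, ← map_mul, inv_mul_cancel, map_one]

theorem RA.quotient [Finite T] [Fact p.Prime] (R : RA p B U A w) {T' : Type*} [Group T'] (f : T →* T')
    (hf : Function.Surjective f) (hk : f.ker ≤ B) : RA p (B.map f) (U.map f) (A.map f) (f w) where
  data := Cfsg.Agent.SuzukiRankOne.PSUModel.data_map R.data f hf hk
  syl := by
    obtain ⟨P, hP⟩ := R.syl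
    exact ⟨P.mapSurjective hf, by rw [← hP]; rfl⟩
  le := map_mono R.le
  ne := by
    intro h
    apply R.ne
    rw [eq_bot_iff]
    intro x hx
    rw [mem_bot]
    apply R.eq_one_of_map f hk (R.le hx)
    have : f x ∈ A.map f := ⟨x, hx, rfl⟩
    rw [h, mem_bot] at this
    exact this
  norm := by
    rintro _ ⟨b, hb, rfl⟩ _ ⟨a, ha, rfl⟩
    exact ⟨b * a * b⁻¹, R.norm b hb a ha, by rw [map_mul, map_mul, map_inv]⟩
  comm := by
    rintro _ ⟨b, hb, rfl⟩ _ ⟨a, ha, rfl⟩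
    rw [← map_mul, ← map_mul, R.comm b hb a ha]
  exp := by
    rintro _ ⟨a, ha, rfl⟩
    rw [← map_pow, R.exp a ha, map_one]
  quot := by
    rintro _ ⟨b, hb, rfl⟩ _ ⟨a, ha, rfl⟩
    exact ⟨b * a * b⁻¹ * a⁻¹, R.quot b hb a ha, by simp only [map_mul, map_inv]⟩
  pw := by
    rintro _ ⟨a, ha, rfl⟩
    exact ⟨a ^ p, R.pw a ha, by rw [map_pow]⟩

theorem mem_of_normalizes (D : Data B U w) (hU : U ≠ ⊥) {g : T} (hg : ∀ u ∈ U, g⁻¹ * u * g ∈ U) : g ∈ B := by
  by_contra hgB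
  apply hU
  rw [eq_bot_iff]
  intro x hx
  obtain ⟨s, hs, h⟩ := D.bruhat g hgB
  rw [mem_bot]
  -- `s x s⁻¹ ∈ U`, `g⁻¹ (s x s⁻¹) g ∈ U ≤ B`
  have h1 := hg (s * x * s⁻¹) (mul_mem (mul_mem hs hx) (inv_mem hs))
  apply D.inter x hx
  have h2 : w⁻¹ * x * w = ((s * w)⁻¹ * g) * (g⁻¹ * (s * x * s⁻¹) * g) * ((s * w)⁻¹ * g)⁻¹ := by group
  rw [h2]
  exact mul_mem (mul_mem h (D.le h1)) (inv_mem h)

theorem inter_conj (D : Data B U w) {k x : T} (hk : k ∉ B) (hx : x ∈ U) (hxk : k⁻¹ * x * k ∈ B) : x = 1 := by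
  obtain ⟨s, hs, h⟩ := D.bruhat k hk
  have h1 : w⁻¹ * (s⁻¹ * x * s) * w ∈ B := by
    have h2 : w⁻¹ * (s⁻¹ * x * s) * w = ((s * w)⁻¹ * k) * (k⁻¹ * x * k) * ((s * w)⁻¹ * k)⁻¹ := by group
    rw [h2]
    exact mul_mem (mul_mem h hxk) (inv_mem h)
  have h2 := D.inter _ (mul_mem (mul_mem (inv_mem hs) hx) hs) h1
  have h3 : x = s * (s⁻¹ * x * s) * s⁻¹ := by group
  rw [h3, h2]
  group

/-- **Rank one data give a complemented subgroup lattice.** -/
theorem RA.cl {G : Type*} [Group G] [Finite G] [IsSimpleGroup G] {p : ℕ} (hp : p.Prime) {B U A : Subgroup G} {w : G}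
    (R : RA p B U A w) : CL G := by
  have : Fact p.Prime := ⟨hp⟩
  obtain ⟨P, rfl⟩ := R.syl
  have hUne : (P : Subgroup G) ≠ ⊥ := fun h => R.ne (by
    rw [eq_bot_iff, ← h]
    exact R.le)
  have hconj : ∀ g : G, cj g (P : Subgroup G) = P → g ∈ B := by
    intro g hg
    apply mem_of_normalizes R.data hUne
    intro u hu
    rw [← hg] at hu
    exact mem_cj.1 hu
  have hBN : normalizer ((P : Subgroup G) : Set G) = B := by
    apply le_antisymm
    · intro g hg
      apply mem_of_normalizes R.data hUne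
      intro u hu
      have h1 := (mem_normalizer_iff.1 (inv_mem hg) u).1 hu
      rwa [inv_inv] at h1
    · intro b hb
      rw [mem_normalizer_iff]
      intro u
      refine ⟨R.data.norm b hb u, fun h => ?_⟩
      have h1 := R.data.norm b⁻¹ (inv_mem hb) _ h
      rwa [show b⁻¹ * (b * u * b⁻¹) * b⁻¹⁻¹ = u by group] at h1
  refine H939.RankOne.cl_rank_one P R.le R.ne ?_ ?_ ?_ (elem_of R.comm R.exp)
    (elemMod_of R.le (fun q hq a ha => R.norm q (R.data.le hq) a ha) R.quot R.pw)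
  · intro g hg
    have hgB := hconj g hg
    apply le_antisymm
    · rintro _ ⟨a, ha, rfl⟩
      exact R.norm g hgB a ha
    · intro a ha
      rw [mem_cj]
      have := R.norm g⁻¹ (inv_mem hgB) a ha
      rwa [inv_inv] at this
  · intro V hV
    obtain ⟨g, rfl⟩ := MulAction.exists_smul_eq G P V
    have hgB : g ∉ B := by
      intro hg
      apply hV
      apply Sylow.ext
      rw [Sylow.coe_subgroup_smul]
      apply le_antisymm
      · rintro _ ⟨u, hu, rfl⟩
        exact R.data.norm g hg u hu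
      · intro u hu
        refine ⟨g⁻¹ * u * g, ?_, ?_⟩
        · have := R.data.norm g⁻¹ (inv_mem hg) u hu
          rwa [inv_inv] at this
        · change g * (g⁻¹ * u * g) * g⁻¹ = u
          group
    rw [eq_bot_iff]
    intro x hx
    obtain ⟨hx1, hx2⟩ := mem_inf.1 hx
    rw [mem_bot]
    apply inter_conj R.data hgB hx1
    rw [Sylow.coe_subgroup_smul] at hx2
    obtain ⟨u, hu, rfl⟩ := hx2
    change g⁻¹ * (g * u * g⁻¹) * g ∈ B
    rw [show g⁻¹ * (g * u * g⁻¹) * g = u by group]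
    exact R.data.le hu
  · rw [Sylow.card_eq_index_normalizer P]
    exact (congrArg Subgroup.index hBN).trans R.data.index

end Cfsg.Agent.H753.ClRank
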