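import Cfsg.Agent.H753.CycRee
import Cfsg.Agent.H768.Der.Ree
import Cfsg.Agent.SignalizersComponents.CoprimeBasic
import Cfsg.Agent.S1156

/-!
# TEAM GEN (S4180), K6: generation of the small Ree groups (helper753, task 3323)

`pair_three`, `pair_two` : `²G₂(q) = ⟨A, B⟩` with `A`, `B` of order prime to `3` (to `2`), `A ∩ B ≠ 1`.
-/

set_option autoImplicit false
set_option linter.unusedSectionVars false

namespace Cfsg.Agent.H753.CohRee

open Subgroup Cfsg.Agent.H968.TwoRee Cfsg.Agent.H753.AbRee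
open Cfsg.Agent.LieRecognition.ReeAbs Cfsg.Agent.LieRecognition.ReeSylowThree Cfsg.Agent.LieRecognition.ReeSplit
open Cfsg.Agent.FixBN.RankOneRee Cfsg.Agent.H947.El
open Cfsg.Agent.SignalizersComponents

universe u

theorem not_dvd_sup {G : Type*} [Group G] [Finite G] {p : ℕ} (hp : p.Prime) {X Y : Subgroup G}
    (hn : Y ≤ normalizer (X : Set G)) (hX : ¬ p ∣ Nat.card X) (hY : ¬ p ∣ Nat.card Y) :
    ¬ p ∣ Nat.card (X ⊔ Y : Subgroup G) := by
  intro h
  rcases (hp.dvd_mul).1 (h.trans (CoprimeBasic.card_sup_dvd hn)) with h | h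
  · exact hX h
  · exact hY h

/-- what is used of `²G₂(q)` -/
structure Facts2 (R : Type*) [Group R] (m q r ρ s : ℕ) : Prop where
  F : ReeF R m q r
  N : ReeN m q r ρ
  hs : s.Prime
  hsd : s ∣ (q - 1) / 2
  conj : ∀ a b : R, orderOf a = 2 → orderOf b = 2 → IsConj a b
  /-- an involution and a commuting element of order `s` -/
  two : ∃ j y : R, orderOf j = 2 ∧ orderOf y = s ∧ j * y = y * j
  /-- a Sylow `3`-subgroup normalised by an element of order `s` -/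
  three : ∃ (P : Sylow 3 R) (y : R), orderOf y = s ∧ y ∈ normalizer ((P : Subgroup R) : Set R)

section

variable {R : Type*} [Group R] [Finite R] {m q r ρ s : ℕ} (h : Facts2 R m q r ρ s)

include h

theorem Facts2.s3 : s ≠ 3 := by
  rintro rfl
  have h1 : 3 ∣ q - 1 := h.hsd.trans (Nat.div_dvd_of_dvd (by have := h.N.q4; omega))
  have h2 := h.N.q3
  have h3 := h.N.q27
  omega

theorem Facts2.s2 : s ≠ 2 := by
  rintro rfl
  have h1 := h.hsd
  have h2 := h.N.q4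
  omega

/-- the normaliser of a subgroup of order `ρ` -/
theorem Facts2.six {x : R} (hx : orderOf x = ρ) : 6 ∣ Nat.card (normalizer (zpowers x : Set R)) := by
  have h19 := h.N.q19
  obtain ⟨A, hA, hxA, hc⟩ := h.F.norm ρ h.N.pr (by omega) (zpowers x) (by rw [Nat.card_zpowers, hx])
  have hρ : ρ ∣ Nat.card A := by
    rw [← hx, ← Nat.card_zpowers]
    exact Subgroup.card_dvd_of_le hxA
  rcases hc with ⟨h1, -⟩ | ⟨h1, -⟩ | ⟨-, h1⟩
  · exact absurd (h1 ▸ hρ.mul_left 2) h.N.nq1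
  · exact absurd (h1 ▸ hρ.mul_left 4) h.N.nqp
  · rw [h1]
    exact Dvd.intro _ rfl

theorem Facts2.exists_x : ∃ x : R, orderOf x = ρ := by
  have : Fact ρ.Prime := ⟨h.N.pr⟩
  have hρR : ρ ∣ Nat.card R := by rw [h.F.card, h.N.cube]; exact (h.N.dvd.mul_left _).mul_left _
  exact exists_prime_orderOf_dvd_card' (G := R) ρ hρR

theorem Facts2.eq_top {M : Subgroup R} {x y : R} (hx : orderOf x = ρ) (hy : orderOf y = s) (hxM : x ∈ M) (hyM : y ∈ M) :
    M = ⊤ := by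
  refine H768.Der.eq_top h.F h.N M ?_ h.hs h.hsd ?_
  · rw [← hx]
    exact Subgroup.orderOf_dvd_natCard M hxM
  · rw [← hy]
    exact Subgroup.orderOf_dvd_natCard M hyM

theorem Facts2.pair_three : ∃ A B : Subgroup R, ¬ 3 ∣ Nat.card A ∧ ¬ 3 ∣ Nat.card B ∧ A ⊔ B = ⊤ ∧ A ⊓ B ≠ ⊥ := by
  have : Fact (Nat.Prime 2) := ⟨Nat.prime_two⟩
  obtain ⟨x, hx⟩ := h.exists_x
  obtain ⟨⟨j, hjN⟩, hj⟩ := exists_prime_orderOf_dvd_card' (G := normalizer (zpowers x : Set R)) 2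
    ((show 2 ∣ 6 by norm_num).trans (h.six hx))
  rw [Subgroup.orderOf_mk] at hj
  obtain ⟨j₀, y₀, hj₀, hy₀, hjy⟩ := h.two
  obtain ⟨g, hg⟩ := isConj_iff.1 (h.conj j₀ j hj₀ hj)
  set y := g * y₀ * g⁻¹ with hy
  have hyo : orderOf y = s := by
    rw [hy, ← hy₀]
    exact (MulAut.conj g).orderOf_eq y₀
  have hcomm : j * y = y * j := by
    rw [hy, ← hg]
    calc g * j₀ * g⁻¹ * (g * y₀ * g⁻¹) = g * (j₀ * y₀) * g⁻¹ := by group
      _ = g * (y₀ * j₀) * g⁻¹ := by rw [hjy]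
      _ = _ := by group
  have h19 := h.N.q19
  have hρ3 : ¬ 3 ∣ ρ := fun h3 => by
    have := (Nat.prime_dvd_prime_iff_eq Nat.prime_three h.N.pr).1 h3
    omega
  have hs3 : ¬ 3 ∣ s := fun h3 => h.s3 ((Nat.prime_dvd_prime_iff_eq Nat.prime_three h.hs).1 h3).symm
  refine ⟨zpowers x ⊔ zpowers j, zpowers j ⊔ zpowers y, ?_, ?_, ?_, ?_⟩
  · refine not_dvd_sup Nat.prime_three ((zpowers_le).2 hjN) ?_ ?_
    · rwa [Nat.card_zpowers, hx]
    · rw [Nat.card_zpowers, hj]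
      norm_num
  · refine not_dvd_sup Nat.prime_three ((zpowers_le).2 ?_) ?_ ?_
    · refine centralizer_le_normalizer _ ?_
      rw [mem_centralizer_iff]
      intro w hw
      obtain ⟨k, rfl⟩ := mem_zpowers_iff.1 hw
      exact (Commute.zpow_left hcomm k).eq
    · rw [Nat.card_zpowers, hj]
      norm_num
    · rwa [Nat.card_zpowers, hyo]
  · exact h.eq_top hx hyo ((le_sup_left.trans le_sup_left : zpowers x ≤ _) (mem_zpowers x))
      ((le_sup_right.trans le_sup_right : zpowers y ≤ _) (mem_zpowers y))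
  · intro hbot
    have h1 : j ∈ (zpowers x ⊔ zpowers j) ⊓ (zpowers j ⊔ zpowers y) :=
      ⟨(le_sup_right : zpowers j ≤ _) (mem_zpowers j), (le_sup_left : zpowers j ≤ _) (mem_zpowers j)⟩
    rw [hbot, mem_bot] at h1
    rw [h1, orderOf_one] at hj
    omega

theorem Facts2.pair_two : ∃ A B : Subgroup R, ¬ 2 ∣ Nat.card A ∧ ¬ 2 ∣ Nat.card B ∧ A ⊔ B = ⊤ ∧ A ⊓ B ≠ ⊥ := by
  have : Fact (Nat.Prime 3) := ⟨Nat.prime_three⟩
  obtain ⟨x, hx⟩ := h.exists_x
  obtain ⟨⟨z, hzN⟩, hz⟩ := exists_prime_orderOf_dvd_card' (G := normalizer (zpowers x : Set R)) 3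
    ((show 3 ∣ 6 by norm_num).trans (h.six hx))
  rw [Subgroup.orderOf_mk] at hz
  obtain ⟨P, y₀, hy₀, hyP⟩ := h.three
  -- `z` in a conjugate of `P`
  obtain ⟨Q, hQ⟩ := (IsPGroup.of_card (p := 3) (n := 1) (by rw [Nat.card_zpowers, hz, pow_one]) :
    IsPGroup 3 (zpowers z)).exists_le_sylow
  obtain ⟨g, hg⟩ := MulAction.exists_smul_eq R P Q
  set y := g * y₀ * g⁻¹ with hy
  have hyo : orderOf y = s := by
    rw [hy, ← hy₀]
    exact (MulAut.conj g).orderOf_eq y₀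
  have hyQ : y ∈ normalizer ((Q : Subgroup R) : Set R) := by
    have hmem : ∀ w : R, w ∈ (Q : Subgroup R) ↔ g⁻¹ * w * g ∈ (P : Subgroup R) := by
      intro w
      rw [← hg, Sylow.coe_subgroup_smul, mem_pointwise_smul_iff_inv_smul_mem]
      have e : (MulAut.conj g)⁻¹ • w = g⁻¹ * w * g := by
        rw [← map_inv]
        simp
      rw [e]
    rw [mem_normalizer_iff]
    intro w
    rw [hmem, hmem, (mem_normalizer_iff.1 hyP (g⁻¹ * w * g))]
    have e : g⁻¹ * (y * w * y⁻¹) * g = y₀ * (g⁻¹ * w * g) * y₀⁻¹ := by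
      rw [hy]
      group
    rw [e]
  have h19 := h.N.q19
  have hρ2 : ¬ 2 ∣ ρ := fun h3 => by
    have := (Nat.prime_dvd_prime_iff_eq Nat.prime_two h.N.pr).1 h3
    omega
  have hs2 : ¬ 2 ∣ s := fun h3 => h.s2 ((Nat.prime_dvd_prime_iff_eq Nat.prime_two h.hs).1 h3).symm
  refine ⟨zpowers x ⊔ zpowers z, (Q : Subgroup R) ⊔ zpowers y, ?_, ?_, ?_, ?_⟩
  · refine not_dvd_sup Nat.prime_two ((zpowers_le).2 hzN) ?_ ?_
    · rwa [Nat.card_zpowers, hx]
    · rw [Nat.card_zpowers, hz]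
      norm_num
  · refine not_dvd_sup Nat.prime_two ((zpowers_le).2 hyQ) ?_ ?_
    · obtain ⟨k, hk⟩ := (IsPGroup.iff_card).1 Q.isPGroup'
      intro h2
      rw [hk] at h2
      have := (Nat.prime_dvd_prime_iff_eq Nat.prime_two Nat.prime_three).1 (Nat.prime_two.dvd_of_dvd_pow h2)
      omega
    · rwa [Nat.card_zpowers, hyo]
  · exact h.eq_top hx hyo ((le_sup_left.trans le_sup_left : zpowers x ≤ _) (mem_zpowers x))
      ((le_sup_right.trans le_sup_right : zpowers y ≤ _) (mem_zpowers y))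
  · intro hbot
    have h1 : z ∈ (zpowers x ⊔ zpowers z) ⊓ ((Q : Subgroup R) ⊔ zpowers y) :=
      ⟨(le_sup_right : zpowers z ≤ _) (mem_zpowers z), (le_sup_left : (Q : Subgroup R) ≤ _) (hQ (mem_zpowers z))⟩
    rw [hbot, mem_bot] at h1
    rw [h1, orderOf_one] at hz
    omega

end

theorem facts2 {K : Type*} [Field K] [Fintype K] {m : ℕ} (hm : 1 ≤ m) (hK : Fintype.card K = 3 ^ (2 * m + 1)) :
    ∃ ρ s, Facts2 ↥(Cfsg.Lie.twistedG2 K (3 ^ m)) m (3 ^ (2 * m + 1)) (3 ^ (m + 1)) ρ s := by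
  obtain ⟨ρ, n⟩ := exists_reeN m hm
  obtain ⟨U, h, w, D⟩ := Cfsg.Agent.ChevalleyStructure.Ree.Data.exists_data hK
  have hfin : Finite ↥(Cfsg.Lie.twistedG2 K (3 ^ m)) := finite D
  obtain ⟨P, hP⟩ := (Cfsg.Agent.H71.RoRee.ro hm hK D).syl
  have h27 := n.q27
  have h4 := n.q4
  obtain ⟨s, hs, hsd⟩ := Nat.exists_prime_and_dvd (n := (3 ^ (2 * m + 1) - 1) / 2) (by omega)
  have : Fact s.Prime := ⟨hs⟩
  have hsq : s ∣ 3 ^ (2 * m + 1) - 1 := hsd.trans (Nat.div_dvd_of_dvd (by omega))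
  obtain ⟨a, ha⟩ := exists_prime_orderOf_dvd_card' (G := Kˣ) s (by
    rw [Nat.card_units, Nat.card_eq_fintype_card, hK]
    exact hsq)
  let H : Kˣ →* ↥(Cfsg.Lie.twistedG2 K (3 ^ m)) := ⟨⟨h, D.h_one⟩, D.h_mul⟩
  have hH : Function.Injective H := by
    intro x y hxy
    exact (D.inj₁ 0 0 0 x 0 0 0 y (by rw [show h x = h y from hxy])).2.2.2
  have hch : CharP K 3 := LieRecognition.ReeAbs.charP_three hK
  have hneg : (-1 : Kˣ) ≠ 1 := by
    intro h1
    have h2 : (-1 : K) = 1 := congrArg Units.val h1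
    have h3 : (3 : K) = 0 := by exact_mod_cast CharP.cast_eq_zero K 3
    have h4 : (1 : K) = 0 := by linear_combination h3 + h2
    exact one_ne_zero h4
  refine ⟨ρ, s, reeF hm hK n, n, hs, hsd, (facts hm hK).conj, ⟨H (-1), H a, ?_, ?_, ?_⟩, ⟨P, H a, ?_, ?_⟩⟩
  · rw [orderOf_injective H hH]
    refine orderOf_eq_prime ?_ hneg
    rw [neg_one_sq]
  · rw [orderOf_injective H hH, ha]
  · rw [← map_mul, mul_comm, map_mul]
  · rw [orderOf_injective H hH, ha]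
  · rw [hP, mem_normalizer_iff]
    intro x
    refine ⟨fun hx => h_conj_mem D a hx, fun hx => ?_⟩
    have h5 := h_conj_mem D a⁻¹ hx
    rw [D.h_inv] at h5
    have e : (h a)⁻¹ * (H a * x * (H a)⁻¹) * ((h a)⁻¹)⁻¹ = x := by
      change (h a)⁻¹ * (h a * x * (h a)⁻¹) * ((h a)⁻¹)⁻¹ = x
      group
    rwa [e] at h5

end Cfsg.Agent.H753.CohRee
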