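import Cfsg.Agent.H753.CohSz
import Cfsg.Agent.H753.CohRee
import Cfsg.Agent.H891.DG.Tools

/-!
# TEAM GEN (S4180), K5 and K6: `Coh` for the Suzuki groups and the small Ree groups (helper753, tasks 3322, 3323)
-/

set_option autoImplicit false

namespace Cfsg.Agent.H753.CohRows

open Subgroup Cfsg.Agent.H891.DG Cfsg.Agent.H891.DG.Tools

universe u v

/-- **K5** -/
theorem coh_sz (T : Type u) [Group T] [Finite T] [IsSimpleGroup T] (h : Cfsg.Lie.IsoSuzuki T) : Coh T := by
  obtain ⟨F, _, _, m, hm, hF, ⟨e⟩⟩ := h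
  obtain ⟨f⟩ := OddCyclic.ClaimC.SzIso.iso hm hF
  obtain ⟨c, b, hc, hc1, hcb⟩ := CohSz.exists_pair hm hF
  set E : ↥(Cfsg.Sz F m) ≃* T := f.trans e.symm with hE
  have hna : ¬ IsMulCommutative T := by
    intro hcm
    have hc' : IsMulCommutative ↥(Cfsg.Lie.Sz F (2 ^ (m + 1))) :=
      ⟨⟨fun x y => e.symm.injective (by rw [map_mul, map_mul, hcm.is_comm.comm])⟩⟩
    have h1 := CycSz.center_eq_bot hm hF
    rw [Subgroup.center_eq_top_iff.2 hc'] at h1
    have hs : IsSimpleGroup ↥(Cfsg.Lie.Sz F (2 ^ (m + 1))) := Cfsg.Agent.S1162.result hm hF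
    exact bot_ne_top h1.symm
  refine coh_of_involution hna (c := E c) (b := E b) ?_ ?_ ?_
  · rw [← map_pow, hc, map_one]
  · intro h
    exact hc1 (E.injective (h.trans (map_one E).symm))
  · have h1 : (closure ({c, b} : Set ↥(Cfsg.Sz F m))).map E.toMonoidHom = closure ({E c, E b} : Set T) := by
      rw [MonoidHom.map_closure, Set.image_pair]
      rfl
    rw [← h1, hcb]
    exact Subgroup.map_top_of_surjective _ E.surjective

/-- **K6** -/
theorem coh_ree (T : Type u) [Group T] [Finite T] [IsSimpleGroup T] (h : Cfsg.Lie.IsoRee T) : Coh T := by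
  obtain ⟨K, _, _, m, hm, hK, ⟨e⟩⟩ := h
  have hfin : Finite ↥(Cfsg.Lie.twistedG2 K (3 ^ m)) := Finite.of_equiv _ e.toEquiv
  obtain ⟨ρ, s, h⟩ := CohRee.facts2 hm hK
  have hinj := e.symm.injective
  have key : ∀ p : ℕ, p.Prime → (∃ A B : Subgroup ↥(Cfsg.Lie.twistedG2 K (3 ^ m)), ¬ p ∣ Nat.card A ∧ ¬ p ∣ Nat.card B ∧
      A ⊔ B = ⊤ ∧ A ⊓ B ≠ ⊥) → CohAt p T := by
    rintro p hp ⟨A, B, hA, hB, hAB, hi⟩
    refine cohAt_of_two hp (A := A.map e.symm.toMonoidHom) (B := B.map e.symm.toMonoidHom) ?_ ?_ ?_ ?_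
    · rwa [Subgroup.card_map_of_injective hinj]
    · rwa [Subgroup.card_map_of_injective hinj]
    · rw [← Subgroup.map_sup, hAB]
      exact Subgroup.map_top_of_surjective _ e.symm.surjective
    · rw [← Subgroup.map_inf _ _ _ hinj]
      intro h1
      exact hi ((Subgroup.map_eq_bot_iff_of_injective _ hinj).1 h1)
  intro p hp
  rcases Nat.lt_or_ge 3 p with h3 | h3
  · have : Fact p.Prime := ⟨hp⟩
    obtain ⟨P⟩ : Nonempty (Sylow p T) := inferInstance
    refine cohAt_of_cyclic hp P ?_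
    have h1 := h.F.cyc p hp h3 ((P : Subgroup T).map e.toMonoidHom) (P.isPGroup'.map _)
    have e1 := (P : Subgroup T).equivMapOfInjective e.toMonoidHom e.injective
    exact isCyclic_of_surjective e1.symm.toMonoidHom e1.symm.surjective
  · have h2 := hp.two_le
    interval_cases p
    · exact key 2 hp h.pair_two
    · exact key 3 hp h.pair_three

end Cfsg.Agent.H753.CohRows
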