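import Cfsg.Agent.H753.CycSz
import Cfsg.Agent.S2251
import Cfsg.Agent.S0333
import Cfsg.Agent.S0325

/-!
# TEAM GEN (S4180), K5: the Suzuki groups are generated by an involution and another element (helper753, task 3322)

* `card_lt` : a self-centralizing cyclic subgroup and an invariant subgroup meeting it trivially;
* `exists_pair` : `Sz(q) = ⟨c, b⟩`, `c` an involution.
-/

set_option autoImplicit false

namespace Cfsg.Agent.H753.CohSz

open Subgroup

universe u

/-- `b` normalises `W`, `C(u) = ⟨b⟩` for all `1 ≠ u ∈ ⟨b⟩`, `W ∩ ⟨b⟩ = 1 ≠ W`: then `o(b) < |W|`. -/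
theorem card_lt {G : Type*} [Group G] [Finite G] {b : G}
    (hb : ∀ u ∈ zpowers b, u ≠ 1 → centralizer ({u} : Set G) = zpowers b) {W : Subgroup G}
    (hW : b ∈ normalizer (W : Set G)) (h1 : W ≠ ⊥) (h2 : ∀ w ∈ W, w ∈ zpowers b → w = 1) : orderOf b < Nat.card W := by
  classical
  obtain ⟨⟨w, hw⟩, hw1⟩ := (Subgroup.ne_bot_iff_exists_ne_one).1 h1
  have hw1' : w ≠ 1 := fun h => hw1 (Subtype.ext h)
  have hz : zpowers b ≤ normalizer (W : Set G) := (zpowers_le).2 hW
  let f : Option (zpowers b) → W := fun o => o.elim 1 fun x =>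
    ⟨x * w * (x : G)⁻¹, (mem_normalizer_iff.1 (hz x.2) w).1 hw⟩
  have hf : Function.Injective f := by
    rintro (_ | x) (_ | y) h
    · rfl
    · exfalso
      have h3 : (1 : G) = y * w * (y : G)⁻¹ := congrArg Subtype.val h
      apply hw1'
      calc w = (y : G)⁻¹ * (y * w * (y : G)⁻¹) * y := by group
        _ = 1 := by rw [← h3]; group
    · exfalso
      have h3 : x * w * (x : G)⁻¹ = 1 := congrArg Subtype.val h
      apply hw1'
      calc w = (x : G)⁻¹ * (x * w * (x : G)⁻¹) * x := by group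
        _ = 1 := by rw [h3]; group
    · have h3 : x * w * (x : G)⁻¹ = y * w * (y : G)⁻¹ := congrArg Subtype.val h
      by_contra hne
      have hxy : (y : G)⁻¹ * x ≠ 1 := by
        intro h4
        apply hne
        rw [inv_mul_eq_one] at h4
        rw [Subtype.ext h4]
      have h5 : (y : G)⁻¹ * x ∈ zpowers b := mul_mem (inv_mem y.2) x.2
      have h6 : w ∈ centralizer ({(y : G)⁻¹ * x} : Set G) := by
        rw [mem_centralizer_singleton_iff]
        calc w * ((y : G)⁻¹ * x) = (y : G)⁻¹ * (y * w * (y : G)⁻¹) * x := by group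
          _ = (y : G)⁻¹ * (x * w * (x : G)⁻¹) * x := by rw [h3]
          _ = (y : G)⁻¹ * x * w := by group
      rw [hb _ h5 hxy] at h6
      exact hw1' (h2 w hw h6)
  have h3 := Nat.card_le_card_of_injective f hf
  have h4 : Nat.card (Option (zpowers b)) = orderOf b + 1 := by
    rw [Finite.card_option, Nat.card_zpowers]
  omega

/-- the normalizer of a nontrivial subgroup of `⟨b⟩` -/
theorem normalizer_le {G : Type*} [Group G] {b : G}
    (hb : ∀ u ∈ zpowers b, u ≠ 1 → centralizer ({u} : Set G) = zpowers b) {W : Subgroup G} (hWc : IsMulCommutative W)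
    {w : G} (hw : w ∈ W) (hwb : w ∈ zpowers b) (hw1 : w ≠ 1) :
    normalizer (W : Set G) ≤ normalizer (zpowers b : Set G) := by
  have hWb : W ≤ zpowers b := by
    rw [← hb w hwb hw1]
    intro x hx
    rw [mem_centralizer_singleton_iff]
    exact congrArg Subtype.val (hWc.is_comm.comm (⟨x, hx⟩ : W) ⟨w, hw⟩)
  intro g hg
  have hgw : g * w * g⁻¹ ∈ W := (mem_normalizer_iff.1 hg w).1 hw
  have hgw1 : g * w * g⁻¹ ≠ 1 := by
    intro h
    apply hw1
    calc w = g⁻¹ * (g * w * g⁻¹) * g := by group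
      _ = 1 := by rw [h]; group
  rw [mem_normalizer_iff]
  intro x
  conv_lhs => rw [← hb w hwb hw1]
  rw [← hb _ (hWb hgw) hgw1, mem_centralizer_singleton_iff, mem_centralizer_singleton_iff]
  constructor
  · intro h
    calc g * x * g⁻¹ * (g * w * g⁻¹) = g * (x * w) * g⁻¹ := by group
      _ = g * (w * x) * g⁻¹ := by rw [h]
      _ = _ := by group
  · intro h
    calc x * w = g⁻¹ * (g * x * g⁻¹ * (g * w * g⁻¹)) * g := by group
      _ = g⁻¹ * (g * w * g⁻¹ * (g * x * g⁻¹)) * g := by rw [h]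
      _ = _ := by group

variable {F : Type*} [Field F] [Fintype F] {m : ℕ}

/-- an involution outside a proper subgroup with a nontrivial normal subgroup.. -/
theorem exists_involution {G : Type*} [Group G] [Finite G] [IsSimpleGroup G] (h2 : 2 ∣ Nat.card G) {N : Subgroup G}
    (hN : N ≠ ⊤) : ∃ c : G, c ^ 2 = 1 ∧ c ≠ 1 ∧ c ∉ N := by
  by_contra hcon
  push Not at hcon
  have : Fact (Nat.Prime 2) := ⟨Nat.prime_two⟩
  obtain ⟨t, ht⟩ := exists_prime_orderOf_dvd_card' (G := G) 2 h2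
  have ht2 : t ^ 2 = 1 := by rw [← ht, pow_orderOf_eq_one]
  have ht1 : t ≠ 1 := by
    rintro rfl
    rw [orderOf_one] at ht
    omega
  have h3 : normalClosure {t} = ⊤ := by
    rcases IsSimpleGroup.eq_bot_or_eq_top_of_normal (normalClosure {t}) normalClosure_normal with h | h
    · exfalso
      apply ht1
      have : t ∈ normalClosure {t} := subset_normalClosure rfl
      rwa [h, mem_bot] at this
    · exact h
  apply hN
  rw [eq_top_iff, ← h3, normalClosure, closure_le]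
  intro y hy
  rw [Group.mem_conjugatesOfSet_iff] at hy
  obtain ⟨x, rfl, hxy⟩ := hy
  obtain ⟨g, rfl⟩ := isConj_iff.1 hxy
  refine hcon _ ?_ ?_
  · rw [conj_pow, ht2, mul_one, mul_inv_cancel]
  · intro h
    apply ht1
    calc x = g⁻¹ * (g * x * g⁻¹) * g := by group
      _ = 1 := by rw [h]; group

/-- **The Suzuki groups.** -/
theorem exists_pair (hm : 1 ≤ m) (hF : Fintype.card F = 2 ^ (2 * m + 1)) :
    ∃ c b : ↥(Cfsg.Sz F m), c ^ 2 = 1 ∧ c ≠ 1 ∧ closure ({c, b} : Set ↥(Cfsg.Sz F m)) = ⊤ := by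
  have hs : IsSimpleGroup ↥(Cfsg.Sz F m) := S0325.result hm hF
  have hcard := S0324.result hm hF
  obtain ⟨U, hUc, hUk, hUC, -⟩ := S0333.result hm hF _ (Set.mem_insert _ _)
  obtain ⟨⟨b, hbU⟩, hb⟩ := hUc.exists_generator
  have hzp : zpowers b = U := by
    refine le_antisymm (zpowers_le.2 hbU) fun x hx => ?_
    obtain ⟨j, hj⟩ := mem_zpowers_iff.1 (hb ⟨x, hx⟩)
    exact ⟨j, congrArg Subtype.val hj⟩
  have hbo : orderOf b = 2 ^ (2 * m + 1) + 2 ^ (m + 1) + 1 := by rw [← Nat.card_zpowers, hzp, hUk]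
  have hC : ∀ u ∈ zpowers b, u ≠ 1 → centralizer ({u} : Set ↥(Cfsg.Sz F m)) = zpowers b := by
    rw [hzp]
    exact hUC
  have h8 : 2 ^ 3 ≤ 2 ^ (2 * m + 1) := Nat.pow_le_pow_right (by norm_num) (by omega)
  have hr : 0 < 2 ^ (m + 1) := by positivity
  have hodd : ¬ 2 ∣ orderOf b := by
    rw [hbo, pow_succ, pow_succ]
    omega
  have hb1 : b ≠ 1 := by
    rintro rfl
    rw [orderOf_one] at hbo
    omega
  have h2 : 2 ∣ Nat.card ↥(Cfsg.Sz F m) := by
    rw [hcard]
    refine Dvd.dvd.mul_right (Dvd.dvd.mul_right ?_ _) _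
    exact dvd_pow (dvd_pow_self 2 (by omega)) (by norm_num)
  have hN : normalizer (zpowers b : Set ↥(Cfsg.Sz F m)) ≠ ⊤ := by
    intro h
    have hn : (zpowers b).Normal := normalizer_eq_top_iff.1 h
    rcases hs.eq_bot_or_eq_top_of_normal _ hn with h3 | h3
    · exact hb1 (zpowers_eq_bot.1 h3)
    · apply hodd
      rwa [← Nat.card_zpowers, h3, card_top]
  obtain ⟨c, hc2, hc1, hcN⟩ := exists_involution h2 hN
  refine ⟨c, b, hc2, hc1, ?_⟩
  set M := closure ({c, b} : Set ↥(Cfsg.Sz F m)) with hM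
  have hcM : c ∈ M := subset_closure (by simp)
  have hbM : b ∈ M := subset_closure (by simp)
  by_contra hMt
  rcases S2251.result hm hF M hMt with ⟨P, hP⟩ | ⟨U', hU'c, hU', hMU⟩ | ⟨K, iK, iKf, k, hk1, hkm, hK, hdvd, S, ⟨e⟩, hMS⟩
  · -- the normalizer of a Sylow 2-subgroup
    have hPc := (S0330.result hm hF P).2.2.2
    let W : Subgroup ↥(Cfsg.Sz F m) := (center (P : Subgroup ↥(Cfsg.Sz F m))).map (P : Subgroup ↥(Cfsg.Sz F m)).subtype
    have hWc : Nat.card W = 2 ^ (2 * m + 1) := by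
      rw [← hPc]
      exact card_map_of_injective (P : Subgroup ↥(Cfsg.Sz F m)).subtype_injective
    have hbW : b ∈ normalizer (W : Set ↥(Cfsg.Sz F m)) := by
      have hbP := hP hbM
      have key : ∀ g ∈ normalizer ((P : Subgroup ↥(Cfsg.Sz F m)) : Set ↥(Cfsg.Sz F m)), ∀ x ∈ W, g * x * g⁻¹ ∈ W := by
        rintro g hg _ ⟨x, hx, rfl⟩
        have hgx : g * (x : ↥(Cfsg.Sz F m)) * g⁻¹ ∈ (P : Subgroup ↥(Cfsg.Sz F m)) := (mem_normalizer_iff.1 hg _).1 x.2
        refine ⟨⟨g * (x : ↥(Cfsg.Sz F m)) * g⁻¹, hgx⟩, ?_, rfl⟩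
        change _ ∈ center (P : Subgroup ↥(Cfsg.Sz F m))
        rw [mem_center_iff]
        intro y
        apply Subtype.ext
        have hgy : g⁻¹ * (y : ↥(Cfsg.Sz F m)) * g ∈ (P : Subgroup ↥(Cfsg.Sz F m)) := by
          have h3 := (mem_normalizer_iff.1 (inv_mem hg) (y : ↥(Cfsg.Sz F m))).1 y.2
          rwa [inv_inv] at h3
        have h4 : (g⁻¹ * (y : ↥(Cfsg.Sz F m)) * g) * x = x * (g⁻¹ * (y : ↥(Cfsg.Sz F m)) * g) :=
          congrArg Subtype.val (mem_center_iff.1 hx ⟨_, hgy⟩)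
        change (y : ↥(Cfsg.Sz F m)) * (g * x * g⁻¹) = g * x * g⁻¹ * y
        calc (y : ↥(Cfsg.Sz F m)) * (g * x * g⁻¹) = g * ((g⁻¹ * (y : ↥(Cfsg.Sz F m)) * g) * x) * g⁻¹ := by group
          _ = g * (x * (g⁻¹ * (y : ↥(Cfsg.Sz F m)) * g)) * g⁻¹ := by rw [h4]
          _ = _ := by group
      rw [mem_normalizer_iff]
      intro x
      refine ⟨fun hx => key b hbP x hx, fun hx => ?_⟩
      have h3 := key b⁻¹ (inv_mem hbP) _ hx
      have e : b⁻¹ * (b * x * b⁻¹) * b⁻¹⁻¹ = x := by group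
      rwa [e] at h3
    have h3 := card_lt hC hbW ?_ ?_
    · rw [hWc, hbo] at h3
      omega
    · intro h
      rw [h, card_bot] at hWc
      omega
    · intro w hw hwb
      have h4 : orderOf w ∣ 2 ^ (2 * m + 1) := by
        rw [← hWc]
        exact Subgroup.orderOf_dvd_natCard W hw
      have h5 : orderOf w ∣ orderOf b := by
        rw [← Nat.card_zpowers b]
        exact Subgroup.orderOf_dvd_natCard _ hwb
      have h6 : Nat.Coprime (2 ^ (2 * m + 1)) (orderOf b) :=
        Nat.Coprime.pow_left _ ((Nat.Prime.coprime_iff_not_dvd Nat.prime_two).2 hodd)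
      have h7 := Nat.dvd_gcd h4 h5
      rw [h6, Nat.dvd_one, orderOf_eq_one_iff] at h7
      exact h7
  · -- the normalizer of a torus
    have hle : Nat.card U' ≤ orderOf b := by
      rw [hbo]
      rcases hU' with h | h | h <;> rw [h] <;> omega
    have hne : U' ≠ ⊥ := by
      intro hbot
      have hcb : Nat.card U' = 1 := by rw [hbot, card_bot]
      have h9 : 2 * 2 ^ (m + 1) ≤ 2 ^ (2 * m + 1) := by
        rw [← pow_succ']
        exact Nat.pow_le_pow_right (by norm_num) (by omega)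
      rcases hU' with h | h | h
      · rw [hcb] at h
        omega
      · rw [hcb] at h
        omega
      · rw [Set.mem_singleton_iff, hcb] at h
        omega
    by_cases h3 : ∀ w ∈ U', w ∈ zpowers b → w = 1
    · have h4 := card_lt hC (hMU hbM) hne h3
      omega
    · push Not at h3
      obtain ⟨w, hw, hwb, hw1⟩ := h3
      exact hcN (normalizer_le hC inferInstance hw hwb hw1 (hMU hcM))
  · -- a smaller Suzuki group
    obtain ⟨e'⟩ := OddCyclic.ClaimC.SzIso.iso (F := K) hk1 hK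
    have h3 := CycSz.orderOf_le hk1 hK (e' (e ⟨b, hMS hbM⟩))
    rw [MulEquiv.orderOf_eq, MulEquiv.orderOf_eq, Subgroup.orderOf_mk, hbo] at h3
    have h4 : 2 ^ (2 * k + 1) < 2 ^ (2 * m + 1) := Nat.pow_lt_pow_right (by norm_num) (by omega)
    have h5 : 2 ^ (k + 1) < 2 ^ (m + 1) := Nat.pow_lt_pow_right (by norm_num) (by omega)
    omega

end Cfsg.Agent.H753.CohSz
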