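import Mathlib

/-!
# Matrices of size 4 whose characteristic polynomial has coefficients in the prime field (helper753)

* `orderOf_le` : the order is at most `16`;
* `ne_thirteen` : the order is not `13`.
-/

set_option autoImplicit false

namespace Cfsg.Agent.H753.CycSzLin

open Polynomial Matrix

variable {F : Type*} [Field F]

theorem exists_dvd (h2 : (2 : F) = 0) {p : F[X]} (hp : p.Monic) (hd : p.natDegree = 4)
    (hc : ∀ i, p.coeff i = 0 ∨ p.coeff i = 1) (h0 : p.coeff 0 ≠ 0) :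
    ∃ N, ¬ 13 ∣ N ∧ 0 < N ∧ p ∣ X ^ N - 1 := by
  have hp' := hp.as_sum
  rw [hd] at hp'
  simp only [Finset.sum_range_succ, Finset.sum_range_zero, zero_add, pow_zero, mul_one, pow_one] at hp'
  have e2 : (2 : F[X]) = 0 := by
    have : (2 : F[X]) = C (2 : F) := (map_ofNat C 2).symm
    rw [this, h2, C_0]
  rw [(hc 0).resolve_left h0, C_1] at hp'
  rcases hc 1 with h1 | h1 <;> rcases hc 2 with h2 | h2 <;> rcases hc 3 with h3 | h3 <;>
    rw [h1, h2, h3] at hp' <;> simp only [C_0, C_1, zero_mul, one_mul, add_zero] at hp' <;> rw [hp']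
  · exact ⟨4, by norm_num, by norm_num, 1, by linear_combination (-1) * e2⟩
  · exact ⟨15, by norm_num, by norm_num, 1 + X^3 + X^4 + X^6 + X^8 + X^9 + X^10 + X^11,
      by linear_combination (-1 - X^3 - X^4 - X^6 - X^7 - X^8 - X^9 - X^10 - X^11 - X^12 - X^13 - X^14) * e2⟩
  · exact ⟨6, by norm_num, by norm_num, 1 + X^2, by linear_combination (-1 - X^2 - X^4) * e2⟩
  · exact ⟨7, by norm_num, by norm_num, 1 + X^2 + X^3,
      by linear_combination (-1 - X^2 - X^3 - X^4 - X^5 - X^6) * e2⟩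
  · exact ⟨15, by norm_num, by norm_num, 1 + X + X^2 + X^3 + X^5 + X^7 + X^8 + X^11,
      by linear_combination (-1 - X - X^2 - X^3 - X^4 - X^5 - X^6 - X^7 - X^8 - X^9 - X^11 - X^12) * e2⟩
  · exact ⟨6, by norm_num, by norm_num, 1 + X + X^2,
      by linear_combination (-1 - X - X^2 - X^3 - X^4 - X^5) * e2⟩
  · exact ⟨7, by norm_num, by norm_num, 1 + X + X^3,
      by linear_combination (-1 - X - X^2 - X^3 - X^4 - X^5) * e2⟩
  · exact ⟨5, by norm_num, by norm_num, 1 + X, by linear_combination (-1 - X - X^2 - X^3 - X^4) * e2⟩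

variable (A : Matrix (Fin 4) (Fin 4) F)

theorem coeff_zero_ne (hA : IsUnit A) : A.charpoly.coeff 0 ≠ 0 := by
  intro h
  have h1 := A.det_eq_sign_charpoly_coeff
  rw [h, mul_zero] at h1
  exact ((Matrix.isUnit_iff_isUnit_det A).1 hA).ne_zero h1

theorem ne_thirteen (h2 : (2 : F) = 0) (hA : IsUnit A) (hc : ∀ i, A.charpoly.coeff i = 0 ∨ A.charpoly.coeff i = 1) :
    orderOf A ≠ 13 := by
  intro h13
  obtain ⟨N, hN, -, c, hc'⟩ := exists_dvd h2 A.charpoly_monic (by rw [A.charpoly_natDegree_eq_dim, Fintype.card_fin])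
    hc (coeff_zero_ne A hA)
  have h3 : aeval A (X ^ N - 1 : F[X]) = 0 := by
    rw [hc', map_mul, Matrix.aeval_self_charpoly, zero_mul]
  rw [map_sub, map_pow, aeval_X, map_one, sub_eq_zero] at h3
  exact hN (h13 ▸ orderOf_dvd_of_pow_eq_one h3)

/-- the subset spanned by `1, A, A², A³` over the prime field -/
def span4 : Set (Matrix (Fin 4) (Fin 4) F) :=
  Set.range fun e : Fin 4 → Bool => ∑ i : Fin 4, (if e i then (1 : F) else 0) • A ^ (i : ℕ)

theorem card_span4 : Nat.card (span4 A) ≤ 16 := by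
  have h := Nat.card_le_card_of_surjective (Set.rangeFactorization
    fun e : Fin 4 → Bool => ∑ i : Fin 4, (if e i then (1 : F) else 0) • A ^ (i : ℕ)) Set.rangeFactorization_surjective
  refine h.trans (le_of_eq ?_)
  rw [Nat.card_eq_fintype_card, Fintype.card_fun, Fintype.card_bool, Fintype.card_fin]
  norm_num

theorem bool_of {a : F} (h : a = 0 ∨ a = 1) : ∃ b : Bool, a = if b then 1 else 0 := by
  rcases h with h | h
  · exact ⟨false, by simp [h]⟩
  · exact ⟨true, by simp [h]⟩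

theorem mem_span4_iff {B : Matrix (Fin 4) (Fin 4) F} : B ∈ span4 A ↔
    ∃ a b c d : F, (a = 0 ∨ a = 1) ∧ (b = 0 ∨ b = 1) ∧ (c = 0 ∨ c = 1) ∧ (d = 0 ∨ d = 1) ∧
      B = a • 1 + b • A + c • A ^ 2 + d • A ^ 3 := by
  constructor
  · rintro ⟨e, rfl⟩
    refine ⟨if e 0 then 1 else 0, if e 1 then 1 else 0, if e 2 then 1 else 0, if e 3 then 1 else 0, ?_, ?_, ?_, ?_, ?_⟩
    · by_cases h : e 0 = true <;> simp [h]
    · by_cases h : e 1 = true <;> simp [h]
    · by_cases h : e 2 = true <;> simp [h]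
    · by_cases h : e 3 = true <;> simp [h]
    · simp [Fin.sum_univ_four]
  · rintro ⟨a, b, c, d, ha, hb, hc, hd, rfl⟩
    obtain ⟨a, rfl⟩ := bool_of ha
    obtain ⟨b, rfl⟩ := bool_of hb
    obtain ⟨c, rfl⟩ := bool_of hc
    obtain ⟨d, rfl⟩ := bool_of hd
    refine ⟨![a, b, c, d], ?_⟩
    clear ha hb hc hd
    cases a <;> cases b <;> cases c <;> cases d <;> simp [Fin.sum_univ_four]

theorem add_bool (h2 : (2 : F) = 0) {a b : F} (ha : a = 0 ∨ a = 1) (hb : b = 0 ∨ b = 1) : a + b = 0 ∨ a + b = 1 := by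
  rcases ha with rfl | rfl <;> rcases hb with rfl | rfl
  · left; ring
  · right; ring
  · right; ring
  · left
    rw [← h2]
    ring

theorem mul_bool {a b : F} (ha : a = 0 ∨ a = 1) (hb : b = 0 ∨ b = 1) : a * b = 0 ∨ a * b = 1 := by
  rcases ha with rfl | rfl <;> rcases hb with rfl | rfl <;> simp

/-- the order is at most `16` -/
theorem orderOf_le (h2 : (2 : F) = 0) (hc : ∀ i, A.charpoly.coeff i = 0 ∨ A.charpoly.coeff i = 1) :
    orderOf A ≤ 16 := by
  have h4 : A ^ 4 = A.charpoly.coeff 0 • 1 + A.charpoly.coeff 1 • A + A.charpoly.coeff 2 • A ^ 2 +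
      A.charpoly.coeff 3 • A ^ 3 := by
    have h3 := A.aeval_self_charpoly
    have h5 := A.charpoly_monic.as_sum
    rw [A.charpoly_natDegree_eq_dim, Fintype.card_fin] at h5
    simp only [Finset.sum_range_succ, Finset.sum_range_zero, zero_add, pow_zero, mul_one, pow_one] at h5
    rw [h5] at h3
    simp only [map_add, map_mul, map_pow, aeval_X, aeval_C, Algebra.algebraMap_eq_smul_one, smul_mul_assoc,
      one_mul] at h3
    have hneg : ∀ M : Matrix (Fin 4) (Fin 4) F, -M = M := by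
      intro M
      rw [neg_eq_iff_add_eq_zero]
      have : (2 : F) • M = 0 := by rw [h2, zero_smul]
      rwa [two_smul] at this
    rw [add_eq_zero_iff_eq_neg, hneg] at h3
    exact h3
  have hmem : ∀ k : ℕ, A ^ k ∈ span4 A := by
    intro k
    induction k with
    | zero =>
      rw [mem_span4_iff]
      exact ⟨1, 0, 0, 0, Or.inr rfl, Or.inl rfl, Or.inl rfl, Or.inl rfl, by simp⟩
    | succ k ih =>
      rw [mem_span4_iff] at ih ⊢
      obtain ⟨a, b, c, d, ha, hb, hcc, hd, h⟩ := ih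
      refine ⟨d * A.charpoly.coeff 0, a + d * A.charpoly.coeff 1, b + d * A.charpoly.coeff 2,
        c + d * A.charpoly.coeff 3, mul_bool hd (hc 0), add_bool h2 ha (mul_bool hd (hc 1)),
        add_bool h2 hb (mul_bool hd (hc 2)), add_bool h2 hcc (mul_bool hd (hc 3)), ?_⟩
      rw [pow_succ, h]
      have e3 : A ^ 3 * A = A ^ 4 := rfl
      have e2 : A ^ 2 * A = A ^ 3 := rfl
      rw [add_mul, add_mul, add_mul, smul_mul_assoc, smul_mul_assoc, smul_mul_assoc, smul_mul_assoc, e3, e2, h4, one_mul,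
        ← pow_two]
      simp only [smul_add, add_smul, smul_smul]
      abel
  let f : Fin (orderOf A) → span4 A := fun k => ⟨A ^ (k : ℕ), hmem k⟩
  have hf : Function.Injective f := by
    intro i j hij
    have h3 : A ^ (i : ℕ) = A ^ (j : ℕ) := congrArg Subtype.val hij
    exact Fin.ext (pow_injOn_Iio_orderOf i.2 j.2 h3)
  have hfin : Finite (span4 A) := Set.finite_range _
  have h3 := Nat.card_le_card_of_injective f hf
  rw [Nat.card_eq_fintype_card, Fintype.card_fin] at h3
  exact h3.trans (card_span4 A)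

end Cfsg.Agent.H753.CycSzLin
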