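import Cfsg.Agent.H753.CycTools
import Cfsg.Agent.H753.CycSzLin
import Cfsg.Agent.H70.SzOut
import Cfsg.Agent.H743.MeetTw
import Cfsg.Agent.S2238
import Cfsg.Agent.S0330
import Cfsg.Agent.S2337
import Cfsg.Agent.S2126
import Cfsg.Agent.S1162
import Cfsg.Agent.S1163
import Cfsg.Agent.OddCyclic.ClaimC.SzIso

/-!
# TEAM TWOCYC (S3507): the row `Sz(q)` (helper753)

* `smC_sz` : `SmC` for the Suzuki groups.
-/

set_option autoImplicit false

namespace Cfsg.Agent.H753.CycSz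

open Cfsg Cfsg.Agent.H384.Cyc Cfsg.Agent.H753.Cyc
open Cfsg.Agent.LieRecognition.SzMatrix Cfsg.Agent.ThreePrime Cfsg.Agent.ThreePrime.SzRel
open Cfsg.Agent.H70.SzOut

universe u v

variable {F : Type*} [Field F] [Fintype F] {m : ℕ}

/-- the orders of the elements -/
theorem orders (hm : 1 ≤ m) (hF : Fintype.card F = 2 ^ (2 * m + 1)) (x : ↥(Cfsg.Lie.Sz F (2 ^ (m + 1)))) :
    orderOf x ≤ 4 ∨ orderOf x ∣ 2 ^ (2 * m + 1) - 1 ∨ orderOf x ∣ 2 ^ (2 * m + 1) + 2 ^ (m + 1) + 1 ∨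
      orderOf x ∣ 2 ^ (2 * m + 1) - 2 ^ (m + 1) + 1 := by
  obtain ⟨e⟩ := OddCyclic.ClaimC.SzIso.iso hm hF
  rw [← e.symm.orderOf_eq]
  generalize e.symm x = y
  by_cases hy : y = 1
  · left
    rw [hy, orderOf_one]
    norm_num
  obtain ⟨U, ⟨hU, hyU⟩, -⟩ := Cfsg.Agent.S2238.result hm hF y hy
  rcases hU with ⟨P, rfl⟩ | ⟨-, hN⟩
  · left
    have h1 := (Cfsg.Agent.S0330.result hm hF P).2.1
    have h2 := Monoid.pow_exponent_eq_one (⟨y, hyU⟩ : (P : Subgroup ↥(Cfsg.Sz F m)))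
    rw [h1] at h2
    exact orderOf_le_of_pow_eq_one (by norm_num) (congrArg Subtype.val h2)
  · right
    have h5 : orderOf y ∣ Nat.card U := by
      rw [← Subgroup.orderOf_mk y hyU]
      exact orderOf_dvd_natCard _
    rcases hN with hN | hN | hN
    · exact Or.inl (hN ▸ h5)
    · exact Or.inr (Or.inl (hN ▸ h5))
    · exact Or.inr (Or.inr (hN ▸ h5))

theorem orderOf_le (hm : 1 ≤ m) (hF : Fintype.card F = 2 ^ (2 * m + 1)) (x : ↥(Cfsg.Lie.Sz F (2 ^ (m + 1)))) :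
    orderOf x ≤ 2 ^ (2 * m + 1) + 2 ^ (m + 1) + 1 := by
  have h1 : 2 ^ 3 ≤ 2 ^ (2 * m + 1) := Nat.pow_le_pow_right (by norm_num) (by omega)
  have h0 : 0 < 2 ^ (m + 1) := by positivity
  rcases orders hm hF x with h | h | h | h
  · omega
  · exact (Nat.le_of_dvd (by omega) h).trans (by omega)
  · exact Nat.le_of_dvd (by omega) h
  · exact (Nat.le_of_dvd (by omega) h).trans (by omega)

theorem charpoly_conj {F : Type*} [Field F] {g x y : GL (Fin 4) F} (h : g * y * g⁻¹ = x) :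
    (x.1 : Matrix (Fin 4) (Fin 4) F).charpoly = (y.1 : Matrix (Fin 4) (Fin 4) F).charpoly := by
  rw [← h, Units.val_mul, Units.val_mul, Matrix.coe_units_inv]
  exact Matrix.charpoly_units_conj g _

/-- the characteristic polynomial of an element fixed by an outer automorphism -/
theorem coeff_fixed {F : Type*} [Field F] {θ : F →+* F} {e : ℕ} (H : Good F θ e) {g x : ↥(Cfsg.Lie.Sz F e)}
    {σ : F ≃+* F} (h : (MulAut.conj g * fieldAut H σ) x = x) (i : ℕ) :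
    σ ((x.1.1 : Matrix (Fin 4) (Fin 4) F).charpoly.coeff i) = (x.1.1 : Matrix (Fin 4) (Fin 4) F).charpoly.coeff i := by
  have h1 : g * fieldAut H σ x * g⁻¹ = x := h
  have h2 := charpoly_conj (congrArg Subtype.val h1)
  have h3 : ((fieldAut H σ x).1.1 : Matrix (Fin 4) (Fin 4) F) = (x.1.1 : Matrix (Fin 4) (Fin 4) F).map (σ : F →+* F) := by
    ext a b
    exact fieldAut_apply H σ x a b
  rw [h3, Matrix.charpoly_map] at h2
  have h4 := congrArg (fun p => Polynomial.coeff p i) h2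
  simp only [Polynomial.coeff_map] at h4
  exact h4.symm

theorem two_eq_zero (hF : Fintype.card F = 2 ^ (2 * m + 1)) : (2 : F) = 0 := by
  have h1 := Nat.cast_card_eq_zero F
  rw [hF] at h1
  push_cast at h1
  exact pow_eq_zero_iff (by omega) |>.1 h1

/-- the fixed elements of a nontrivial field automorphism, if `2 m + 1` is a prime -/
theorem eq_zero_or_one (hF : Fintype.card F = 2 ^ (2 * m + 1)) (hp : (2 * m + 1).Prime) {σ : F ≃+* F} (hσ : σ ≠ 1)
    {a : F} (ha : σ a = a) : a = 0 ∨ a = 1 := by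
  have : Fact (2 * m + 1).Prime := ⟨hp⟩
  have : Fact (Nat.Prime 2) := ⟨Nat.prime_two⟩
  have h2 : CharP F 2 := by
    have := two_eq_zero hF
    exact CharTwo.of_one_ne_zero_of_two_eq_zero one_ne_zero this
  have hcard : Nat.card (F ≃+* F) = 2 * m + 1 := Cfsg.Agent.Lib.FieldAutCard.card_ringAut (by omega) hF
  let φ : F ≃+* F := frobeniusEquiv F 2
  have h1 : φ ∈ Subgroup.zpowers σ := mem_zpowers_of_prime_card hcard hσ
  obtain ⟨k, hk⟩ := Subgroup.mem_zpowers_iff.1 h1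
  have h3 : ∀ j : ℤ, (σ ^ j) a = a := by
    intro j
    have : σ ∈ MulAction.stabilizer (F ≃+* F) a := ha
    exact Subgroup.zpow_mem _ this j
  have h4 : φ a = a := by rw [← hk]; exact h3 k
  have h5 : a ^ 2 = a := h4
  have h6 : a * (a - 1) = 0 := by linear_combination h5
  rcases mul_eq_zero.1 h6 with h | h
  · exact Or.inl h
  · exact Or.inr (sub_eq_zero.1 h)

theorem orderOf_mat {F : Type*} [Field F] {e : ℕ} (x : ↥(Cfsg.Lie.Sz F e)) : orderOf (x.1.1 : Matrix (Fin 4) (Fin 4) F) = orderOf x := by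
  rw [orderOf_units, Subgroup.orderOf_coe]

theorem center_eq_bot (hm : 1 ≤ m) (hF : Fintype.card F = 2 ^ (2 * m + 1)) :
    Subgroup.center ↥(Cfsg.Lie.Sz F (2 ^ (m + 1))) = ⊥ := by
  have hs : IsSimpleGroup ↥(Cfsg.Lie.Sz F (2 ^ (m + 1))) := Cfsg.Agent.S1162.result hm hF
  rcases hs.eq_bot_or_eq_top_of_normal _ (inferInstance : (Subgroup.center ↥(Cfsg.Lie.Sz F (2 ^ (m + 1)))).Normal) with h | h
  · exact h
  exfalso
  have hcard := (Cfsg.Agent.S1163.result hm hF).1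
  have hna : ¬ IsMulCommutative ↥(Cfsg.Lie.Sz F (2 ^ (m + 1))) := by
    have h3 : 2 ^ 3 ≤ 2 ^ (2 * m + 1) := Nat.pow_le_pow_right (by norm_num) (by omega)
    refine H743.MeetTw.not_comm_of_not_dvd (a := (2 ^ (2 * m + 1)) ^ 2 * (2 ^ (2 * m + 1) - 1))
      (b := (2 ^ (2 * m + 1)) ^ 2 + 1) ?_ ?_ hcard
    · generalize 2 ^ (2 * m + 1) = q at h3
      obtain ⟨k, rfl⟩ := Nat.exists_eq_add_of_le h3
      rw [show 2 ^ 3 + k - 1 = 7 + k by omega]
      nlinarith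
    · have : 0 < (2 ^ (2 * m + 1)) ^ 2 := by positivity
      omega
  exact hna (Subgroup.center_eq_top_iff.1 h)

/-- the outer automorphisms, if `2 m + 1` is a prime -/
theorem outer (hm : 1 ≤ m) (hF : Fintype.card F = 2 ^ (2 * m + 1)) (hp : (2 * m + 1).Prime)
    (α : MulAut ↥(Cfsg.Lie.Sz F (2 ^ (m + 1)))) :
    (∃ x, α = MulAut.conj x) ∨ ∃ x, α ^ (2 * m + 1) = MulAut.conj x ∧ orderOf x ≤ 16 ∧ orderOf x ≠ 13 := by
  obtain ⟨g, σ, hσ⟩ := H743.MeetTw.sz_aut hm hF α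
  by_cases h1 : σ = 1
  · left
    refine ⟨g, ?_⟩
    rw [hσ, h1, map_one, mul_one]
  right
  have hfin : Finite ↥(Cfsg.Lie.Sz F (2 ^ (m + 1))) := inferInstance
  have h2 : ((QuotientGroup.mk α : Cfsg.Out ↥(Cfsg.Lie.Sz F (2 ^ (m + 1))))) ^ (2 * m + 1) = 1 := by
    rw [← S2126.result hm hF]
    exact pow_card_eq_one'
  have h3 : ((QuotientGroup.mk (α ^ (2 * m + 1)) : Cfsg.Out ↥(Cfsg.Lie.Sz F (2 ^ (m + 1))))) = 1 := h2
  rw [QuotientGroup.eq_one_iff] at h3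
  obtain ⟨x, hx⟩ := h3
  refine ⟨x, hx.symm, ?_⟩
  have h4 : α x = x := by
    have h5 : MulAut.conj (α x) = MulAut.conj x := by
      have h6 : α * MulAut.conj x * α⁻¹ = MulAut.conj x := by
        rw [show (MulAut.conj x : MulAut ↥(Cfsg.Lie.Sz F (2 ^ (m + 1)))) = α ^ (2 * m + 1) from hx]
        group
      rw [← h6]
      ext1 y
      simp [MulAut.conj_apply, MulAut.mul_apply]
    have h7 : (α x) * x⁻¹ ∈ Subgroup.center ↥(Cfsg.Lie.Sz F (2 ^ (m + 1))) := by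
      rw [Subgroup.mem_center_iff]
      intro y
      have h8 := DFunLike.congr_fun h5 (x⁻¹ * y * x)
      simp only [MulAut.conj_apply] at h8
      calc y * ((α x) * x⁻¹) = x * (x⁻¹ * y * x) * x⁻¹ * (α x * x⁻¹) := by group
        _ = α x * (x⁻¹ * y * x) * (α x)⁻¹ * (α x * x⁻¹) := by rw [h8]
        _ = α x * x⁻¹ * y := by group
    rw [center_eq_bot hm hF, Subgroup.mem_bot, mul_inv_eq_one] at h7
    exact h7
  have h5 := fun i => eq_zero_or_one hF hp h1 (coeff_fixed (good hF) (by rw [← hσ]; exact h4) i)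
  rw [← orderOf_mat]
  exact ⟨CycSzLin.orderOf_le _ (two_eq_zero hF) h5, CycSzLin.ne_thirteen _ (two_eq_zero hF) x.1.isUnit h5⟩

theorem num_aux (t k : ℕ) (h1 : k + 1 ≤ t) (h8 : 8 ≤ t) :
    2 * (k * (2 * (t * t) + 2 * t + 1)) ≤ 3 * (t * (2 * (t * t) - 1)) := by
  obtain ⟨s, rfl⟩ := Nat.exists_eq_add_of_le h8
  have h2 : k ≤ 7 + s := by omega
  have h3 : 2 * ((8 + s) * (8 + s)) - 1 = 2 * (s * s) + 32 * s + 127 := by
    have : 2 * ((8 + s) * (8 + s)) = 2 * (s * s) + 32 * s + 128 := by ring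
    omega
  rw [h3]
  have h4 : k * (2 * ((8 + s) * (8 + s)) + 2 * (8 + s) + 1) ≤ (7 + s) * (2 * ((8 + s) * (8 + s)) + 2 * (8 + s) + 1) :=
    Nat.mul_le_mul_right _ h2
  refine (Nat.mul_le_mul_left 2 h4).trans ?_
  nlinarith [Nat.zero_le s, Nat.zero_le (s * s), Nat.zero_le (s * s * s)]

theorem two_mul_add_le {m : ℕ} (hm : 3 ≤ m) : 2 * m + 1 + 1 ≤ 2 ^ m := by
  induction m, hm using Nat.le_induction with
  | base => norm_num
  | succ n hn ih =>
    rw [pow_succ]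
    omega

/-- the orders of the automorphisms -/
theorem exists_mo (hm : 1 ≤ m) (hF : Fintype.card F = 2 ^ (2 * m + 1)) :
    ∃ M, Mo ↥(Cfsg.Lie.Sz F (2 ^ (m + 1))) M ∧ 2 * M ≤ 3 * (2 ^ m * (2 ^ (2 * m + 1) - 1)) := by
  rcases Nat.lt_or_ge m 3 with h3 | h3
  · interval_cases m
    · refine ⟨21, ?_, by norm_num⟩
      intro α
      rcases outer hm hF (by norm_num) α with ⟨x, rfl⟩ | ⟨x, hx, -, h13⟩
      · have h1 := (orderOf_conj_le x).trans (orderOf_le hm hF x)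
        norm_num at h1
        omega
      · have h1 : orderOf x ≤ 7 := by
          rcases orders hm hF x with h | h | h | h
          · omega
          · exact Nat.le_of_dvd (by norm_num) h
          · norm_num at h h13
            rcases (Nat.dvd_prime (by norm_num)).1 h with h | h
            · omega
            · exact absurd h h13
          · exact (Nat.le_of_dvd (by norm_num) h).trans (by norm_num)
        refine orderOf_le_of_pow (n := 3) (k := 7) (by norm_num) (orderOf_pos _) ?_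
        have hx' : α ^ 3 = MulAut.conj x := hx
        rw [hx']
        exact (orderOf_conj_le x).trans h1
    · refine ⟨186, ?_, by norm_num⟩
      intro α
      rcases outer hm hF (by norm_num) α with ⟨x, rfl⟩ | ⟨x, hx, h1, -⟩
      · have h1 := (orderOf_conj_le x).trans (orderOf_le hm hF x)
        norm_num at h1
        omega
      · have h2 := orderOf_le_of_pow (a := α) (n := 5) (k := 16) (by norm_num) (orderOf_pos _) (by
          have hx' : α ^ 5 = MulAut.conj x := hx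
          rw [hx']
          exact (orderOf_conj_le x).trans h1)
        omega
  · refine ⟨_, mo_of_out (S2126.result hm hF) (by omega) (orderOf_le hm hF), ?_⟩
    have e1 : 2 ^ (2 * m + 1) = 2 * (2 ^ m * 2 ^ m) := by ring
    have e2 : 2 ^ (m + 1) = 2 * 2 ^ m := by ring
    rw [e1, e2]
    exact num_aux _ _ (two_mul_add_le h3) (by
      calc 8 = 2 ^ 3 := rfl
        _ ≤ 2 ^ m := Nat.pow_le_pow_right (by norm_num) h3)

/-- **Suzuki groups** -/
theorem smC_sz {T : Type u} [Group T] (h : Lie.IsoSuzuki T) : SmC T := by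
  obtain ⟨F, _, _, m, hm, hF, ⟨e⟩⟩ := h
  refine SmC.congr (T := ↥(Cfsg.Lie.Sz F (2 ^ (m + 1)))) ?_ e.symm
  obtain ⟨M, h1, h2⟩ := exists_mo hm hF
  exact ⟨M, _, h1, md_of_rep (S2337.result m hm hF), h2⟩

theorem ord_sz {T : Type u} [Group T] (h : Lie.IsoSuzuki T) : H384.Cyc.Ord T := by
  obtain ⟨F, _, _, m, hm, hF, ⟨e⟩⟩ := h
  refine H384.Cyc.Ord.congr (T := ↥(Cfsg.Lie.Sz F (2 ^ (m + 1)))) ?_ e.symm
  obtain ⟨M, h1, h2⟩ := exists_mo hm hF
  refine ⟨M, h1, ?_⟩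
  rw [(Cfsg.Agent.S1163.result hm hF).1]
  have h3 : 2 ^ 3 ≤ 2 ^ (2 * m + 1) := Nat.pow_le_pow_right (by norm_num) (by omega)
  have e1 : 2 ^ (2 * m + 1) = 2 * (2 ^ m * 2 ^ m) := by ring
  obtain ⟨t, ht⟩ : ∃ t, t = 2 ^ m := ⟨_, rfl⟩
  rw [← ht] at e1 h2
  generalize 2 ^ (2 * m + 1) = q at e1 h2 h3 ⊢
  obtain ⟨k, rfl⟩ := Nat.exists_eq_add_of_le h3
  rw [show 2 ^ 3 + k - 1 = 7 + k by omega] at h2 ⊢
  have h4 : (2 * M) * (2 * M) ≤ (3 * (t * (7 + k))) * (3 * (t * (7 + k))) := Nat.mul_le_mul h2 h2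
  have h5 : 2 * ((2 * M) * (2 * M)) ≤ 9 * ((2 ^ 3 + k) * ((7 + k) * (7 + k))) := by
    calc 2 * ((2 * M) * (2 * M)) ≤ 2 * ((3 * (t * (7 + k))) * (3 * (t * (7 + k)))) := Nat.mul_le_mul_left _ h4
      _ = 9 * ((2 * (t * t)) * ((7 + k) * (7 + k))) := by ring
      _ = _ := by rw [← e1]
  have h6 : 9 * ((2 ^ 3 + k) * ((7 + k) * (7 + k))) < 4 * ((2 ^ 3 + k) ^ 2 * (7 + k) * ((2 ^ 3 + k) ^ 2 + 1)) := by
    have h7 : 9 * ((7 + k)) < 4 * ((2 ^ 3 + k) * ((2 ^ 3 + k) ^ 2 + 1)) := by nlinarith [Nat.zero_le k, Nat.zero_le (k * k)]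
    calc 9 * ((2 ^ 3 + k) * ((7 + k) * (7 + k))) = (9 * (7 + k)) * ((2 ^ 3 + k) * (7 + k)) := by ring
      _ < (4 * ((2 ^ 3 + k) * ((2 ^ 3 + k) ^ 2 + 1))) * ((2 ^ 3 + k) * (7 + k)) :=
        Nat.mul_lt_mul_of_pos_right h7 (by positivity)
      _ = _ := by ring
  nlinarith

end Cfsg.Agent.H753.CycSz
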