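import Cfsg.Agent.H753.LinRing

/-!
# Linear groups with Sylow subgroups in all point stabilizers, I (helper753, for S4992, task 2031)

`Lin p V F` : the hypotheses. `Prim F e` : `e` is a primitive idempotent of the ring generated by `F`.
Here: the blocks `{v | e v = v}`, and the Sylow subgroups `Sv v`.
-/

set_option autoImplicit false
set_option linter.style.haveILetI false
set_option linter.unusedSectionVars false

namespace Cfsg.Agent.H753.Irr

open Subgroup Cfsg.Agent.H753.LinRing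

/-- the hypotheses -/
structure Lin (p : ℕ) {D : Type*} (V : Type*) [Group D] [AddCommGroup V] [DistribMulAction D V] (F : Subgroup D) :
    Prop where
  hp : p.Prime
  pv : ∀ v : V, p • v = 0
  faith : ∀ d : D, (∀ v : V, d • v = v) → d = 1
  nor : F.Normal
  ab : ∀ a ∈ F, ∀ b ∈ F, a * b = b * a
  cop : ¬ p ∣ Nat.card F
  cf : ∀ d : D, (∀ f ∈ F, d * f = f * d) → d ∈ F
  fit : ∀ E : Subgroup D, E.Normal → Group.IsNilpotent E → E ≤ F
  syl : ∀ v : V, v ≠ 0 → ∃ S : Sylow p D, (∀ x ∈ (S : Subgroup D), x • v = v) ∧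
    ∀ d : D, d • v = v → ∀ x ∈ (S : Subgroup D), d * x * d⁻¹ ∈ (S : Subgroup D)
  dvd : p ∣ Nat.card D

variable {p : ℕ} {D V : Type*} [Group D] [AddCommGroup V] [DistribMulAction D V] {F : Subgroup D}

/-- `p`-elements -/
def PE (p : ℕ) (x : D) : Prop := ∃ k : ℕ, x ^ p ^ k = 1

theorem PE.conj {x : D} (hx : PE p x) (g : D) : PE p (g * x * g⁻¹) := by
  obtain ⟨k, hk⟩ := hx
  exact ⟨k, by rw [conj_pow, hk]; group⟩

theorem pe_of_mem {S : Sylow p D} {x : D} (hx : x ∈ (S : Subgroup D)) : PE p x := by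
  obtain ⟨k, hk⟩ := S.isPGroup' ⟨x, hx⟩
  exact ⟨k, congrArg Subtype.val hk⟩

/-- primitive idempotents -/
def Prim (F : Subgroup D) (e : AddMonoid.End V) : Prop :=
  e ∈ R F V ∧ e ≠ 0 ∧ e * e = e ∧ ∀ f ∈ R F V, f * f = f → e * f = 0 ∨ e * f = e

namespace Lin

variable (h : Lin p V F)
include h

theorem pcast : ((p : ℕ) : AddMonoid.End V) = 0 := by
  ext v
  rw [AddMonoid.End.natCast_apply]
  exact h.pv v

theorem frob {x y : AddMonoid.End V} (hc : Commute x y) (n : ℕ) : (x + y) ^ p ^ n = x ^ p ^ n + y ^ p ^ n := by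
  obtain ⟨r, hr⟩ := hc.exists_add_pow_prime_pow_eq h.hp n
  rw [hr, h.pcast]
  simp

theorem exists_pow [Finite D] : ∃ k : ℕ, ∀ r ∈ R F V, r ^ (k + 2) = r := by
  have hcop : Nat.Coprime p (Nat.card F) := (Nat.Prime.coprime_iff_not_dvd h.hp).2 h.cop
  obtain ⟨n, hn⟩ : ∃ n, n = (Nat.card F).totient := ⟨_, rfl⟩
  have hn0 : n ≠ 0 := by
    rw [hn]
    exact (Nat.totient_pos.2 Nat.card_pos).ne'
  have hq2 : 2 ≤ p ^ n := h.hp.two_le.trans (Nat.le_self_pow hn0 p)
  refine ⟨p ^ n - 2, fun r hr => ?_⟩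
  rw [Nat.sub_add_cancel hq2]
  have hmod : p ^ n ≡ 1 [MOD Nat.card F] := by
    rw [hn]
    exact Nat.ModEq.pow_totient hcop
  induction hr using Subring.closure_induction with
  | mem x hx =>
    obtain ⟨f, hf, rfl⟩ := hx
    rw [← map_pow]
    congr 1
    have h1 : (⟨f, hf⟩ : F) ^ p ^ n = (⟨f, hf⟩ : F) ^ 1 := by
      rw [pow_eq_pow_iff_modEq]
      exact hmod.of_dvd (orderOf_dvd_natCard _)
    rw [pow_one] at h1
    exact congrArg Subtype.val h1
  | zero => exact zero_pow (by omega)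
  | one => exact one_pow _
  | add x y hx hy ihx ihy =>
    rw [h.frob (comm h.ab hx hy) n, ihx, ihy]
  | neg x hx ihx =>
    have h1 := h.frob (show Commute x (-x) from comm h.ab hx (neg_mem hx)) n
    rw [add_neg_cancel, zero_pow (by omega), ihx] at h1
    exact (neg_eq_of_add_eq_zero_right h1.symm).symm
  | mul x y hx hy ihx ihy =>
    rw [Commute.mul_pow (comm h.ab hx hy), ihx, ihy]

/-- the idempotent of an element of the ring -/
theorem exists_idem [Finite D] {r : AddMonoid.End V} (hr : r ∈ R F V) (hr0 : r ≠ 0) :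
    ∃ s ∈ R F V, (s * r) * (s * r) = s * r ∧ r * (s * r) = r ∧ s * r ≠ 0 := by
  obtain ⟨k, hk⟩ := h.exists_pow
  have h1 := hk r hr
  refine ⟨r ^ k, pow_mem hr k, ?_, ?_, ?_⟩
  · calc r ^ k * r * (r ^ k * r) = r ^ (k + 2) * r ^ k := by
          rw [← pow_succ, ← pow_add, ← pow_add]; congr 1; omega
      _ = r ^ k * r := by rw [h1, ← pow_succ', ← pow_succ]
  · rw [← pow_succ, ← pow_succ', h1]
  · intro h2
    apply hr0
    rw [← h1, show k + 2 = (k + 1) + 1 from rfl, pow_succ, pow_succ, h2, zero_mul]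

theorem prim_inv [Finite D] {e r : AddMonoid.End V} (he : Prim F e) (hr : r ∈ R F V) (hre : r * e ≠ 0) :
    ∃ s ∈ R F V, s * (r * e) = e := by
  obtain ⟨he1, -, he3, he4⟩ := he
  have hx : r * e ∈ R F V := mul_mem hr he1
  obtain ⟨s, hs, hs1, -, hs3⟩ := h.exists_idem hx hre
  have hg : s * (r * e) ∈ R F V := mul_mem hs hx
  have h1 : e * (s * (r * e)) = s * (r * e) := by
    rw [comm h.ab he1 hg, mul_assoc, mul_assoc, he3]
  rcases he4 _ hg hs1 with h2 | h2
  · rw [h1] at h2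
    exact absurd h2 hs3
  · rw [h1] at h2
    exact ⟨s, hs, h2⟩

theorem exists_prim [Finite V] {v : V} (hv : v ≠ 0) : ∃ e : AddMonoid.End V, Prim F e ∧ e v ≠ 0 := by
  have hne : ∃ n : ℕ, ∃ e ∈ R F V, e * e = e ∧ e v ≠ 0 ∧ (Set.range e).ncard = n :=
    ⟨_, 1, one_mem _, one_mul _, hv, rfl⟩
  classical
  obtain ⟨e, he1, he2, he3, he4⟩ := Nat.find_spec hne
  have key : ∀ g ∈ R F V, g * g = g → (e * g) v ≠ 0 → e * g = e := by
    intro g hg hgg hgv
    have hc := comm h.ab he1 hg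
    have hidem : (e * g) * (e * g) = e * g := by
      calc (e * g) * (e * g) = e * (g * e) * g := by simp only [mul_assoc]
        _ = e * (e * g) * g := by rw [hc]
        _ = (e * e) * (g * g) := by simp only [mul_assoc]
        _ = e * g := by rw [he2, hgg]
    have hmin := Nat.find_min' hne ⟨e * g, mul_mem he1 hg, hidem, hgv, rfl⟩
    rw [← he4] at hmin
    have hsub : Set.range (e * g) ⊆ Set.range e := by
      rintro _ ⟨w, rfl⟩
      exact ⟨g w, rfl⟩
    have heq := Set.eq_of_subset_of_ncard_le hsub hmin (Set.toFinite _)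
    ext w
    have h1 : e w ∈ Set.range (e * g) := by
      rw [heq]
      exact ⟨w, rfl⟩
    obtain ⟨u, hu⟩ := h1
    have h2 : (e * g) (e w) = e w := by
      rw [← hu]
      exact DFunLike.congr_fun hidem u
    have h3 : (e * g) (e w) = (e * g) w := by
      have h4 : (e * g) * e = e * g := by rw [mul_assoc, ← hc, ← mul_assoc, he2]
      exact DFunLike.congr_fun h4 w
    rw [← h3, h2]
  refine ⟨e, ⟨he1, ?_, he2, ?_⟩, he3⟩
  · rintro rfl
    exact he3 rfl
  · intro f hf hff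
    by_cases hv1 : (e * f) v = 0
    · left
      have h1 : (1 - f) * (1 - f) = 1 - f := by
        rw [mul_sub, mul_one, sub_mul, one_mul, hff, sub_self, sub_zero]
      have h2 : (e * (1 - f)) v ≠ 0 := by
        rw [mul_sub, mul_one]
        change e v - (e * f) v ≠ 0
        rw [hv1, sub_zero]
        exact he3
      have h3 := key (1 - f) (sub_mem (one_mem _) hf) h1 h2
      rw [mul_sub, mul_one, sub_eq_self] at h3
      exact h3
    · right
      exact key f hf hff hv1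

theorem orth {e e' : AddMonoid.End V} (he : Prim F e) (he' : Prim F e') (hne : e ≠ e') : e * e' = 0 := by
  have hc := comm h.ab he.1 he'.1
  rcases he.2.2.2 e' he'.1 he'.2.2.1 with h1 | h1
  · exact h1
  · rcases he'.2.2.2 e he.1 he.2.2.1 with h2 | h2
    · rw [hc, h2]
    · exact absurd (by rw [← h1, hc, h2]) hne

theorem prim_cj {e : AddMonoid.End V} (he : Prim F e) (d : D) : Prim F (cj d e) := by
  have hm : ∀ (d : D) {r : AddMonoid.End V}, r ∈ R F V → cj d r ∈ R F V := fun d r hr =>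
    cj_mem (fun f hf => h.nor.conj_mem f hf d) hr
  refine ⟨hm d he.1, cj_ne_zero d he.2.1, ?_, ?_⟩
  · rw [← cj_mul, he.2.2.1]
  · intro f hf hff
    have h1 : f = cj d (cj d⁻¹ f) := (cj_cj_inv d f).symm
    rcases he.2.2.2 (cj d⁻¹ f) (hm d⁻¹ hf) (by rw [← cj_mul, hff]) with h2 | h2
    · left
      rw [h1, ← cj_mul, h2, cj_zero]
    · right
      rw [h1, ← cj_mul, h2]

/-- elements of `F` fix the blocks -/
theorem smul_F {e : AddMonoid.End V} (he : e ∈ R F V) {f : D} (hf : f ∈ F) (v : V) : e (f • v) = f • e v :=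
  (DFunLike.congr_fun (comm h.ab (mem_R hf) he) v).symm

theorem kill {e e' : AddMonoid.End V} (he : Prim F e) (he' : Prim F e') (hne : e ≠ e') {b : V} (hb : e' b = b) :
    e b = 0 := by
  have h1 : (e * e') b = 0 := by rw [h.orth he he' hne]; rfl
  rw [← hb]
  exact h1

/-! ### Sylow subgroups -/

theorem p_inter [Finite D] {z : D} (hz : z ∈ F) (hp : PE p z) : z = 1 := by
  obtain ⟨k, hk⟩ := hp
  have h1 : orderOf z ∣ p ^ k := orderOf_dvd_of_pow_eq_one hk
  have h2 : orderOf z ∣ Nat.card F := by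
    rw [← Subgroup.orderOf_mk z hz]
    exact orderOf_dvd_natCard _
  have h3 : Nat.Coprime (p ^ k) (Nat.card F) :=
    Nat.Coprime.pow_left _ ((Nat.Prime.coprime_iff_not_dvd h.hp).2 h.cop)
  have h4 := Nat.eq_one_of_dvd_coprimes h3 h1 h2
  exact orderOf_eq_one_iff.1 h4

open Classical in
/-- the Sylow subgroup fixing `v` -/
noncomputable def Sv (v : V) : Sylow p D := if hv : v ≠ 0 then (h.syl v hv).choose else default

theorem Sv_fix {v : V} (hv : v ≠ 0) {x : D} (hx : x ∈ (h.Sv v : Subgroup D)) : x • v = v := by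
  unfold Sv at hx
  rw [dif_pos hv] at hx
  exact (h.syl v hv).choose_spec.1 x hx

theorem Sv_norm {v : V} (hv : v ≠ 0) {d x : D} (hd : d • v = v) (hx : x ∈ (h.Sv v : Subgroup D)) :
    d * x * d⁻¹ ∈ (h.Sv v : Subgroup D) := by
  unfold Sv at hx ⊢
  rw [dif_pos hv] at hx ⊢
  exact (h.syl v hv).choose_spec.2 d hd x hx

theorem smul_inv_eq {x : D} {v : V} (hx : x • v = v) : x⁻¹ • v = v := by
  rw [inv_smul_eq_iff, hx]

theorem mem_Sv {v : V} (hv : v ≠ 0) {x : D} (hx : PE p x) (hxv : x • v = v) : x ∈ (h.Sv v : Subgroup D) := by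
  obtain ⟨k, hk⟩ := hx
  have h1 : IsPGroup p (zpowers x) := by
    rintro ⟨y, m, rfl⟩
    refine ⟨k, Subtype.ext ?_⟩
    change (x ^ m) ^ p ^ k = 1
    rw [← zpow_natCast, ← zpow_mul, mul_comm, zpow_mul, zpow_natCast, hk, one_zpow]
  have h2 := h1.inf_normalizer_sylow (h.Sv v)
  have h3 : x ∈ normalizer ((h.Sv v : Subgroup D) : Set D) := by
    rw [mem_normalizer_iff]
    intro y
    constructor
    · exact fun hy => h.Sv_norm hv hxv hy
    · intro hy
      have h4 := h.Sv_norm hv (h.smul_inv_eq hxv) hy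
      have h5 : x⁻¹ * (x * y * x⁻¹) * x⁻¹⁻¹ = y := by group
      rwa [h5] at h4
  exact (h2.le ⟨mem_zpowers x, h3⟩).2

/-- a Sylow subgroup fixing `v` is `Sv v` -/
theorem Sv_eq {v : V} (hv : v ≠ 0) {Q : Sylow p D} (hQ : ∀ x ∈ (Q : Subgroup D), x • v = v) : Q = h.Sv v := by
  apply Sylow.ext
  have h1 : (Q : Subgroup D) ≤ (h.Sv v : Subgroup D) := fun x hx => h.mem_Sv hv (pe_of_mem hx) (hQ x hx)
  exact (Q.is_maximal' (h.Sv v).isPGroup' h1).symm

theorem exists_ne_one [Finite D] (S : Sylow p D) : ∃ x ∈ (S : Subgroup D), x ≠ 1 := by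
  haveI := Fact.mk h.hp
  by_contra hcon
  push Not at hcon
  have h1 : (S : Subgroup D) = ⊥ := by
    rw [eq_bot_iff]
    intro x hx
    rw [mem_bot]
    exact hcon x hx
  have h2 := S.dvd_card_of_dvd_card h.dvd
  rw [h1, card_bot] at h2
  exact h.hp.one_lt.ne' (Nat.dvd_one.1 h2)

/-- **Fact X** -/
theorem factX [Finite D] {v : V} (hv : v ≠ 0) {x f : D} (hx : PE p x) (hf : f ∈ F) (h1 : x • v = v)
    (h2 : (f * x * f⁻¹) • v = v) : x * f = f * x := by
  have h3 := h.mem_Sv hv hx h1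
  have h4 := h.mem_Sv hv (hx.conj f) h2
  have h5 : x⁻¹ * (f * x * f⁻¹) ∈ (h.Sv v : Subgroup D) := mul_mem (inv_mem h3) h4
  have h6 : x⁻¹ * (f * x * f⁻¹) ∈ F := by
    have h7 : x⁻¹ * (f * x * f⁻¹) = (x⁻¹ * f * x⁻¹⁻¹) * f⁻¹ := by group
    rw [h7]
    exact mul_mem (h.nor.conj_mem f hf x⁻¹) (inv_mem hf)
  have h7 := h.p_inter h6 (pe_of_mem h5)
  calc x * f = x * (x⁻¹ * (f * x * f⁻¹)) * f := by rw [h7, mul_one]
    _ = f * x := by group

/-- **Step A** : a `p`-element acts faithfully on each block -/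
theorem stepA [Finite D] {e : AddMonoid.End V} (he : Prim F e) {x : D} (hx : PE p x)
    (hfix : ∀ v : V, e v = v → x • v = v) : x = 1 := by
  apply h.p_inter (h.cf x fun f hf => ?_) hx
  obtain ⟨w, hw⟩ : ∃ w, e w ≠ 0 := by
    by_contra hcon
    push Not at hcon
    exact he.2.1 (AddMonoidHom.ext hcon)
  have hee : e (e w) = e w := DFunLike.congr_fun he.2.2.1 w
  refine h.factX hw hx hf (hfix _ hee) ?_
  rw [mul_smul, mul_smul]
  have h1 : x • f⁻¹ • e w = f⁻¹ • e w := by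
    apply hfix
    rw [h.smul_F he.1 (inv_mem hf), hee]
  rw [h1, smul_inv_smul]

/-! ### two blocks -/

theorem cj_fix (x : D) {v : V} (hx : x • v = v) (e : AddMonoid.End V) : cj x e v = x • e v := by
  have h1 := cj_smul x e v
  rwa [hx] at h1

/-- an element fixing a vector of a block fixes the block -/
theorem cj_of_fix {e : AddMonoid.End V} (he : Prim F e) {a : V} (ha : e a = a) (ha0 : a ≠ 0) {x : D} (hx : x • a = a) :
    cj x e = e := by
  by_contra hne
  have h1 := h.kill (h.prim_cj he x) he hne ha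
  rw [h.cj_fix x hx, ha, hx] at h1
  exact ha0 h1

theorem ne_zero {e1 e2 : AddMonoid.End V} (he1 : Prim F e1) (he2 : Prim F e2) (hne : e1 ≠ e2) {a b : V}
    (ha : e1 a = a) (ha0 : a ≠ 0) (hb : e2 b = b) : a + b ≠ 0 := by
  intro h1
  apply ha0
  have h2 : e1 (a + b) = a := by rw [map_add, ha, h.kill he1 he2 hne hb, add_zero]
  rw [← h2, h1, map_zero]

theorem pair {e1 e2 : AddMonoid.End V} (he1 : Prim F e1) (he2 : Prim F e2) (hne : e1 ≠ e2) {a b : V}
    (ha : e1 a = a) (ha0 : a ≠ 0) (hb : e2 b = b) (hb0 : b ≠ 0) {x : D} (hx : x • (a + b) = a + b) :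
    (cj x e1 = e1 ∧ cj x e2 = e2 ∧ x • a = a ∧ x • b = b) ∨
    (cj x e1 = e2 ∧ cj x e2 = e1 ∧ x • a = b ∧ x • b = a) := by
  have v1 : e1 (a + b) = a := by rw [map_add, ha, h.kill he1 he2 hne hb, add_zero]
  have v2 : e2 (a + b) = b := by rw [map_add, hb, h.kill he2 he1 hne.symm ha, zero_add]
  have key : ∀ e : AddMonoid.End V, Prim F e → e (a + b) ≠ 0 → e = e1 ∨ e = e2 := by
    intro e he hev
    by_contra hcon
    push Not at hcon
    apply hev
    rw [map_add, h.kill he he1 hcon.1 ha, h.kill he he2 hcon.2 hb, add_zero]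
  have c1 : cj x e1 (a + b) = x • a := by rw [h.cj_fix x hx, v1]
  have c2 : cj x e2 (a + b) = x • b := by rw [h.cj_fix x hx, v2]
  have k1 := key _ (h.prim_cj he1 x) (by rw [c1]; exact (smul_ne_zero_iff_ne x).2 ha0)
  have k2 := key _ (h.prim_cj he2 x) (by rw [c2]; exact (smul_ne_zero_iff_ne x).2 hb0)
  rcases k1 with k1 | k1
  · have k3 : cj x e2 = e2 := by
      rcases k2 with k2 | k2
      · exact absurd (cj_inj x (k1.trans k2.symm)) hne
      · exact k2
    left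
    refine ⟨k1, k3, ?_, ?_⟩
    · rw [← c1, k1, v1]
    · rw [← c2, k3, v2]
  · have k3 : cj x e2 = e1 := by
      rcases k2 with k2 | k2
      · exact k2
      · exact absurd (cj_inj x (k1.trans k2.symm)) hne
    right
    refine ⟨k1, k3, ?_, ?_⟩
    · rw [← c1, k1, v2]
    · rw [← c2, k3, v1]

/-- a vector of a block -/
theorem exists_vec {e : AddMonoid.End V} (he : Prim F e) : ∃ a : V, e a = a ∧ a ≠ 0 := by
  obtain ⟨w, hw⟩ : ∃ w, e w ≠ 0 := by
    by_contra hcon
    push Not at hcon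
    exact he.2.1 (AddMonoidHom.ext hcon)
  exact ⟨e w, DFunLike.congr_fun he.2.2.1 w, hw⟩

theorem not_good [Finite D] {e1 e2 : AddMonoid.End V} (he1 : Prim F e1) (he2 : Prim F e2) (hne : e1 ≠ e2) :
    ¬ (∀ a b : V, e1 a = a → a ≠ 0 → e2 b = b → b ≠ 0 → ∀ x ∈ (h.Sv (a + b) : Subgroup D), cj x e1 = e1) := by
  intro hg
  obtain ⟨b, hb, hb0⟩ := h.exists_vec he2
  obtain ⟨x, hx, hx1⟩ := h.exists_ne_one (h.Sv b)
  apply hx1
  refine h.stepA he1 (pe_of_mem hx) fun a ha => ?_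
  by_cases ha0 : a = 0
  · rw [ha0, smul_zero]
  · have hab : a + b ≠ 0 := h.ne_zero he1 he2 hne ha ha0 hb
    have key : ∀ y ∈ (h.Sv (a + b) : Subgroup D), y • a = a ∧ y • b = b := by
      intro y hy
      rcases h.pair he1 he2 hne ha ha0 hb hb0 (h.Sv_fix hab hy) with h1 | h1
      · exact ⟨h1.2.2.1, h1.2.2.2⟩
      · exact absurd (h1.1.symm.trans (hg a b ha ha0 hb hb0 y hy)) hne.symm
    have h2 := h.Sv_eq hb0 (Q := h.Sv (a + b)) fun y hy => (key y hy).2
    rw [← h2] at hx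
    exact (key x hx).1

/-- **no Sylow subgroup fixes two blocks** -/
theorem no_syl [Finite D] {e1 e2 : AddMonoid.End V} (he1 : Prim F e1) (he2 : Prim F e2) (hne : e1 ≠ e2)
    (P : Sylow p D) : ¬ (∀ x ∈ (P : Subgroup D), cj x e1 = e1 ∧ cj x e2 = e2) := by
  intro hP
  haveI := Fact.mk h.hp
  apply h.not_good he1 he2 hne
  intro a b ha ha0 hb hb0 x hx
  have hab : a + b ≠ 0 := h.ne_zero he1 he2 hne ha ha0 hb
  let H : Subgroup D :=
    { carrier := {d | cj d (e1 + e2) = e1 + e2}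
      one_mem' := cj_one _
      mul_mem' := by
        intro c d hc hd
        change cj (c * d) (e1 + e2) = e1 + e2
        rw [← cj_cj, show cj d (e1 + e2) = e1 + e2 from hd]
        exact hc
      inv_mem' := by
        intro c hc
        change cj c⁻¹ (e1 + e2) = e1 + e2
        have h1 := cj_inv_cj c (e1 + e2)
        rwa [show cj c (e1 + e2) = e1 + e2 from hc] at h1 }
  have hPH : (P : Subgroup D) ≤ H := by
    intro y hy
    change cj y (e1 + e2) = e1 + e2
    rw [cj_add, (hP y hy).1, (hP y hy).2]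
  have hQH : (h.Sv (a + b) : Subgroup D) ≤ H := by
    intro y hy
    change cj y (e1 + e2) = e1 + e2
    rw [cj_add]
    rcases h.pair he1 he2 hne ha ha0 hb hb0 (h.Sv_fix hab hy) with h1 | h1
    · rw [h1.1, h1.2.1]
    · rw [h1.1, h1.2.1, add_comm]
  obtain ⟨g, hg⟩ := MulAction.exists_smul_eq H ((h.Sv (a + b)).subtype hQH) (P.subtype hPH)
  have hgx : (g : D) * x * (g : D)⁻¹ ∈ (P : Subgroup D) := by
    have h1 : (⟨x, hQH hx⟩ : H) ∈ (((h.Sv (a + b)).subtype hQH : Sylow p H) : Subgroup H) := hx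
    have h2 : g * ⟨x, hQH hx⟩ * g⁻¹ ∈ ((g • ((h.Sv (a + b)).subtype hQH) : Sylow p H) : Subgroup H) := by
      rw [Sylow.coe_subgroup_smul]
      exact Subgroup.smul_mem_pointwise_smul _ (MulAut.conj g) _ h1
    rw [hg] at h2
    exact h2
  have hgH : cj (g : D) (e1 + e2) = e1 + e2 := g.2
  have hge : cj (g : D) e1 = e1 ∨ cj (g : D) e1 = e2 := by
    by_contra hcon
    push Not at hcon
    have h1 : cj (g : D) e1 * (e1 + e2) = 0 := by
      rw [mul_add, h.orth (h.prim_cj he1 g) he1 hcon.1, h.orth (h.prim_cj he1 g) he2 hcon.2, add_zero]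
    have h2 : cj (g : D) (e1 * (e1 + e2)) = 0 := by rw [cj_mul, hgH, h1]
    rw [mul_add, he1.2.2.1, h.orth he1 he2 hne, add_zero] at h2
    exact cj_ne_zero _ he1.2.1 h2
  have h3 : cj ((g : D) * x * (g : D)⁻¹) (cj (g : D) e1) = cj (g : D) e1 := by
    rcases hge with h4 | h4
    · rw [h4]; exact (hP _ hgx).1
    · rw [h4]; exact (hP _ hgx).2
  rw [cj_cj, inv_mul_cancel_right, ← cj_cj] at h3
  exact cj_inj _ h3

theorem all_swap [Finite D] {e1 e2 : AddMonoid.End V} (he1 : Prim F e1) (he2 : Prim F e2) (hne : e1 ≠ e2) {a b : V}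
    (ha : e1 a = a) (ha0 : a ≠ 0) (hb : e2 b = b) (hb0 : b ≠ 0) :
    ∃ x ∈ (h.Sv (a + b) : Subgroup D), cj x e1 = e2 ∧ cj x e2 = e1 := by
  by_contra hcon
  push Not at hcon
  have hab : a + b ≠ 0 := h.ne_zero he1 he2 hne ha ha0 hb
  apply h.no_syl he1 he2 hne (h.Sv (a + b))
  intro x hx
  rcases h.pair he1 he2 hne ha ha0 hb hb0 (h.Sv_fix hab hx) with h1 | h1
  · exact ⟨h1.1, h1.2.1⟩
  · exact absurd h1.2.1 (hcon x hx h1.1)

theorem moves [Finite D] {e1 e2 : AddMonoid.End V} (he1 : Prim F e1) (he2 : Prim F e2) (hne : e1 ≠ e2) {a : V}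
    (ha : e1 a = a) (ha0 : a ≠ 0) : ∃ x ∈ (h.Sv a : Subgroup D), cj x e2 ≠ e2 := by
  by_contra hcon
  push Not at hcon
  apply h.no_syl he1 he2 hne (h.Sv a)
  exact fun x hx => ⟨h.cj_of_fix he1 ha ha0 (h.Sv_fix ha0 hx), hcon x hx⟩

theorem cj_pow_eq {x : D} {e : AddMonoid.End V} (hx : cj x e = e) (n : ℕ) : cj (x ^ n) e = e := by
  induction n with
  | zero => rw [pow_zero, cj_one]
  | succ n ih => rw [pow_succ, ← cj_cj, hx, ih]

/-- **two blocks: `p = 2`** -/
theorem p_eq_two [Finite D] {e1 e2 : AddMonoid.End V} (he1 : Prim F e1) (he2 : Prim F e2) (hne : e1 ≠ e2) : p = 2 := by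
  by_contra hp2
  obtain ⟨a, ha, ha0⟩ := h.exists_vec he1
  obtain ⟨b, hb, hb0⟩ := h.exists_vec he2
  obtain ⟨x, hx, h1, h2⟩ := h.all_swap he1 he2 hne ha ha0 hb hb0
  obtain ⟨k, hk⟩ := pe_of_mem hx
  have hodd : Odd (p ^ k) := (h.hp.odd_of_ne_two hp2).pow
  obtain ⟨m, hm⟩ := hodd
  have h3 : cj (x * x) e1 = e1 := by rw [← cj_cj, h1, h2]
  have h4 := h.cj_pow_eq h3 (m + 1)
  have h5 : (x * x) ^ (m + 1) = x := by
    calc (x * x) ^ (m + 1) = x ^ (2 * m + 1) * x := by
          rw [← pow_two, ← pow_mul, ← pow_succ]; congr 1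
      _ = x := by rw [← hm, hk, one_mul]
  rw [h5, h1] at h4
  exact hne h4.symm

end Lin

end Cfsg.Agent.H753.Irr
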