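import Cfsg.Agent.H753.IrrBlocks

/-!
# Linear groups with Sylow subgroups in all point stabilizers, II (helper753, for S4992, task 2031)

At least two blocks are impossible: the Sylow `2`-subgroups have order `2`, there are exactly three blocks, of order
at most `4`, and the preimage of the alternating group is a normal `3`-group.
-/

set_option autoImplicit false
set_option linter.style.haveILetI false
set_option linter.unusedSectionVars false

namespace Cfsg.Agent.H753.Irr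

open Subgroup Cfsg.Agent.H753.LinRing

variable {D V : Type*} [Group D] [AddCommGroup V] [DistribMulAction D V] {F : Subgroup D}

/-- the stabiliser of a block -/
def Stab (D : Type*) {V : Type*} [Group D] [AddCommGroup V] [DistribMulAction D V] (e : AddMonoid.End V) :
    Subgroup D where
  carrier := {d | cj d e = e}
  one_mem' := cj_one _
  mul_mem' := by
    intro c d hc hd
    change cj (c * d) e = e
    rw [← cj_cj, show cj d e = e from hd]
    exact hc
  inv_mem' := by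
    intro c hc
    change cj c⁻¹ e = e
    have h1 := cj_inv_cj c e
    rwa [show cj c e = e from hc] at h1

theorem mem_Stab {e : AddMonoid.End V} {d : D} : d ∈ Stab D e ↔ cj d e = e := Iff.rfl

namespace Lin

variable (h : Lin 2 V F)
include h

/-- **the Sylow subgroups have order two** -/
theorem card_syl [Finite D] {e1 e2 : AddMonoid.End V} (he1 : Prim F e1) (he2 : Prim F e2) (hne : e1 ≠ e2)
    (S : Sylow 2 D) : Nat.card (S : Subgroup D) = 2 := by
  haveI := Fact.mk Nat.prime_two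
  obtain ⟨a, ha, ha0⟩ := h.exists_vec he1
  -- the stabiliser of the second block
  have hP : 2 * Nat.card ((h.Sv a : Subgroup D) ⊓ Stab D e2 : Subgroup D) ≤ Nat.card (h.Sv a : Subgroup D) := by
    obtain ⟨k, hk⟩ := Subgroup.card_dvd_of_le (inf_le_left : (h.Sv a : Subgroup D) ⊓ Stab D e2 ≤ h.Sv a)
    have hk0 : k ≠ 0 := by
      rintro rfl
      rw [mul_zero] at hk
      exact Nat.card_pos.ne' hk
    have hk1 : k ≠ 1 := by
      rintro rfl
      rw [mul_one] at hk
      have h1 := Subgroup.eq_of_le_of_card_ge (inf_le_left : (h.Sv a : Subgroup D) ⊓ Stab D e2 ≤ h.Sv a) hk.le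
      obtain ⟨x, hx, hx2⟩ := h.moves he1 he2 hne ha ha0
      rw [← h1] at hx
      exact hx2 hx.2
    rw [hk, mul_comm]
    exact Nat.mul_le_mul_left _ (by omega)
  have key : ∀ b : V, e2 b = b → b ≠ 0 →
      (h.Sv (a + b) : Subgroup D) ⊓ Stab D e1 = (h.Sv a : Subgroup D) ⊓ Stab D e2 ∧
      Nat.card (h.Sv (a + b) : Subgroup D) = 2 * Nat.card ((h.Sv a : Subgroup D) ⊓ Stab D e2 : Subgroup D) := by
    intro b hb hb0
    have hab : a + b ≠ 0 := h.ne_zero he1 he2 hne ha ha0 hb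
    obtain ⟨x0, hx0, h1, h2⟩ := h.all_swap he1 he2 hne ha ha0 hb hb0
    have hrel : (Stab D e1).relIndex (h.Sv (a + b) : Subgroup D) = 2 := by
      refine Subgroup.relIndex_eq_two_iff.2 ⟨x0, hx0, fun y hy => ?_⟩
      have e3 : cj (y * x0) e1 = cj y e2 := by rw [← cj_cj, h1]
      rcases h.pair he1 he2 hne ha ha0 hb hb0 (h.Sv_fix hab hy) with h3 | h3
      · right
        refine ⟨h3.1, fun h4 => ?_⟩
        rw [mem_Stab, e3, h3.2.1] at h4
        exact hne h4.symm
      · left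
        refine ⟨?_, fun h4 => ?_⟩
        · rw [mem_Stab, e3, h3.2.1]
        · rw [mem_Stab, h3.1] at h4
          exact hne h4.symm
    have hcard : Nat.card (h.Sv (a + b) : Subgroup D) =
        2 * Nat.card ((h.Sv (a + b) : Subgroup D) ⊓ Stab D e1 : Subgroup D) := by
      have h3 := Subgroup.relIndex_mul_relIndex ⊥ ((h.Sv (a + b) : Subgroup D) ⊓ Stab D e1)
        (h.Sv (a + b) : Subgroup D) bot_le inf_le_left
      rw [Subgroup.relIndex_bot_left, Subgroup.relIndex_bot_left, Subgroup.inf_relIndex_left, hrel] at h3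
      rw [← h3, mul_comm]
    have hle : (h.Sv (a + b) : Subgroup D) ⊓ Stab D e1 ≤ (h.Sv a : Subgroup D) ⊓ Stab D e2 := by
      rintro x ⟨hx, hx1⟩
      rcases h.pair he1 he2 hne ha ha0 hb hb0 (h.Sv_fix hab hx) with h3 | h3
      · exact ⟨h.mem_Sv ha0 (pe_of_mem hx) h3.2.2.1, h3.2.1⟩
      · exact absurd (h3.1.symm.trans hx1) hne.symm
    have hsame : Nat.card (h.Sv (a + b) : Subgroup D) = Nat.card (h.Sv a : Subgroup D) := by
      rw [Sylow.card_eq_multiplicity, Sylow.card_eq_multiplicity]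
    have heq := Subgroup.eq_of_le_of_card_ge hle (by omega)
    exact ⟨heq, by rw [hcard, heq]⟩
  have hbot : (h.Sv a : Subgroup D) ⊓ Stab D e2 = ⊥ := by
    rw [eq_bot_iff]
    intro x hx
    rw [mem_bot]
    refine h.stepA he2 (pe_of_mem hx.1) fun b hb => ?_
    by_cases hb0 : b = 0
    · rw [hb0, smul_zero]
    · have hab : a + b ≠ 0 := h.ne_zero he1 he2 hne ha ha0 hb
      rw [← (key b hb hb0).1] at hx
      rcases h.pair he1 he2 hne ha ha0 hb hb0 (h.Sv_fix hab hx.1) with h3 | h3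
      · exact h3.2.2.2
      · exact absurd (h3.1.symm.trans hx.2) hne.symm
  obtain ⟨b, hb, hb0⟩ := h.exists_vec he2
  have h1 := (key b hb hb0).2
  rw [hbot, card_bot, mul_one] at h1
  have h2 : Nat.card (S : Subgroup D) = Nat.card (h.Sv (a + b) : Subgroup D) := by
    rw [Sylow.card_eq_multiplicity, Sylow.card_eq_multiplicity]
  exact h2.trans h1

section Two

variable [Finite D] {e1 e2 e3 : AddMonoid.End V}

/-- two elements of a Sylow subgroup -/
theorem syl_uniq (he1 : Prim F e1) (he2 : Prim F e2) (hne : e1 ≠ e2) {S : Sylow 2 D} {x y : D}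
    (hx : x ∈ (S : Subgroup D)) (hy : y ∈ (S : Subgroup D)) (hx1 : x ≠ 1) (hy1 : y ≠ 1) : x = y := by
  obtain ⟨z, -, hz⟩ := (Nat.card_eq_two_iff' (1 : (S : Subgroup D))).1 (h.card_syl he1 he2 hne S)
  have h1 := hz ⟨x, hx⟩ (fun h2 => hx1 (congrArg Subtype.val h2))
  have h2 := hz ⟨y, hy⟩ (fun h2 => hy1 (congrArg Subtype.val h2))
  exact congrArg Subtype.val (h1.trans h2.symm)

theorem uniq (he1 : Prim F e1) (he2 : Prim F e2) (hne : e1 ≠ e2) {v : V} (hv : v ≠ 0) {x y : D}
    (hx : PE 2 x) (hy : PE 2 y) (hxv : x • v = v) (hyv : y • v = v) (hx1 : x ≠ 1) (hy1 : y ≠ 1) : x = y :=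
  h.syl_uniq he1 he2 hne (h.mem_Sv hv hx hxv) (h.mem_Sv hv hy hyv) hx1 hy1

/-- the involution fixing `v` -/
theorem exists_inv (he1 : Prim F e1) (he2 : Prim F e2) (hne : e1 ≠ e2) {v : V} (hv : v ≠ 0) :
    ∃ t : D, t ≠ 1 ∧ t * t = 1 ∧ t • v = v := by
  obtain ⟨t, ht, ht1⟩ := h.exists_ne_one (h.Sv v)
  refine ⟨t, ht1, ?_, h.Sv_fix hv ht⟩
  have h1 : (⟨t, ht⟩ : (h.Sv v : Subgroup D)) ^ Nat.card (h.Sv v : Subgroup D) = 1 := pow_card_eq_one'
  rw [h.card_syl he1 he2 hne] at h1
  rw [← pow_two]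
  exact congrArg Subtype.val h1

omit h [Finite D] in
theorem pe_two {t : D} (ht : t * t = 1) : PE 2 t := ⟨1, by rw [pow_one, pow_two, ht]⟩

omit [Finite D] in
theorem add_self (v : V) : v + v = 0 := by
  rw [← two_nsmul]
  exact h.pv v

omit [Finite D] in
theorem eq_of_add {v w : V} (hvw : v + w = 0) : v = w := by
  calc v = v + (w + w) := by rw [h.add_self, add_zero]
    _ = (v + w) + w := by rw [add_assoc]
    _ = w := by rw [hvw, zero_add]

omit [Finite D] in
/-- a fixed vector in a fixed block -/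
theorem fix_vec {e : AddMonoid.End V} (he : Prim F e) {t : D} (ht : t * t = 1) (hte : cj t e = e) :
    ∃ a : V, e a = a ∧ a ≠ 0 ∧ t • a = a := by
  obtain ⟨a, ha, ha0⟩ := h.exists_vec he
  by_cases h1 : a + t • a = 0
  · exact ⟨a, ha, ha0, (h.eq_of_add h1).symm⟩
  · refine ⟨a + t • a, ?_, h1, ?_⟩
    · have h2 := cj_smul t e a
      rw [hte, ha] at h2
      rw [map_add, ha, h2]
    · rw [smul_add, smul_smul, ht, one_smul, add_comm]

/-- **an involution fixing a block moves all other blocks** -/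
theorem inv_move {e e' : AddMonoid.End V} (he : Prim F e) (he' : Prim F e') (hne : e ≠ e') {t : D} (ht1 : t ≠ 1)
    (ht : t * t = 1) (hte : cj t e = e) : cj t e' ≠ e' := by
  obtain ⟨a, ha, ha0, hta⟩ := h.fix_vec he ht hte
  obtain ⟨x, hx, hx1⟩ := h.moves he he' hne ha ha0
  have hxne : x ≠ 1 := by
    rintro rfl
    exact hx1 (cj_one _)
  rw [h.uniq he he' hne ha0 (pe_two ht) (pe_of_mem hx) hta (h.Sv_fix ha0 hx) ht1 hxne]
  exact hx1

/-- there is a third block -/
theorem exists_third (he1 : Prim F e1) (he2 : Prim F e2) (hne : e1 ≠ e2) :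
    ∃ e3, Prim F e3 ∧ e1 ≠ e3 ∧ e2 ≠ e3 := by
  obtain ⟨a, ha, ha0⟩ := h.exists_vec he1
  obtain ⟨t, ht1, ht, hta⟩ := h.exists_inv he1 he2 hne ha0
  have hte := h.cj_of_fix he1 ha ha0 hta
  have hte2 := h.inv_move he1 he2 hne ht1 ht hte
  refine ⟨cj t e2, h.prim_cj he2 t, ?_, hte2.symm⟩
  intro h1
  apply hne
  apply cj_inj t
  rw [hte, h1]

/-- the swapping involution -/
theorem exists_swap (he1 : Prim F e1) (he2 : Prim F e2) (hne : e1 ≠ e2) {a b : V}
    (ha : e1 a = a) (ha0 : a ≠ 0) (hb : e2 b = b) (hb0 : b ≠ 0) {t : D} (ht1 : t ≠ 1) (ht : t * t = 1)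
    (htv : t • (a + b) = a + b) : cj t e1 = e2 ∧ cj t e2 = e1 ∧ t • a = b ∧ t • b = a := by
  obtain ⟨x, hx, h1, h2⟩ := h.all_swap he1 he2 hne ha ha0 hb hb0
  have hab : a + b ≠ 0 := h.ne_zero he1 he2 hne ha ha0 hb
  have hx1 : x ≠ 1 := by
    rintro rfl
    rw [cj_one] at h1
    exact hne h1
  have hxt := h.uniq he1 he2 hne hab (pe_of_mem hx) (pe_two ht) (h.Sv_fix hab hx) htv hx1 ht1
  subst hxt
  rcases h.pair he1 he2 hne ha ha0 hb hb0 htv with h3 | h3
  · exact absurd (h3.1.symm.trans h1) hne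
  · exact h3

/-- **three blocks** -/
theorem triple (he1 : Prim F e1) (he2 : Prim F e2) (he3 : Prim F e3) (h12 : e1 ≠ e2) (h13 : e1 ≠ e3) (h23 : e2 ≠ e3)
    {b c : V} (hb : e2 b = b) (hb0 : b ≠ 0) (hc : e3 c = c) (hc0 : c ≠ 0) {t tb tc : D} (ht1 : t ≠ 1)
    (ht : t * t = 1) (htv : t • (b + c) = b + c) (htb1 : tb ≠ 1) (htb : tb * tb = 1) (htbv : tb • b = b) (htc1 : tc ≠ 1)
    (htc : tc * tc = 1) (htcv : tc • c = c) {a : V} (ha : e1 a = a) (ha0 : a ≠ 0) :
    t • a = a ∨ a = tc • b ∨ a = tb • c := by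
  have v1 : e1 (a + (b + c)) = a := by
    rw [map_add, map_add, ha, h.kill he1 he2 h12 hb, h.kill he1 he3 h13 hc, add_zero, add_zero]
  have v2 : e2 (a + (b + c)) = b := by
    rw [map_add, map_add, hb, h.kill he2 he1 h12.symm ha, h.kill he2 he3 h23 hc, add_zero, zero_add]
  have v3 : e3 (a + (b + c)) = c := by
    rw [map_add, map_add, hc, h.kill he3 he1 h13.symm ha, h.kill he3 he2 h23.symm hb, zero_add, zero_add]
  have hne0 : a + (b + c) ≠ 0 := by
    intro h1
    rw [h1, map_zero] at v1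
    exact ha0 v1.symm
  obtain ⟨s, hs1, hs, hsv⟩ := h.exists_inv he1 he2 h12 hne0
  have key : ∀ e : AddMonoid.End V, Prim F e → e (a + (b + c)) ≠ 0 → e = e1 ∨ e = e2 ∨ e = e3 := by
    intro e he hev
    by_contra hcon
    push Not at hcon
    apply hev
    rw [map_add, map_add, h.kill he he1 hcon.1 ha, h.kill he he2 hcon.2.1 hb, h.kill he he3 hcon.2.2 hc, add_zero,
      add_zero]
  have c1 : cj s e1 (a + (b + c)) = s • a := by rw [h.cj_fix s hsv, v1]
  have c2 : cj s e2 (a + (b + c)) = s • b := by rw [h.cj_fix s hsv, v2]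
  have c3 : cj s e3 (a + (b + c)) = s • c := by rw [h.cj_fix s hsv, v3]
  have k1 := key _ (h.prim_cj he1 s) (by rw [c1]; exact (smul_ne_zero_iff_ne s).2 ha0)
  have k2 := key _ (h.prim_cj he2 s) (by rw [c2]; exact (smul_ne_zero_iff_ne s).2 hb0)
  have k3 := key _ (h.prim_cj he3 s) (by rw [c3]; exact (smul_ne_zero_iff_ne s).2 hc0)
  have hss : ∀ e : AddMonoid.End V, cj s (cj s e) = e := fun e => by rw [cj_cj, hs, cj_one]
  rcases k1 with k1 | k1 | k1
  · -- `s` fixes the first block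
    have k2' : cj s e2 = e3 := by
      rcases k2 with k2 | k2 | k2
      · exact absurd (cj_inj s (k1.trans k2.symm)) h12
      · exact absurd k2 (h.inv_move he1 he2 h12 hs1 hs k1)
      · exact k2
    have k3' : cj s e3 = e2 := by rw [← k2', hss]
    left
    have e1' : s • a = a := by rw [← c1, k1, v1]
    have e2' : s • b = c := by rw [← c2, k2', v3]
    have e3' : s • c = b := by rw [← c3, k3', v2]
    have e4 : s • (b + c) = b + c := by rw [smul_add, e2', e3', add_comm]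
    rw [h.uniq he1 he2 h12 (h.ne_zero he2 he3 h23 hb hb0 hc) (pe_two ht) (pe_two hs) htv e4 ht1 hs1]
    exact e1'
  · -- `s` swaps the first two blocks
    have k2' : cj s e2 = e1 := by rw [← k1, hss]
    have k3' : cj s e3 = e3 := by
      rcases k3 with k3 | k3 | k3
      · exact absurd (cj_inj s (k2'.trans k3.symm)) h23
      · exact absurd (cj_inj s (k1.trans k3.symm)) h13
      · exact k3
    right; left
    have e2' : s • b = a := by rw [← c2, k2', v1]
    have e3' : s • c = c := by rw [← c3, k3', v3]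
    rw [h.uniq he1 he2 h12 hc0 (pe_two htc) (pe_two hs) htcv e3' htc1 hs1]
    exact e2'.symm
  · -- `s` swaps the first and the third block
    have k3' : cj s e3 = e1 := by rw [← k1, hss]
    have k2' : cj s e2 = e2 := by
      rcases k2 with k2 | k2 | k2
      · exact absurd (cj_inj s (k3'.trans k2.symm)) h23.symm
      · exact k2
      · exact absurd (cj_inj s (k1.trans k2.symm)) h12
    right; right
    have e2' : s • b = b := by rw [← c2, k2', v2]
    have e3' : s • c = a := by rw [← c3, k3', v1]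
    rw [h.uniq he1 he2 h12 hb0 (pe_two htb) (pe_two hs) htbv e2' htb1 hs1]
    exact e3'.symm

/-- a block has three nonzero vectors -/
theorem three_vec {e e' : AddMonoid.End V} (he : Prim F e) (he' : Prim F e') (hne : e ≠ e') : ∃ a b : V, e a = a ∧ e b = b ∧
    a ≠ 0 ∧ b ≠ 0 ∧ a ≠ b := by
  obtain ⟨a, ha, ha0⟩ := h.exists_vec he
  obtain ⟨t, ht1, ht, hta⟩ := h.exists_inv he he' hne ha0
  by_contra hcon
  push Not at hcon
  apply ht1
  refine h.stepA he (pe_two ht) fun b hb => ?_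
  by_cases hb0 : b = 0
  · rw [hb0, smul_zero]
  · rw [← hcon a b ha hb ha0 hb0, hta]

/-- **the swapping involution fixes the third block** -/
theorem fix_third (he1 : Prim F e1) (he2 : Prim F e2) (he3 : Prim F e3) (h12 : e1 ≠ e2) (h13 : e1 ≠ e3) (h23 : e2 ≠ e3)
    {b c : V} (hb : e2 b = b) (hb0 : b ≠ 0) (hc : e3 c = c) (hc0 : c ≠ 0) {t : D} (ht1 : t ≠ 1)
    (ht : t * t = 1) (htv : t • (b + c) = b + c) : cj t e1 = e1 := by
  obtain ⟨tb, htb1, htb, htbv⟩ := h.exists_inv he1 he2 h12 hb0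
  obtain ⟨tc, htc1, htc, htcv⟩ := h.exists_inv he1 he2 h12 hc0
  have tri := fun a ha ha0 => h.triple he1 he2 he3 h12 h13 h23 hb hb0 hc hc0 ht1 ht htv htb1 htb htbv htc1 htc htcv
    (a := a) ha ha0
  by_contra hcon
  have tri' : ∀ a : V, e1 a = a → a ≠ 0 → a = tc • b ∨ a = tb • c := by
    intro a ha ha0
    rcases tri a ha ha0 with h1 | h1
    · exact absurd (h.cj_of_fix he1 ha ha0 h1) hcon
    · exact h1
  obtain ⟨a, a', ha, ha', ha0, ha0', haa⟩ := h.three_vec he1 he2 h12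
  have h1 := tri' a ha ha0
  have h2 := tri' a' ha' ha0'
  have h3 := tri' (a + a') (by rw [map_add, ha, ha']) (fun h4 => haa (h.eq_of_add h4))
  have n1 : a + a' ≠ a := fun h4 => ha0' (by simpa using h4)
  have n2 : a + a' ≠ a' := fun h4 => ha0 (by simpa using h4)
  rcases h1 with h1 | h1 <;> rcases h2 with h2 | h2 <;> rcases h3 with h3 | h3
  · exact haa (h1.trans h2.symm)
  · exact haa (h1.trans h2.symm)
  · exact n1 (h3.trans h1.symm)
  · exact n2 (h3.trans h2.symm)
  · exact n2 (h3.trans h2.symm)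
  · exact n1 (h3.trans h1.symm)
  · exact haa (h1.trans h2.symm)
  · exact haa (h1.trans h2.symm)

/-- **there are exactly three blocks** -/
theorem only_three (he1 : Prim F e1) (he2 : Prim F e2) (he3 : Prim F e3) (h12 : e1 ≠ e2) (h13 : e1 ≠ e3)
    (h23 : e2 ≠ e3) {e : AddMonoid.End V} (he : Prim F e) : e = e1 ∨ e = e2 ∨ e = e3 := by
  by_contra hcon
  push Not at hcon
  obtain ⟨b, hb, hb0⟩ := h.exists_vec he2
  obtain ⟨c, hc, hc0⟩ := h.exists_vec he3
  obtain ⟨t, ht1, ht, htv⟩ := h.exists_inv he1 he2 h12 (h.ne_zero he2 he3 h23 hb hb0 hc)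
  have k1 := h.fix_third he1 he2 he3 h12 h13 h23 hb hb0 hc hc0 ht1 ht htv
  have k2 := h.fix_third he he2 he3 hcon.2.1 hcon.2.2 h23 hb hb0 hc hc0 ht1 ht htv
  exact h.inv_move he1 he (Ne.symm hcon.1) ht1 ht k1 k2

/-- **the blocks have order at most four** -/
theorem card_block [Finite V] (he1 : Prim F e1) (he2 : Prim F e2) (h12 : e1 ≠ e2) :
    Nat.card {v : V // e1 v = v ∧ v ≠ 0} ≤ 3 := by
  obtain ⟨e3, he3, h13, h23⟩ := h.exists_third he1 he2 h12
  obtain ⟨b, hb, hb0⟩ := h.exists_vec he2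
  obtain ⟨c, hc, hc0⟩ := h.exists_vec he3
  obtain ⟨t, ht1, ht, htv⟩ := h.exists_inv he1 he2 h12 (h.ne_zero he2 he3 h23 hb hb0 hc)
  obtain ⟨tb, htb1, htb, htbv⟩ := h.exists_inv he1 he2 h12 hb0
  obtain ⟨tc, htc1, htc, htcv⟩ := h.exists_inv he1 he2 h12 hc0
  have tri := fun a ha ha0 => h.triple he1 he2 he3 h12 h13 h23 hb hb0 hc hc0 ht1 ht htv htb1 htb htbv htc1 htc htcv
    (a := a) ha ha0
  -- a vector moved by `t`
  obtain ⟨u, hu, htu⟩ : ∃ u, e1 u = u ∧ t • u ≠ u := by
    by_contra hcon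
    push Not at hcon
    exact ht1 (h.stepA he1 (pe_two ht) hcon)
  set C : Set V := {v | e1 v = v ∧ t • v = v} with hC
  have hpq : ({tc • b, tb • c} : Set V).ncard ≤ 2 := by
    refine (Set.ncard_insert_le _ _).trans ?_
    rw [Set.ncard_singleton]
  have hCle : C.ncard ≤ 2 := by
    have h1 : ((fun v => u + v) '' C).ncard = C.ncard := Set.ncard_image_of_injective _ (add_right_injective u)
    rw [← h1]
    refine (Set.ncard_le_ncard ?_ (Set.toFinite _)).trans hpq
    rintro _ ⟨v, ⟨hv, htv'⟩, rfl⟩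
    have h2 : t • (u + v) ≠ u + v := by
      rw [smul_add, htv']
      exact fun h3 => htu (add_right_cancel h3)
    have h3 : u + v ≠ 0 := by
      intro h3
      rw [h3, smul_zero] at h2
      exact h2 rfl
    rcases tri (u + v) (by rw [map_add, hu, hv]) h3 with h4 | h4 | h4
    · exact absurd h4 h2
    · exact Or.inl h4
    · exact Or.inr h4
  have h0 : (0 : V) ∈ C := ⟨map_zero _, smul_zero _⟩
  have hC1 : (C \ {0}).ncard ≤ 1 := by
    have h1 := Set.ncard_sdiff_singleton_add_one h0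
    omega
  have hsub : {v : V | e1 v = v ∧ v ≠ 0} ⊆ (C \ {0}) ∪ {tc • b, tb • c} := by
    rintro v ⟨hv, hv0⟩
    rcases tri v hv hv0 with h4 | h4 | h4
    · exact Or.inl ⟨⟨hv, h4⟩, hv0⟩
    · exact Or.inr (Or.inl h4)
    · exact Or.inr (Or.inr h4)
  have h2 := (Set.ncard_le_ncard hsub (Set.toFinite _)).trans (Set.ncard_union_le _ _)
  have h3 : Nat.card {v : V // e1 v = v ∧ v ≠ 0} = {v : V | e1 v = v ∧ v ≠ 0}.ncard := Nat.card_coe_set_eq _
  omega

/-- **an element fixing a block** -/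
theorem pow_six [Finite V] (he1 : Prim F e1) (he2 : Prim F e2) (h12 : e1 ≠ e2) {g : D} (hg : cj g e1 = e1) {v : V}
    (hv : e1 v = v) : g ^ 6 • v = v := by
  by_cases hv0 : v = 0
  · rw [hv0, smul_zero]
  let X := {v : V // e1 v = v ∧ v ≠ 0}
  have hst : ∀ d : Stab D e1, ∀ w : V, e1 w = w → e1 ((d : D) • w) = (d : D) • w := by
    intro d w hw
    have h1 := cj_smul (d : D) e1 w
    rwa [mem_Stab.1 d.2, hw] at h1
  letI act : MulAction (Stab D e1) X :=
    { smul := fun d x => ⟨(d : D) • x.1, hst d x.1 x.2.1, (smul_ne_zero_iff_ne _).2 x.2.2⟩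
      one_smul := fun x => Subtype.ext (one_smul D x.1)
      mul_smul := fun a b x => Subtype.ext (mul_smul (a : D) (b : D) x.1) }
  have h1 : (MulAction.toPermHom (Stab D e1) X ⟨g, hg⟩) ^ Nat.card (Equiv.Perm X) = 1 := pow_card_eq_one'
  have h2 : Nat.card (Equiv.Perm X) ∣ 6 := by
    rw [Nat.card_perm]
    exact Nat.factorial_dvd_factorial (h.card_block he1 he2 h12)
  obtain ⟨k, hk⟩ := h2
  have h3 : (MulAction.toPermHom (Stab D e1) X ⟨g, hg⟩) ^ 6 = 1 := by rw [hk, pow_mul, h1, one_pow]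
  rw [← map_pow] at h3
  have h4 := congrArg Subtype.val (DFunLike.congr_fun h3 (⟨v, hv, hv0⟩ : X))
  exact h4

/-- **two blocks are impossible** -/
theorem not_two [Finite V] (he1 : Prim F e1) (he2 : Prim F e2) (h12 : e1 ≠ e2) : False := by
  classical
  obtain ⟨e3, he3, h13, h23⟩ := h.exists_third he1 he2 h12
  have honly := fun e he => h.only_three he1 he2 he3 h12 h13 h23 (e := e) he
  let B := {e : AddMonoid.End V // Prim F e}
  letI act : MulAction D B :=
    { smul := fun d e => ⟨cj d e.1, h.prim_cj e.2 d⟩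
      one_smul := fun e => Subtype.ext (cj_one e.1)
      mul_smul := fun a b e => Subtype.ext (cj_cj a b e.1).symm }
  have hsm : ∀ (d : D) (e : B), (d • e).1 = cj d e.1 := fun _ _ => rfl
  let l : List B := [⟨e1, he1⟩, ⟨e2, he2⟩, ⟨e3, he3⟩]
  letI : Fintype B := Fintype.ofList l (by
    rintro ⟨e, he⟩
    rcases honly e he with h1 | h1 | h1
    · subst h1; simp [l]
    · subst h1; simp [l]
    · subst h1; simp [l])
  have hcard : Nat.card B ≤ 3 := by
    rw [Nat.card_eq_fintype_card]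
    change l.toFinset.card ≤ 3
    exact l.toFinset_card_le
  have hnt : Nontrivial B := ⟨⟨e1, he1⟩, ⟨e2, he2⟩, fun h1 => h12 (congrArg Subtype.val h1)⟩
  let π : D →* Equiv.Perm B := MulAction.toPermHom D B
  let s : D →* ℤˣ := (Equiv.Perm.sign).comp π
  -- the kernel is a `3`-group
  have h3 : IsPGroup 3 s.ker := by
    rintro ⟨g, hg⟩
    refine ⟨2, Subtype.ext ?_⟩
    change g ^ 3 ^ 2 = 1
    have hga : π g ∈ alternatingGroup B := Equiv.Perm.mem_alternatingGroup.2 hg
    have h4 : (π g) ^ 3 = 1 := by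
      have h5 : (⟨π g, hga⟩ : alternatingGroup B) ^ Nat.card (alternatingGroup B) = 1 := pow_card_eq_one'
      have h6 : Nat.card (alternatingGroup B) ∣ 3 := by
        rw [nat_card_alternatingGroup]
        have h7 : 1 < Nat.card B := Finite.one_lt_card
        interval_cases (Nat.card B) <;> simp [Nat.factorial_succ]
      obtain ⟨k, hk⟩ := h6
      have h7 : (⟨π g, hga⟩ : alternatingGroup B) ^ 3 = 1 := by rw [hk, pow_mul, h5, one_pow]
      exact congrArg Subtype.val h7
    rw [← map_pow] at h4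
    have h5 : ∀ e : AddMonoid.End V, Prim F e → cj (g ^ 3) e = e := fun e he =>
      congrArg Subtype.val (DFunLike.congr_fun h4 (⟨e, he⟩ : B))
    -- `g ^ 18 = 1`
    have h6 : (g ^ 3) ^ 6 = 1 := by
      apply h.faith
      intro v
      by_contra hcon
      have h7 : (g ^ 3) ^ 6 • v - v ≠ 0 := sub_ne_zero.2 hcon
      obtain ⟨e, he, hev⟩ := h.exists_prim h7
      apply hev
      have h8 : ∃ e', Prim F e' ∧ e ≠ e' := by
        rcases honly e he with h9 | h9 | h9
        · exact ⟨e2, he2, by rw [h9]; exact h12⟩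
        · exact ⟨e1, he1, by rw [h9]; exact h12.symm⟩
        · exact ⟨e1, he1, by rw [h9]; exact h13.symm⟩
      obtain ⟨e', he', hee⟩ := h8
      have h9 : cj ((g ^ 3) ^ 6) e = e := h.cj_pow_eq (h5 e he) 6
      have h10 := cj_smul ((g ^ 3) ^ 6) e v
      rw [h9] at h10
      have h11 := h.pow_six he he' hee (h5 e he) (DFunLike.congr_fun he.2.2.1 v : e (e v) = e v)
      rw [map_sub]
      exact sub_eq_zero.2 (h10.trans h11)
    by_contra h9
    have h10 : (g ^ 3 ^ 2) * (g ^ 3 ^ 2) = 1 := by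
      rw [← pow_add, ← h6, ← pow_mul]
      norm_num
    have h11 : ∀ e : AddMonoid.End V, Prim F e → cj (g ^ 3 ^ 2) e = e := by
      intro e he
      have h12 := h.cj_pow_eq (h5 e he) 3
      rwa [← pow_mul] at h12
    exact h.inv_move he1 he2 h12 h9 h10 (h11 e1 he1) (h11 e2 he2)
  haveI := Fact.mk Nat.prime_three
  have h4 : s.ker ≤ F := h.fit s.ker inferInstance h3.isNilpotent
  obtain ⟨a, ha, ha0⟩ := h.exists_vec he1
  obtain ⟨t, ht1, ht, hta⟩ := h.exists_inv he1 he2 h12 ha0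
  have hte := h.cj_of_fix he1 ha ha0 hta
  obtain ⟨b, hb, hb0⟩ := h.exists_vec he2
  obtain ⟨t2, ht21, ht2, ht2b⟩ := h.exists_inv he1 he2 h12 hb0
  have ht2e := h.cj_of_fix he2 hb hb0 ht2b
  have ht2m := h.inv_move he2 he1 h12.symm ht21 ht2 ht2e
  have e5 : (t2 * t * t2⁻¹) * (t2 * t * t2⁻¹) = 1 := by
    calc (t2 * t * t2⁻¹) * (t2 * t * t2⁻¹) = t2 * (t * t) * t2⁻¹ := by group
      _ = 1 := by rw [ht, mul_one, mul_inv_cancel]
  have e6 : t2 * t * t2⁻¹ ≠ 1 := by
    intro h5
    apply ht1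
    rwa [mul_inv_eq_one, mul_eq_left] at h5
  have e7 : cj (t2 * t * t2⁻¹) (cj t2 e1) = cj t2 e1 := by
    rw [cj_cj, inv_mul_cancel_right, ← cj_cj, hte]
  have e8 := h.inv_move (h.prim_cj he1 t2) he1 ht2m e6 e5 e7
  have e9 : t * (t2 * t * t2⁻¹) ∈ s.ker := by
    rw [MonoidHom.mem_ker, map_mul, map_mul, map_mul, map_inv]
    have e10 : s t * s t = 1 := by rw [← map_mul, ht, map_one]
    rw [mul_comm (s t2) (s t), mul_inv_cancel_right, e10]
  have e10 : cj (t * (t2 * t * t2⁻¹)) e1 = e1 := cj_F h.ab (h4 e9) he1.1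
  apply e8
  rw [← cj_cj] at e10
  apply cj_inj t
  rw [e10, hte]

end Two

end Lin

end Cfsg.Agent.H753.Irr
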