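import Mathlib

/-!
# The ring generated by an abelian linear group (helper753, for S4992)

`D` acts on the additive group `V`, `F` is an abelian subgroup of `D`, `R F` is the subring of `AddMonoid.End V` generated
by `F`, `cj d` is the conjugation by `d`.
-/

set_option autoImplicit false
set_option linter.style.haveILetI false

namespace Cfsg.Agent.H753.LinRing

open Subgroup

variable {D V : Type*} [Group D] [AddCommGroup V] [DistribMulAction D V]

/-- the representation -/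
def rho (D V : Type*) [Group D] [AddCommGroup V] [DistribMulAction D V] : D →* AddMonoid.End V :=
  DistribMulAction.toAddMonoidEnd D V

theorem rho_apply (d : D) (v : V) : rho D V d v = d • v := rfl

/-- conjugation by `d` -/
def cj (d : D) (r : AddMonoid.End V) : AddMonoid.End V := rho D V d * r * rho D V d⁻¹

theorem cj_apply (d : D) (r : AddMonoid.End V) (v : V) : cj d r v = d • r (d⁻¹ • v) := rfl

theorem cj_smul (d : D) (r : AddMonoid.End V) (v : V) : cj d r (d • v) = d • r v := by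
  rw [cj_apply, inv_smul_smul]

theorem cj_one (r : AddMonoid.End V) : cj (1 : D) r = r := by
  ext v
  rw [cj_apply, inv_one, one_smul, one_smul]

theorem cj_cj (d d' : D) (r : AddMonoid.End V) : cj d (cj d' r) = cj (d * d') r := by
  ext v
  simp only [cj_apply, mul_smul, mul_inv_rev]

theorem cj_inv_cj (d : D) (r : AddMonoid.End V) : cj d⁻¹ (cj d r) = r := by
  rw [cj_cj, inv_mul_cancel, cj_one]

theorem cj_cj_inv (d : D) (r : AddMonoid.End V) : cj d (cj d⁻¹ r) = r := by
  rw [cj_cj, mul_inv_cancel, cj_one]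

theorem cj_inj (d : D) {r s : AddMonoid.End V} (h : cj d r = cj d s) : r = s := by
  rw [← cj_inv_cj d r, h, cj_inv_cj]

theorem cj_mul (d : D) (r s : AddMonoid.End V) : cj d (r * s) = cj d r * cj d s := by
  ext v
  change d • r (s (d⁻¹ • v)) = d • r (d⁻¹ • d • s (d⁻¹ • v))
  rw [inv_smul_smul]

theorem cj_add (d : D) (r s : AddMonoid.End V) : cj d (r + s) = cj d r + cj d s := by
  ext v
  change d • (r (d⁻¹ • v) + s (d⁻¹ • v)) = d • r (d⁻¹ • v) + d • s (d⁻¹ • v)
  rw [smul_add]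

theorem cj_neg (d : D) (r : AddMonoid.End V) : cj d (-r) = -cj d r := by
  ext v
  change d • (-(r (d⁻¹ • v))) = -(d • r (d⁻¹ • v))
  rw [smul_neg]

theorem cj_zero (d : D) : cj d (0 : AddMonoid.End V) = 0 := by
  ext v
  change d • (0 : V) = 0
  rw [smul_zero]

theorem cj_one' (d : D) : cj d (1 : AddMonoid.End V) = 1 := by
  ext v
  change d • d⁻¹ • v = v
  rw [smul_inv_smul]

theorem cj_rho (d f : D) : cj d (rho D V f) = rho D V (d * f * d⁻¹) := by
  ext v
  change d • f • d⁻¹ • v = (d * f * d⁻¹) • v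
  simp only [mul_smul]

theorem cj_ne_zero (d : D) {r : AddMonoid.End V} (h : r ≠ 0) : cj d r ≠ 0 := by
  intro h1
  apply h
  apply cj_inj d
  rw [h1, cj_zero]

/-- the ring generated by `F` -/
def R (F : Subgroup D) (V : Type*) [AddCommGroup V] [DistribMulAction D V] : Subring (AddMonoid.End V) :=
  Subring.closure (rho D V '' (F : Set D))

variable {F : Subgroup D}

theorem mem_R {f : D} (hf : f ∈ F) : rho D V f ∈ R F V := Subring.subset_closure ⟨f, hf, rfl⟩

theorem comm_of_centralize {y : AddMonoid.End V} (hy : ∀ f ∈ F, y * rho D V f = rho D V f * y) {r : AddMonoid.End V}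
    (hr : r ∈ R F V) : y * r = r * y := by
  have hle : R F V ≤ Subring.centralizer {y} := by
    refine Subring.closure_le.mpr ?_
    rintro _ ⟨f, hf, rfl⟩
    rw [SetLike.mem_coe, Subring.mem_centralizer_iff]
    rintro _ rfl
    exact hy f hf
  exact (Subring.mem_centralizer_iff.mp (hle hr) y rfl)

theorem comm (hF : ∀ a ∈ F, ∀ b ∈ F, a * b = b * a) {r s : AddMonoid.End V} (hr : r ∈ R F V) (hs : s ∈ R F V) :
    r * s = s * r := by
  refine comm_of_centralize (F := F) (fun f hf => ?_) hs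
  symm
  refine comm_of_centralize (F := F) (fun a ha => ?_) hr
  rw [← map_mul, ← map_mul, hF f hf a ha]

theorem cj_mem {d : D} (hd : ∀ f ∈ F, d * f * d⁻¹ ∈ F) {r : AddMonoid.End V} (hr : r ∈ R F V) : cj d r ∈ R F V := by
  induction hr using Subring.closure_induction with
  | mem x hx =>
    obtain ⟨f, hf, rfl⟩ := hx
    rw [cj_rho]
    exact mem_R (hd f hf)
  | zero => rw [cj_zero]; exact zero_mem _
  | one => rw [cj_one']; exact one_mem _
  | add x y _ _ hx hy => rw [cj_add]; exact add_mem hx hy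
  | neg x _ hx => rw [cj_neg]; exact neg_mem hx
  | mul x y _ _ hx hy => rw [cj_mul]; exact mul_mem hx hy

/-- elements of `F` centralise the ring -/
theorem cj_F (hF : ∀ a ∈ F, ∀ b ∈ F, a * b = b * a) {f : D} (hf : f ∈ F) {r : AddMonoid.End V} (hr : r ∈ R F V) :
    cj f r = r := by
  unfold cj
  rw [comm hF (mem_R hf) hr, mul_assoc, ← map_mul, mul_inv_cancel, map_one, mul_one]

/-- an `F`-invariant subgroup is `R`-invariant -/
theorem R_inv {W : AddSubgroup V} (hW : ∀ f ∈ F, ∀ w ∈ W, f • w ∈ W) {r : AddMonoid.End V} (hr : r ∈ R F V) {w : V}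
    (hw : w ∈ W) : r w ∈ W := by
  induction hr using Subring.closure_induction generalizing w with
  | mem x hx =>
    obtain ⟨f, hf, rfl⟩ := hx
    exact hW f hf w hw
  | zero => exact zero_mem _
  | one => exact hw
  | add x y _ _ hx hy => exact add_mem (hx hw) (hy hw)
  | neg x _ hx => exact neg_mem (hx hw)
  | mul x y _ _ hx hy => exact hx (hy hw)

/-- irreducible groups: the ring is transitive -/
theorem trans_of_irr (hirr : ∀ W : AddSubgroup V, (∀ f ∈ F, ∀ w ∈ W, f • w ∈ W) → W = ⊥ ∨ W = ⊤) {v : V} (hv : v ≠ 0)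
    (w : V) : ∃ r ∈ R F V, r v = w := by
  let W : AddSubgroup V :=
    { carrier := {w | ∃ a ∈ R F V, a v = w}
      zero_mem' := ⟨0, zero_mem _, rfl⟩
      add_mem' := by
        rintro _ _ ⟨a, ha, rfl⟩ ⟨b, hb, rfl⟩
        exact ⟨a + b, add_mem ha hb, rfl⟩
      neg_mem' := by
        rintro _ ⟨a, ha, rfl⟩
        exact ⟨-a, neg_mem ha, rfl⟩ }
  rcases hirr W (by
    rintro f hf _ ⟨b, hb, rfl⟩
    exact ⟨rho D V f * b, mul_mem (mem_R hf) hb, rfl⟩) with h | h
  · exfalso
    have h1 : v ∈ W := ⟨1, one_mem _, rfl⟩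
    rw [h, AddSubgroup.mem_bot] at h1
    exact hv h1
  · have h1 : w ∈ W := by rw [h]; trivial
    exact h1

/-- irreducible abelian groups: endomorphisms commuting with `F` are in the ring -/
theorem mem_of_centralize (hF : ∀ a ∈ F, ∀ b ∈ F, a * b = b * a)
    (hirr : ∀ W : AddSubgroup V, (∀ f ∈ F, ∀ w ∈ W, f • w ∈ W) → W = ⊥ ∨ W = ⊤) {v : V} (hv : v ≠ 0)
    {y : AddMonoid.End V} (hy : ∀ f ∈ F, y * rho D V f = rho D V f * y) : y ∈ R F V := by
  obtain ⟨c, hc, hcv⟩ := trans_of_irr hirr hv (y v)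
  have : y = c := by
    ext w
    obtain ⟨a, ha, rfl⟩ := trans_of_irr hirr hv w
    have h1 : y (a v) = a (y v) := DFunLike.congr_fun (comm_of_centralize hy ha) v
    have h2 : c (a v) = a (c v) := DFunLike.congr_fun (comm hF hc ha) v
    rw [h1, h2, hcv]
  rw [this]
  exact hc

/-- **an abelian group whose ring is a domain is cyclic** -/
theorem isCyclic_of_domain [Finite D] (hfaith : ∀ d : D, (∀ v : V, d • v = v) → d = 1)
    (hF : ∀ a ∈ F, ∀ b ∈ F, a * b = b * a) [Nontrivial V]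
    (hdom : ∀ r ∈ R F V, ∀ s ∈ R F V, r * s = 0 → r = 0 ∨ s = 0) : IsCyclic F := by
  let _ : CommRing (R F V) := { (inferInstance : Ring (R F V)) with
    mul_comm := fun a b => Subtype.ext (comm hF a.2 b.2) }
  have hnt : Nontrivial (R F V) := by
    refine ⟨⟨0, 1, fun h => ?_⟩⟩
    obtain ⟨v, hv⟩ := exists_ne (0 : V)
    have h1 : (0 : AddMonoid.End V) = 1 := congrArg Subtype.val h
    exact hv (DFunLike.congr_fun h1 v).symm
  have hnz : NoZeroDivisors (R F V) := by
    constructor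
    intro a b hab
    rcases hdom a a.2 b b.2 (congrArg Subtype.val hab) with h | h
    · exact Or.inl (Subtype.ext h)
    · exact Or.inr (Subtype.ext h)
  have hd : IsDomain (R F V) := NoZeroDivisors.to_isDomain _
  let g : F →* R F V :=
    { toFun := fun a => ⟨rho D V a, mem_R a.2⟩
      map_one' := Subtype.ext (map_one (rho D V))
      map_mul' := fun a b => Subtype.ext (map_mul (rho D V) _ _) }
  refine isCyclic_of_injective_ringHom g ?_
  rw [injective_iff_map_eq_one]
  intro a ha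
  have h1 : rho D V a = 1 := congrArg Subtype.val ha
  exact Subtype.ext (hfaith a fun v => DFunLike.congr_fun h1 v)

/-- irreducible abelian groups: the ring is a domain -/
theorem domain_of_irr (hF : ∀ a ∈ F, ∀ b ∈ F, a * b = b * a)
    (hirr : ∀ W : AddSubgroup V, (∀ f ∈ F, ∀ w ∈ W, f • w ∈ W) → W = ⊥ ∨ W = ⊤) :
    ∀ r ∈ R F V, ∀ s ∈ R F V, r * s = 0 → r = 0 ∨ s = 0 := by
  intro r hr s hs hrs
  by_contra hcon
  push Not at hcon
  obtain ⟨h1, h2⟩ := hcon
  obtain ⟨v, hv⟩ : ∃ v, s v ≠ 0 := by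
    by_contra h
    push Not at h
    exact h2 (AddMonoidHom.ext h)
  apply h1
  ext w
  obtain ⟨a, ha, rfl⟩ := trans_of_irr hirr hv w
  have h3 : r (a (s v)) = a (r (s v)) := DFunLike.congr_fun (comm hF hr ha) (s v)
  have h4 : r (s v) = 0 := DFunLike.congr_fun hrs v
  rw [h3, h4, map_zero]
  rfl

/-- two elements normalising a cyclic group `F`: the commutator centralises `F` -/
theorem comm_cyclic [Finite D] (hc : IsCyclic F) {g h : D} (hg : ∀ f ∈ F, g * f * g⁻¹ ∈ F)
    (hh : ∀ f ∈ F, h * f * h⁻¹ ∈ F) {f : D} (hf : f ∈ F) :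
    (g * h * g⁻¹ * h⁻¹) * f = f * (g * h * g⁻¹ * h⁻¹) := by
  obtain ⟨⟨z, hz⟩, hgen⟩ := hc.exists_generator
  have key : ∀ x ∈ F, ∃ n : ℤ, z ^ n = x := by
    intro x hx
    obtain ⟨n, hn⟩ := Subgroup.mem_zpowers_iff.1 (hgen ⟨x, hx⟩)
    exact ⟨n, congrArg Subtype.val hn⟩
  obtain ⟨a, ha⟩ := key _ (hg z hz)
  obtain ⟨b, hb⟩ := key _ (hh z hz)
  have e1 : g * h * z * (g * h)⁻¹ = z ^ (a * b) := by
    calc g * h * z * (g * h)⁻¹ = g * (h * z * h⁻¹) * g⁻¹ := by group
      _ = g * z ^ b * g⁻¹ := by rw [← hb]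
      _ = (g * z * g⁻¹) ^ b := by rw [conj_zpow]
      _ = z ^ (a * b) := by rw [← ha, zpow_mul]
  have e2 : h * g * z * (h * g)⁻¹ = z ^ (a * b) := by
    calc h * g * z * (h * g)⁻¹ = h * (g * z * g⁻¹) * h⁻¹ := by group
      _ = h * z ^ a * h⁻¹ := by rw [← ha]
      _ = (h * z * h⁻¹) ^ a := by rw [conj_zpow]
      _ = z ^ (a * b) := by rw [← hb, ← zpow_mul, mul_comm b a]
  have e3 : ∀ x ∈ F, g * h * x * (g * h)⁻¹ = h * g * x * (h * g)⁻¹ := by
    intro x hx
    obtain ⟨n, rfl⟩ := key x hx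
    rw [← conj_zpow, ← conj_zpow, e1, e2]
  -- the inverse of `h g` maps `F` into `F`
  have e4 : (h * g)⁻¹ * f * (h * g) ∈ F := by
    have hhg : ∀ x ∈ F, (h * g) * x * (h * g)⁻¹ ∈ F := by
      intro x hx
      have : (h * g) * x * (h * g)⁻¹ = h * (g * x * g⁻¹) * h⁻¹ := by group
      rw [this]
      exact hh _ (hg x hx)
    have hmap : F.map (MulAut.conj (h * g)).toMonoidHom = F := by
      apply Subgroup.eq_of_le_of_card_ge
      · rintro _ ⟨x, hx, rfl⟩
        exact hhg x hx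
      · exact (Nat.card_congr (F.equivMapOfInjective _ (MulAut.conj (h * g)).injective).toEquiv).le
    rw [← hmap] at hf
    obtain ⟨x, hx, hxf⟩ := hf
    have hxf' : (h * g) * x * (h * g)⁻¹ = f := hxf
    have : (h * g)⁻¹ * f * (h * g) = x := by rw [← hxf']; group
    rw [this]
    exact hx
  have e5 := e3 _ e4
  have e6 : (g * h * g⁻¹ * h⁻¹) * f * (g * h * g⁻¹ * h⁻¹)⁻¹ = f := by
    calc (g * h * g⁻¹ * h⁻¹) * f * (g * h * g⁻¹ * h⁻¹)⁻¹ =
        g * h * ((h * g)⁻¹ * f * (h * g)) * (g * h)⁻¹ := by group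
      _ = h * g * ((h * g)⁻¹ * f * (h * g)) * (h * g)⁻¹ := e5
      _ = f := by group
  calc (g * h * g⁻¹ * h⁻¹) * f = (g * h * g⁻¹ * h⁻¹) * f * (g * h * g⁻¹ * h⁻¹)⁻¹ * (g * h * g⁻¹ * h⁻¹) := by group
    _ = f * (g * h * g⁻¹ * h⁻¹) := by rw [e6]

end Cfsg.Agent.H753.LinRing
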