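import Cfsg.Agent.SignalizersComponents.CompBasic

/-!
# A 3-element commuting with an involution (helper753, for S3263)
-/

set_option autoImplicit false

namespace Cfsg.Agent.H753.LongThree

open Cfsg Subgroup

/-- `T` a normal subgroup, `J` subnormal and a 3-group modulo `T`, `x ∈ J` of order 3 acting nontrivially on `T`,
`Z(T) ≤ {1, j}`, `z` an involution centralizing `T`: some 3-element commutes with `z` and acts nontrivially on `T`. -/
theorem key {Y : Type*} [Group Y] [Finite Y] {T J : Subgroup Y} (hT : T.Normal) (hJ : J.IsSubnormal)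
    (h3 : ∀ g ∈ J, ∃ k : ℕ, g ^ 3 ^ k ∈ T) {x z j : Y} (hx : x ∈ J) (hx3 : x ^ 3 = 1)
    (hz : z * z = 1) (hzT : ∀ t ∈ T, z * t = t * z) (hj : ∀ y : Y, y * j = j * y) (hj2 : j * j = 1)
    (hZ : ∀ t ∈ T, (∀ s ∈ T, t * s = s * t) → t = 1 ∨ t = j)
    (hxT : ∃ t ∈ T, x * t ≠ t * x) :
    ∃ w : Y, w * z = z * w ∧ (∃ k : ℕ, w ^ 3 ^ k = 1) ∧ ∃ t ∈ T, w * t ≠ t * w := by
  have hzi : z⁻¹ = z := inv_eq_of_mul_eq_one_left hz
  set D := centralizer (T : Set Y) with hD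
  have hDn : D.Normal := inferInstance
  have hzD : z ∈ D := mem_centralizer_iff.2 fun t ht => (hzT t ht).symm
  set v := x⁻¹ * (z * x * z) with hv
  have hvD : v ∈ D := by
    have h1 : x⁻¹ * z * x⁻¹⁻¹ ∈ D := hDn.conj_mem z hzD x⁻¹
    have h2 : v = x⁻¹ * z * x⁻¹⁻¹ * z := by rw [hv]; group
    rw [h2]
    exact D.mul_mem h1 hzD
  -- `v` is a 3-element modulo `T`
  have hv3 : ∃ k : ℕ, v ^ 3 ^ k ∈ T := by
    have h1 : (J.map (QuotientGroup.mk' T)).IsSubnormal := hJ.map (QuotientGroup.mk'_surjective T)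
    have h2 : IsPGroup 3 (J.map (QuotientGroup.mk' T)) := by
      rintro ⟨_, g, hg, rfl⟩
      obtain ⟨k, hk⟩ := h3 g hg
      refine ⟨k, Subtype.ext ?_⟩
      change (QuotientGroup.mk' T g) ^ 3 ^ k = 1
      rw [← map_pow]
      exact (QuotientGroup.eq_one_iff _).2 hk
    have h4 := Cfsg.Agent.SignalizersComponents.CompBasic.subnormal_pGroup_le_pCore h1 h2
    have h5 : (pCore 3 (Y ⧸ T)).Normal := Cfsg.Agent.Lib.Cores.pCore_normal 3
    have h6 : QuotientGroup.mk' T x ∈ pCore 3 (Y ⧸ T) := h4 ⟨x, hx, rfl⟩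
    have h7 : QuotientGroup.mk' T v ∈ pCore 3 (Y ⧸ T) := by
      have h8 : QuotientGroup.mk' T v = (QuotientGroup.mk' T x)⁻¹ *
          (QuotientGroup.mk' T z * QuotientGroup.mk' T x * (QuotientGroup.mk' T z)⁻¹) := by
        rw [← map_inv, ← map_inv, ← map_mul, ← map_mul, ← map_mul, hzi]
      rw [h8]
      exact mul_mem (inv_mem h6) (h5.conj_mem _ h6 _)
    obtain ⟨k, hk⟩ := (Cfsg.Agent.Lib.Cores.pCore_isPGroup (G := Y ⧸ T) 3) ⟨_, h7⟩
    refine ⟨k, ?_⟩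
    have h9 : (QuotientGroup.mk' T v) ^ 3 ^ k = 1 := congrArg Subtype.val hk
    rw [← map_pow] at h9
    exact (QuotientGroup.eq_one_iff _).1 h9
  obtain ⟨k, hk⟩ := hv3
  have hu : v ^ 3 ^ k = 1 ∨ v ^ 3 ^ k = j :=
    hZ _ hk fun s hs => (mem_centralizer_iff.1 (D.pow_mem hvD _) s hs).symm
  have huc : ∀ y : Y, y * v ^ 3 ^ k = v ^ 3 ^ k * y := by
    intro y
    rcases hu with h | h
    · rw [h, mul_one, one_mul]
    · rw [h, hj]
  have hu2 : v ^ 3 ^ k * v ^ 3 ^ k = 1 := by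
    rcases hu with h | h
    · rw [h, mul_one]
    · rw [h, hj2]
  -- `z` inverts `v`
  have hzv : z * v * z⁻¹ = v⁻¹ := by
    have h1 : z * v * z⁻¹ = z * x⁻¹ * z * x * (z * z⁻¹) := by rw [hv]; group
    have h2 : v⁻¹ = z⁻¹ * x⁻¹ * z⁻¹ * x := by rw [hv]; group
    rw [h1, h2, hzi, hz, mul_one]
  obtain ⟨l, hl⟩ : ∃ l : ℕ, 3 ^ k + 1 = 2 * l := by
    have h1 : Odd (3 ^ k) := Odd.pow (by decide)
    obtain ⟨m, hm⟩ := h1
    exact ⟨m + 1, by omega⟩
  set y := x * v ^ l with hy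
  have hzvl : z * v ^ l = (v ^ l)⁻¹ * z := by
    have h1 : z * v ^ l * z⁻¹ = (v ^ l)⁻¹ := by
      rw [← inv_pow, ← hzv, conj_pow]
    rw [← h1, inv_mul_cancel_right]
  have hzx : z * x = x * v * z := by
    have h1 : x * v * z = z * x * (z * z) := by rw [hv]; group
    rw [h1, hz, mul_one]
  have hzy : z * y = v ^ 3 ^ k * y * z := by
    have h1 : z * y = x * v * ((v ^ l)⁻¹ * z) := by rw [hy, ← mul_assoc, hzx, mul_assoc (x * v), hzvl]
    have h2 : v ^ 3 ^ k * v = v ^ l * v ^ l := by rw [← pow_succ, hl, two_mul, pow_add]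
    have h3 : v ^ l * v ^ 3 ^ k = v * (v ^ l)⁻¹ := by
      have h4 : v ^ l * v ^ 3 ^ k * (v ^ 3 ^ k * v) = v * (v ^ l)⁻¹ * (v ^ l * v ^ l) := by
        calc v ^ l * v ^ 3 ^ k * (v ^ 3 ^ k * v) = v ^ l * (v ^ 3 ^ k * v ^ 3 ^ k) * v := by group
          _ = v ^ l * v := by rw [hu2, mul_one]
          _ = v * v ^ l := by rw [← pow_succ, ← pow_succ']
          _ = v * (v ^ l)⁻¹ * (v ^ l * v ^ l) := by group
      rw [← h2] at h4
      exact mul_right_cancel h4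
    rw [h1, ← huc, hy]
    calc x * v * ((v ^ l)⁻¹ * z) = x * (v * (v ^ l)⁻¹) * z := by group
      _ = x * (v ^ l * v ^ 3 ^ k) * z := by rw [h3]
      _ = _ := by group
  have hzyy : z * (y * y) = y * y * z := by
    calc z * (y * y) = (z * y) * y := (mul_assoc _ _ _).symm
      _ = v ^ 3 ^ k * y * (z * y) := by rw [hzy, mul_assoc (v ^ 3 ^ k * y), hzy]
      _ = v ^ 3 ^ k * (y * v ^ 3 ^ k) * y * z := by rw [hzy]; simp only [mul_assoc]
      _ = v ^ 3 ^ k * (v ^ 3 ^ k * y) * y * z := by rw [huc]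
      _ = (v ^ 3 ^ k * v ^ 3 ^ k) * (y * y) * z := by simp only [mul_assoc]
      _ = y * y * z := by rw [hu2, one_mul]
  obtain ⟨a, s, hs, has⟩ := Nat.exists_eq_pow_mul_and_not_dvd (orderOf_pos y).ne' 3 (by norm_num)
  refine ⟨(y * y) ^ s, ?_, ⟨a, ?_⟩, ?_⟩
  · exact (Commute.pow_left (show Commute (y * y) z from hzyy.symm) s)
  · rw [← pow_two, ← pow_mul, ← pow_mul, show 2 * (s * 3 ^ a) = orderOf y * 2 by rw [has]; ring, pow_mul,
      pow_orderOf_eq_one, one_pow]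
  · by_contra hcon
    push Not at hcon
    have hwD : (y * y) ^ s ∈ D := mem_centralizer_iff.2 fun t ht => (hcon t ht).symm
    have h1 : QuotientGroup.mk' D y = QuotientGroup.mk' D x := by
      rw [hy, map_mul, map_pow]
      have : QuotientGroup.mk' D v = 1 := (QuotientGroup.eq_one_iff _).2 hvD
      rw [this, one_pow, mul_one]
    have h2 : (QuotientGroup.mk' D x) ^ (2 * s) = 1 := by
      rw [← h1, ← map_pow, pow_mul, pow_two]
      exact (QuotientGroup.eq_one_iff _).2 hwD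
    have h4 : (QuotientGroup.mk' D x) ^ 3 = 1 := by rw [← map_pow, hx3, map_one]
    have h5 : orderOf (QuotientGroup.mk' D x) ∣ Nat.gcd (2 * s) 3 :=
      Nat.dvd_gcd (orderOf_dvd_of_pow_eq_one h2) (orderOf_dvd_of_pow_eq_one h4)
    have h6 : Nat.gcd (2 * s) 3 = 1 := by
      rw [← Nat.coprime_iff_gcd_eq_one, Nat.coprime_comm, Nat.Prime.coprime_iff_not_dvd Nat.prime_three]
      intro h7
      rcases (Nat.Prime.dvd_mul Nat.prime_three).1 h7 with h8 | h8
      · omega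
      · exact hs h8
    rw [h6, Nat.dvd_one, orderOf_eq_one_iff] at h5
    have hxD : x ∈ D := (QuotientGroup.eq_one_iff _).1 h5
    obtain ⟨t, ht, hne⟩ := hxT
    exact hne (mem_centralizer_iff.1 hxD t ht).symm

end Cfsg.Agent.H753.LongThree
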