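import Cfsg.Agent.H764.Ov

/-!
# The configuration `Ov` in additive notation (helper753)

`OvA` is `Cfsg.Agent.H764.Ov` for a vector space over `ZMod p` on which a group acts linearly; `ovA` is the
translation.
-/

set_option autoImplicit false

namespace Cfsg.Agent.H753

open Cfsg.Agent.H764 (Ov)

/-- `Cfsg.Agent.H764.Ov` in additive notation. -/
structure OvA {p : ℕ} {W : Type*} [AddCommGroup W] [Module (ZMod p) W] {Γ : Type*} [Group Γ]
    (ρ : Γ →* Module.End (ZMod p) W) (G T : Subgroup Γ) (H : Submodule (ZMod p) W) (x z : W) : Prop where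
  z_mem : z ∈ H
  z_ne : z ≠ 0
  x_not : x ∉ H
  index : ∀ v : W, ∃ i : ZMod p, v + i • x ∈ H
  T_le : T ≤ G
  T_comm : ∀ s ∈ T, ∀ t ∈ T, s * t = t * s
  T_z : ∀ t ∈ T, ρ t z = z
  T_H : ∀ t ∈ T, ∀ w ∈ H, ∃ j : ZMod p, ρ t w = w + j • z
  T_x : ∀ t ∈ T, ∃ w ∈ H, ρ t x = x + w
  T_surj : ∀ w ∈ H, ∃ t ∈ T, ∃ i : ZMod p, ρ t x = x + w + i • z
  T_inj : ∀ t ∈ T, ∀ i : ZMod p, ρ t x = x + i • z → t = 1
  trans : ∃ α ∈ G, ρ α z = x
  hI : ∀ β ∈ G, ρ β z ∈ H → ∃ c : ZMod p, ρ β z = c • z

section translate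

variable {p : ℕ} [Fact p.Prime] {V : Type*} [Group V]

/-- The vector space attached to an elementary abelian group. -/
def VS (p : ℕ) {V : Type*} [Group V] (_ : ∀ a b : V, a * b = b * a) (_ : ∀ a : V, a ^ p = 1) : Type _ :=
  Additive V

/-- The identity map. -/
def toVS (p : ℕ) {V : Type*} [Group V] (hc : ∀ a b : V, a * b = b * a) (he : ∀ a : V, a ^ p = 1) (v : V) :
    VS p hc he := Additive.ofMul v

/-- The identity map. -/
def ofVS (p : ℕ) {V : Type*} [Group V] (hc : ∀ a b : V, a * b = b * a) (he : ∀ a : V, a ^ p = 1)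
    (v : VS p hc he) : V := Additive.toMul (α := V) v

instance instAddCommGroupVS (hc : ∀ a b : V, a * b = b * a) (he : ∀ a : V, a ^ p = 1) : AddCommGroup (VS p hc he) :=
  { (inferInstance : AddGroup (Additive V)) with
    add_comm := fun a b => congrArg Additive.ofMul (hc (ofVS p hc he a) (ofVS p hc he b)) }

instance instModuleVS (hc : ∀ a b : V, a * b = b * a) (he : ∀ a : V, a ^ p = 1) : Module (ZMod p) (VS p hc he) :=
  AddCommGroup.zmodModule (n := p) (G := VS p hc he)
    (fun a => congrArg Additive.ofMul (he (ofVS p hc he a)))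

instance instFiniteVS [Finite V] (hc : ∀ a b : V, a * b = b * a) (he : ∀ a : V, a ^ p = 1) : Finite (VS p hc he) :=
  inferInstanceAs (Finite (Additive V))

/-- The action of the automorphism group on the attached vector space. -/
def arep (hc : ∀ a b : V, a * b = b * a) (he : ∀ a : V, a ^ p = 1) :
    MulAut V →* Module.End (ZMod p) (VS p hc he) where
  toFun φ := AddMonoidHom.toZModLinearMap p (M := VS p hc he) (M₁ := VS p hc he)
    { toFun := fun v => toVS p hc he (φ (ofVS p hc he v))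
      map_zero' := map_one φ
      map_add' := fun a b => map_mul φ (ofVS p hc he a) (ofVS p hc he b) }
  map_one' := by ext v; rfl
  map_mul' := by intro a b; ext v; rfl

variable {hc : ∀ a b : V, a * b = b * a} {he : ∀ a : V, a ^ p = 1}

theorem arep_apply (φ : MulAut V) (v : V) : arep hc he φ (toVS p hc he v) = toVS p hc he (φ v) := rfl

theorem toVS_mul (a b : V) : toVS p hc he (a * b) = toVS p hc he a + toVS p hc he b := rfl

theorem toVS_inj {a b : V} : toVS p hc he a = toVS p hc he b ↔ a = b := Iff.rfl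

theorem toVS_ofVS (a : VS p hc he) : toVS p hc he (ofVS p hc he a) = a := rfl

theorem smul_toVS (i : ℤ) (v : V) : (i : ZMod p) • toVS p hc he v = toVS p hc he (v ^ i) := by
  rw [Int.cast_smul_eq_zsmul]
  rfl

theorem smul_toVS' (i : ZMod p) (v : V) : i • toVS p hc he v = toVS p hc he (v ^ (i.val : ℤ)) := by
  rw [← smul_toVS]
  congr 1
  simp

/-- The subspace attached to a subgroup. -/
def sub (p : ℕ) [Fact p.Prime] {V : Type*} [Group V] (hc : ∀ a b : V, a * b = b * a)
    (he : ∀ a : V, a ^ p = 1) (H : Subgroup V) : Submodule (ZMod p) (VS p hc he) :=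
  AddSubgroup.toZModSubmodule p
    { carrier := {v | ofVS p hc he v ∈ H}
      zero_mem' := H.one_mem
      add_mem' := H.mul_mem
      neg_mem' := H.inv_mem }

theorem mem_sub {H : Subgroup V} {v : V} : toVS p hc he v ∈ sub p hc he H ↔ v ∈ H := Iff.rfl

/-- The translation. -/
theorem ovA {G T : Subgroup (MulAut V)} {H : Subgroup V} {x z : V} (h : Ov p G T H x z) :
    OvA (arep h.comm h.exp) G T (sub p h.comm h.exp H) (toVS p h.comm h.exp x) (toVS p h.comm h.exp z) := by
  refine ⟨h.z_mem, h.z_ne, h.x_not, ?_, h.T_le, h.T_comm, h.T_z, ?_, h.T_x, ?_, ?_, h.trans, ?_⟩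
  · intro v
    obtain ⟨i, hi⟩ := h.index (ofVS p h.comm h.exp v)
    refine ⟨(i : ZMod p), ?_⟩
    rw [smul_toVS]
    exact hi
  · intro t ht w hw
    obtain ⟨j, hj⟩ := h.T_H t ht (ofVS p h.comm h.exp w) hw
    refine ⟨(j : ZMod p), ?_⟩
    rw [smul_toVS]
    exact hj
  · intro w hw
    obtain ⟨t, ht, i, hi⟩ := h.T_surj (ofVS p h.comm h.exp w) hw
    refine ⟨t, ht, (i : ZMod p), ?_⟩
    rw [smul_toVS]
    exact hi
  · intro t ht i hi
    rw [smul_toVS'] at hi
    exact h.T_inj t ht _ hi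
  · intro β hβ hz
    obtain ⟨k, hk⟩ := h.hI β hβ hz
    refine ⟨(k : ZMod p), ?_⟩
    rw [smul_toVS]
    exact hk.symm

end translate

end Cfsg.Agent.H753
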