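import Cfsg.Agent.H753.OvCount
import Cfsg.Agent.H718.QuadCount

/-!
# The configuration `Ov`: the form is anisotropic (helper753)
-/

set_option autoImplicit false

namespace Cfsg.Agent.H753

variable {p : ℕ} [Fact p.Prime] {W : Type*} [AddCommGroup W] [Module (ZMod p) W] {Γ : Type*} [Group Γ]
  {ρ : Γ →* Module.End (ZMod p) W} {G T : Subgroup Γ} {H : Submodule (ZMod p) W} {x z : W}

namespace OvA

variable (h : OvA ρ G T H x z)

include h

theorem mem_H {v : W} (hm : Mem ρ G z v) (hv : v ∈ H) : ∃ c : ZMod p, v = c • z := by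
  obtain ⟨β, hβ, d, hd, rfl⟩ := hm
  have h1 : ρ β z ∈ H := by
    have := H.smul_mem d⁻¹ hv
    rwa [smul_smul, inv_mul_cancel₀ hd, one_smul] at this
  obtain ⟨c, hc⟩ := h.hI β hβ h1
  exact ⟨d * c, by rw [hc, smul_smul]⟩

theorem smul_z {i j : ZMod p} (hij : i • z = j • z) : i = j := by
  by_contra hne
  have h1 : (i - j) • z = 0 := by rw [sub_smul, hij, sub_self]
  rcases smul_eq_zero.1 h1 with h2 | h2
  · exact hne (sub_eq_zero.1 h2)
  · exact h.z_ne h2

theorem smul_x {i : ZMod p} {w : W} (hw : w ∈ H) (hi : i • x + w = 0) : i = 0 ∧ w = 0 := by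
  have h1 : i = 0 := by
    by_contra hne
    apply h.x_not
    have h2 : i • x = -w := eq_neg_of_add_eq_zero_left hi
    have h3 : x = i⁻¹ • (-w) := by rw [← h2, smul_smul, inv_mul_cancel₀ hne, one_smul]
    rw [h3]
    exact H.smul_mem _ (H.neg_mem hw)
  subst h1
  rw [zero_smul, zero_add] at hi
  exact ⟨rfl, hi⟩

/-- A vector outside `H` is a multiple of a translate of `x`. -/
theorem exists_trans {v : W} (hv : v ∉ H) :
    ∃ t ∈ T, ∃ c l : ZMod p, c ≠ 0 ∧ v = c • (ρ t x + l • z) := by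
  obtain ⟨k, hk⟩ := h.index v
  have hk0 : k ≠ 0 := by
    rintro rfl
    rw [zero_smul, add_zero] at hk
    exact hv hk
  have hk1 : -k ≠ 0 := neg_ne_zero.2 hk0
  obtain ⟨t, ht, l, hl⟩ := h.T_surj ((-k)⁻¹ • (v + k • x)) (H.smul_mem _ hk)
  refine ⟨t, ht, -k, -l, hk1, ?_⟩
  rw [hl, neg_smul l z, add_neg_cancel_right, smul_add, smul_smul, mul_inv_cancel₀ hk1, one_smul, neg_smul]
  abel

theorem claim {v : W} (hv : v ∈ H) (hvz : ∀ c : ZMod p, v ≠ c • z) (i : ZMod p)
    (h2 : 2 ≤ lin ρ G z (x + i • z) v) : lin ρ G z (x + i • z) v = lin ρ G z x z + 1 := by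
  have hmv : ¬ Mem ρ G z v := fun hm => by
    obtain ⟨c, hc⟩ := h.mem_H hm hv
    exact hvz c hc
  have hv0 : v ≠ 0 := fun h0 => hvz 0 (by rw [h0, zero_smul])
  have hind : ∀ c d : ZMod p, c • (x + i • z) + d • v = 0 → c = 0 ∧ d = 0 := by
    intro c d hcd
    have h3 : c • x + (c • i • z + d • v) = 0 := by rw [← hcd, smul_add, add_assoc]
    obtain ⟨h4, h5⟩ := h.smul_x (H.add_mem (H.smul_mem _ (H.smul_mem _ h.z_mem)) (H.smul_mem _ hv)) h3
    subst h4
    rw [zero_smul, zero_add] at h5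
    exact ⟨rfl, (smul_eq_zero.1 h5).resolve_right hv0⟩
  have hind0 : ∀ c d : ZMod p, c • x + d • z = 0 → c = 0 ∧ d = 0 := by
    intro c d hcd
    obtain ⟨h4, h5⟩ := h.smul_x (H.smul_mem _ h.z_mem) hcd
    exact ⟨h4, (smul_eq_zero.1 h5).resolve_right h.z_ne⟩
  have hc1 := cnt_span (ρ := ρ) (G := G) h.z_ne hind
  have hc0 := cnt_span (ρ := ρ) (G := G) h.z_ne hind0
  rw [if_neg hmv, add_zero] at hc1
  rw [if_pos mem_z] at hc0
  obtain ⟨j₁, hj₁, j₂, hj₂, hne⟩ := (Set.one_lt_ncard (Set.toFinite _)).1 (show 1 < Set.ncard _ from h2)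
  obtain ⟨β, hβ, c, hc, hac⟩ := hj₁
  have hj₂' : Mem ρ G z (x + i • z + j₂ • v) := hj₂
  have hγ : β⁻¹ ∈ G := G.inv_mem hβ
  have ha : ρ β⁻¹ (x + i • z + j₁ • v) = c • z := by
    rw [hac, map_smul, rho_inv]
  set v' := ρ β⁻¹ (x + i • z + j₂ • v) with hv'
  have hv'm : Mem ρ G z v' := hj₂'.map hγ
  have hv'H : v' ∉ H := by
    intro hH
    obtain ⟨c', hc'⟩ := h.mem_H hv'm hH
    have h3 : c • (x + i • z + j₂ • v) = c' • (x + i • z + j₁ • v) := by
      apply rho_inj (ρ := ρ) β⁻¹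
      rw [map_smul, map_smul, ← hv', ha, hc', smul_smul, smul_smul, mul_comm]
    have h4 : (c - c') • (x + i • z) + (c * j₂ - c' * j₁) • v = 0 := by
      rw [← sub_eq_zero] at h3
      rw [← h3]
      module
    obtain ⟨h5, h6⟩ := hind _ _ h4
    rw [sub_eq_zero] at h5 h6
    rw [← h5] at h6
    exact hne (mul_left_cancel₀ hc h6).symm
  obtain ⟨t, ht, k, l, hk, hkl⟩ := h.exists_trans hv'H
  have hmaps : (Submodule.span (ZMod p) {x + i • z, v}).map (ρ β⁻¹) =
      (Submodule.span (ZMod p) {x, z}).map (ρ t) := by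
    have hj : j₁ - j₂ ≠ 0 := sub_ne_zero.2 hne
    apply le_antisymm
    · rw [Submodule.map_span_le]
      have hz' : z ∈ (Submodule.span (ZMod p) {x, z}).map (ρ t) :=
        ⟨z, Submodule.subset_span (by simp), h.T_z t ht⟩
      have hx' : ρ t x ∈ (Submodule.span (ZMod p) {x, z}).map (ρ t) :=
        ⟨x, Submodule.subset_span (by simp), rfl⟩
      have hv1 : v' ∈ (Submodule.span (ZMod p) {x, z}).map (ρ t) := by
        rw [hkl]
        exact Submodule.smul_mem _ _ (Submodule.add_mem _ hx' (Submodule.smul_mem _ _ hz'))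
      have hvv : ρ β⁻¹ v = (j₁ - j₂)⁻¹ • (c • z - v') := by
        rw [← ha, hv', ← map_sub, ← map_smul]
        congr 1
        have h7 : x + i • z + j₁ • v - (x + i • z + j₂ • v) = (j₁ - j₂) • v := by module
        rw [h7, smul_smul, inv_mul_cancel₀ hj, one_smul]
      have hv2 : ρ β⁻¹ v ∈ (Submodule.span (ZMod p) {x, z}).map (ρ t) := by
        rw [hvv]
        exact Submodule.smul_mem _ _ (Submodule.sub_mem _ (Submodule.smul_mem _ _ hz') hv1)
      rintro u (rfl | rfl)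
      · have h8 : ρ β⁻¹ (x + i • z) = c • z - j₁ • ρ β⁻¹ v := by
          rw [← ha, map_add _ _ (j₁ • v), map_smul, add_sub_cancel_right]
        rw [h8]
        exact Submodule.sub_mem _ (Submodule.smul_mem _ _ hz') (Submodule.smul_mem _ _ hv2)
      · exact hv2
    · rw [Submodule.map_span_le]
      have hxz : x + i • z ∈ Submodule.span (ZMod p) {x + i • z, v} := Submodule.subset_span (by simp)
      have hvs : v ∈ Submodule.span (ZMod p) {x + i • z, v} := Submodule.subset_span (by simp)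
      have hz' : z ∈ (Submodule.span (ZMod p) {x + i • z, v}).map (ρ β⁻¹) := by
        have h9 : c • z ∈ (Submodule.span (ZMod p) {x + i • z, v}).map (ρ β⁻¹) :=
          ⟨_, Submodule.add_mem _ hxz (Submodule.smul_mem _ j₁ hvs), ha⟩
        have := Submodule.smul_mem _ c⁻¹ h9
        rwa [smul_smul, inv_mul_cancel₀ hc, one_smul] at this
      have hv1 : v' ∈ (Submodule.span (ZMod p) {x + i • z, v}).map (ρ β⁻¹) :=
        ⟨_, Submodule.add_mem _ hxz (Submodule.smul_mem _ j₂ hvs), rfl⟩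
      rintro u (rfl | rfl)
      · have h8 : ρ t u = k⁻¹ • v' - l • z := by
          rw [hkl, smul_smul, inv_mul_cancel₀ hk, one_smul, add_sub_cancel_right]
        rw [h8]
        exact Submodule.sub_mem _ (Submodule.smul_mem _ _ hv1) (Submodule.smul_mem _ _ hz')
      · rw [h.T_z t ht]
        exact hz'
  have h10 := cnt_map (ρ := ρ) (z := z) hγ (Submodule.span (ZMod p) {x + i • z, v})
  rw [hmaps, cnt_map (h.T_le ht), hc1, hc0] at h10
  have hp1 : 0 < p - 1 := by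
    have := (Fact.out : p.Prime).two_le
    omega
  exact (Nat.eq_of_mul_eq_mul_left hp1 h10).symm

/-- Powers of an element of `T`. -/
theorem pow_x (h2 : (2 : ZMod p) ≠ 0) {t : Γ} (ht : t ∈ T) {w : W} {f : ZMod p} (hx : ρ t x = x + w)
    (hw : ρ t w = w + f • z) (n : ℕ) :
    ρ (t ^ n) x = x + (n : ZMod p) • w + (f * (n * (n - 1) / 2)) • z := by
  induction n with
  | zero => simp
  | succ n ih =>
    rw [pow_succ', map_mul, Module.End.mul_apply, ih, map_add, map_add, map_smul, map_smul, hx, hw,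
      h.T_z t ht, Nat.cast_succ]
    have h3 : f * (((n : ZMod p) + 1) * ((n : ZMod p) + 1 - 1) / 2) = n * f + f * (n * (n - 1) / 2) := by
      field_simp
      ring
    rw [h3]
    module

theorem mem_line (h2 : (2 : ZMod p) ≠ 0) {t : Γ} (ht : t ∈ T) {w : W} {f : ZMod p} (hx : ρ t x = x + w)
    (hw : ρ t w = w + f • z) (i c j : ZMod p) :
    Mem ρ G z (x + i • z + j • (w + c • z)) ↔ Mem ρ G z (x + (i + c * j - f * (j * (j - 1) / 2)) • z) := by
  have h3 := h.pow_x h2 ht hx hw j.val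
  rw [ZMod.natCast_zmod_val] at h3
  have h4 : ρ (t ^ j.val) z = z := h.T_z _ (T.pow_mem ht _)
  have h5 : x + i • z + j • (w + c • z) =
      ρ (t ^ j.val) (x + (i + c * j - f * (j * (j - 1) / 2)) • z) := by
    rw [map_add, map_smul, h3, h4]
    module
  rw [h5, mem_map_iff (h.T_le (T.pow_mem ht _))]

/-- Part 1: anisotropy. -/
theorem aniso (hp : p ≠ 2) {t : Γ} (ht : t ∈ T) (ht1 : t ≠ 1) {w : W} (hx : ρ t x = x + w) :
    ρ t w ≠ w := by
  intro hw
  have hp3 : 3 ≤ p := by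
    have := (Fact.out : p.Prime).two_le
    omega
  have h2 : (2 : ZMod p) ≠ 0 := by
    intro h0
    have h1 : ((2 : ℕ) : ZMod p) = 0 := by exact_mod_cast h0
    rw [ZMod.natCast_eq_zero_iff] at h1
    have := Nat.le_of_dvd (by norm_num) h1
    omega
  obtain ⟨w', hw', hxw'⟩ := h.T_x t ht
  have hww : w' = w := add_left_cancel (hxw'.symm.trans hx)
  subst hww
  have hwz : ∀ c : ZMod p, w' ≠ c • z := by
    intro c hc
    exact ht1 (h.T_inj t ht c (by rw [hx, hc]))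
  have hw0 : ρ t w' = w' + (0 : ZMod p) • z := by rw [hw, zero_smul, add_zero]
  have hx0 : Mem ρ G z x := by
    obtain ⟨α, hα, hαx⟩ := h.trans
    exact ⟨α, hα, 1, one_ne_zero, by rw [one_smul, hαx]⟩
  have hU : (Set.univ : Set (ZMod p)).ncard = p := by
    rw [Set.ncard_univ, Nat.card_zmod]
  -- c = 0
  have e1 : lin ρ G z (x + (0 : ZMod p) • z) w' = p := by
    have : {j : ZMod p | Mem ρ G z (x + (0 : ZMod p) • z + j • w')} = Set.univ := by
      ext j
      simp only [Set.mem_ofPred_eq, Set.mem_univ, iff_true]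
      have h3 := h.mem_line h2 ht hx hw0 0 0 j
      rw [zero_smul, add_zero w', add_zero] at h3
      rw [zero_smul, add_zero, h3]
      simpa using hx0
    unfold lin
    rw [this, hU]
  have e2 := h.claim hw' hwz 0 (by rw [e1]; omega)
  rw [e1] at e2
  -- c = 1
  have hwz' : ∀ c : ZMod p, w' + (1 : ZMod p) • z ≠ c • z := by
    intro c hc
    apply hwz (c - 1)
    rw [sub_smul, ← hc, add_sub_cancel_right]
  have e3 : lin ρ G z (x + (0 : ZMod p) • z) (w' + (1 : ZMod p) • z) = lin ρ G z x z := by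
    have : {j : ZMod p | Mem ρ G z (x + (0 : ZMod p) • z + j • (w' + (1 : ZMod p) • z))} =
        {j : ZMod p | Mem ρ G z (x + j • z)} := by
      ext j
      simp only [Set.mem_ofPred_eq]
      rw [h.mem_line h2 ht hx hw0 0 1 j]
      simp
    unfold lin
    rw [this]
  have e4 := h.claim (H.add_mem hw' (H.smul_mem _ h.z_mem)) hwz' 0 (by rw [e3]; omega)
  omega

end OvA

/-- The value `f(s, t)` of the form. -/
noncomputable def ff (ρ : Γ →* Module.End (ZMod p) W) (x z : W) (s t : Γ) : ZMod p :=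
  open Classical in if h : ∃ j : ZMod p, ρ s (ρ t x - x) = (ρ t x - x) + j • z then h.choose else 0

namespace OvA

variable (h : OvA ρ G T H x z)

include h

theorem ff_spec {s t : Γ} (hs : s ∈ T) (ht : t ∈ T) :
    ρ s (ρ t x - x) = (ρ t x - x) + ff ρ x z s t • z := by
  have h1 : ∃ j : ZMod p, ρ s (ρ t x - x) = (ρ t x - x) + j • z := by
    obtain ⟨w, hw, hx⟩ := h.T_x t ht
    rw [hx, add_sub_cancel_left]
    exact h.T_H s hs w hw
  unfold ff
  rw [dif_pos h1]
  exact h1.choose_spec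

theorem ff_eq {s t : Γ} (hs : s ∈ T) (ht : t ∈ T) {j : ZMod p}
    (hj : ρ s (ρ t x - x) = (ρ t x - x) + j • z) : ff ρ x z s t = j :=
  h.smul_z (add_left_cancel ((h.ff_spec hs ht).symm.trans hj))

theorem ff_symm {s t : Γ} (hs : s ∈ T) (ht : t ∈ T) : ff ρ x z s t = ff ρ x z t s := by
  apply h.ff_eq hs ht
  have h1 := h.ff_spec ht hs
  have h2 : ρ s (ρ t x) = ρ t (ρ s x) := by
    rw [← Module.End.mul_apply, ← Module.End.mul_apply, ← map_mul, ← map_mul, h.T_comm s hs t ht]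
  rw [map_sub] at h1 ⊢
  rw [h2]
  have h3 : ρ t (ρ s x) = ρ s x - x + ff ρ x z t s • z + ρ t x := by rw [← h1]; abel
  rw [h3]
  abel

theorem ff_mul_left {s s' t : Γ} (hs : s ∈ T) (hs' : s' ∈ T) (ht : t ∈ T) :
    ff ρ x z (s * s') t = ff ρ x z s t + ff ρ x z s' t := by
  apply h.ff_eq (T.mul_mem hs hs') ht
  rw [map_mul, Module.End.mul_apply, h.ff_spec hs' ht, map_add, map_smul, h.T_z s hs, h.ff_spec hs ht]
  module

theorem ff_mul_right {s s' t : Γ} (hs : s ∈ T) (hs' : s' ∈ T) (ht : t ∈ T) :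
    ff ρ x z t (s * s') = ff ρ x z t s + ff ρ x z t s' := by
  rw [h.ff_symm ht (T.mul_mem hs hs'), h.ff_mul_left hs hs' ht, h.ff_symm hs ht, h.ff_symm hs' ht]

theorem ff_one_left {t : Γ} (ht : t ∈ T) : ff ρ x z 1 t = 0 := by
  apply h.ff_eq T.one_mem ht
  simp

theorem ff_pow_left {s t : Γ} (hs : s ∈ T) (ht : t ∈ T) (n : ℕ) :
    ff ρ x z (s ^ n) t = n * ff ρ x z s t := by
  induction n with
  | zero => simp [h.ff_one_left ht]
  | succ n ih => rw [pow_succ, h.ff_mul_left (T.pow_mem hs n) hs ht, ih]; push_cast; ring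

theorem ff_pow_right {s t : Γ} (hs : s ∈ T) (ht : t ∈ T) (n : ℕ) :
    ff ρ x z t (s ^ n) = n * ff ρ x z t s := by
  rw [h.ff_symm ht (T.pow_mem hs n), h.ff_pow_left hs ht, h.ff_symm hs ht]

theorem ff_self (hp : p ≠ 2) {t : Γ} (ht : t ∈ T) (h0 : ff ρ x z t t = 0) : t = 1 := by
  by_contra ht1
  refine h.aniso hp ht ht1 (w := ρ t x - x) (by abel) ?_
  rw [h.ff_spec ht ht, h0, zero_smul, add_zero]

/-- The homomorphism `s ↦ f(s, t)`. -/
noncomputable def hom (t : T) : T →* Multiplicative (ZMod p) where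
  toFun s := Multiplicative.ofAdd (ff ρ x z (s : Γ) (t : Γ))
  map_one' := congrArg Multiplicative.ofAdd (h.ff_one_left t.2)
  map_mul' s s' := congrArg Multiplicative.ofAdd (h.ff_mul_left s.2 s'.2 t.2)

theorem mem_ker_hom {s t : T} : s ∈ (h.hom t).ker ↔ ff ρ x z (s : Γ) (t : Γ) = 0 := Iff.rfl

theorem card_le_ker (t : T) (K : Subgroup T) [Finite T] : Nat.card K ≤ p * Nat.card (K ⊓ (h.hom t).ker : Subgroup T) := by
  have h1 := (((h.hom t).comp K.subtype).ker).index_mul_card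
  have h2 : ((h.hom t).comp K.subtype).ker.index ≤ p := by
    rw [Subgroup.index_ker]
    calc _ ≤ Nat.card (Multiplicative (ZMod p)) := Nat.card_le_card_of_injective _ Subtype.val_injective
      _ = p := Nat.card_zmod p
  have h3 : Nat.card ((h.hom t).comp K.subtype).ker = Nat.card (K ⊓ (h.hom t).ker : Subgroup T) := by
    have h4 : (K ⊓ (h.hom t).ker : Subgroup T) = (((h.hom t).comp K.subtype).ker).map K.subtype := by
      ext s
      simp only [Subgroup.mem_inf, Subgroup.mem_map, MonoidHom.mem_ker, MonoidHom.comp_apply]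
      constructor
      · rintro ⟨h5, h6⟩
        exact ⟨⟨s, h5⟩, h6, rfl⟩
      · rintro ⟨s', h5, rfl⟩
        exact ⟨s'.2, h5⟩
    rw [h4, Subgroup.card_map_of_injective K.subtype_injective]
  rw [h3] at h1
  rw [← h1]
  exact Nat.mul_le_mul_right _ h2

end OvA

theorem card_mod_two (hp : p ≠ 2) : Fintype.card (ZMod p) % 2 = 1 := by
  rw [ZMod.card]
  exact (Fact.out : p.Prime).eq_two_or_odd.resolve_left hp

theorem quad_values (hp : p ≠ 2) {a b : ZMod p} (ha : a ≠ 0) (hb : b ≠ 0) (c : ZMod p) :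
    ∃ u v : ZMod p, u ^ 2 * a + v ^ 2 * b = c := by
  obtain ⟨u, v, huv⟩ := FiniteField.exists_root_sum_quadratic (R := ZMod p)
    (f := Polynomial.C a * Polynomial.X ^ 2 + Polynomial.C 0 * Polynomial.X + Polynomial.C (-c))
    (g := Polynomial.C b * Polynomial.X ^ 2 + Polynomial.C 0 * Polynomial.X + Polynomial.C 0)
    (Polynomial.degree_quadratic ha) (Polynomial.degree_quadratic hb) (card_mod_two hp)
  refine ⟨u, v, ?_⟩
  simp only [Polynomial.eval_add, Polynomial.eval_mul, Polynomial.eval_C, Polynomial.eval_pow,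
    Polynomial.eval_X] at huv
  linear_combination huv

namespace OvA

variable (h : OvA ρ G T H x z)

include h

/-- Two orthogonal elements represent every value. -/
theorem exists_value (hp : p ≠ 2) {t₁ t₂ : Γ} (h1 : t₁ ∈ T) (h2 : t₂ ∈ T) (h11 : t₁ ≠ 1) (h21 : t₂ ≠ 1)
    (h12 : ff ρ x z t₁ t₂ = 0) (c : ZMod p) :
    ∃ a b : ℕ, ff ρ x z (t₁ ^ a * t₂ ^ b) (t₁ ^ a * t₂ ^ b) = c := by
  obtain ⟨u, v, huv⟩ := quad_values hp (fun h0 => h11 (h.ff_self hp h1 h0)) (fun h0 => h21 (h.ff_self hp h2 h0)) c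
  refine ⟨u.val, v.val, ?_⟩
  have ha := T.pow_mem h1 u.val
  have hb := T.pow_mem h2 v.val
  have h21' : ff ρ x z t₂ t₁ = 0 := by rw [h.ff_symm h2 h1, h12]
  rw [h.ff_mul_left ha hb (T.mul_mem ha hb), h.ff_mul_right ha hb ha, h.ff_mul_right ha hb hb,
    h.ff_pow_left h1 ha, h.ff_pow_left h1 hb, h.ff_pow_left h2 ha, h.ff_pow_left h2 hb,
    h.ff_pow_right h1 h1, h.ff_pow_right h2 h1, h.ff_pow_right h1 h2, h.ff_pow_right h2 h2, h12, h21',
    ZMod.natCast_zmod_val, ZMod.natCast_zmod_val, ← huv]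
  ring

omit h in
theorem exists_ne_one {Y : Type*} [Group Y] {K : Subgroup Y} [Finite Y] (hK : 1 < Nat.card K) : ∃ t ∈ K, t ≠ 1 := by
  by_contra hcon
  push Not at hcon
  have : K = ⊥ := (Subgroup.eq_bot_iff_forall K).2 hcon
  rw [this, Subgroup.card_bot] at hK
  omega

/-- Part 2. -/
theorem card_T_le [Finite T] (hp : p ≠ 2) : Nat.card T ≤ p ^ 2 := by
  by_contra hlt
  rw [not_le] at hlt
  have hp0 : 0 < p := (Fact.out : p.Prime).pos
  have hp1 : 1 < p := (Fact.out : p.Prime).one_lt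
  have hT : Nat.card (⊤ : Subgroup T) = Nat.card T := Subgroup.card_top
  obtain ⟨t₁, -, h11⟩ := exists_ne_one (K := (⊤ : Subgroup T)) (by rw [hT]; nlinarith)
  have h3 := h.card_le_ker t₁ ⊤
  rw [hT] at h3
  have h4 : p < Nat.card (⊤ ⊓ (h.hom t₁).ker : Subgroup T) := by
    by_contra h5
    rw [not_lt] at h5
    nlinarith
  obtain ⟨t₂, h2k, h21⟩ := exists_ne_one (hp1.trans h4)
  have h5 := h.card_le_ker t₂ (⊤ ⊓ (h.hom t₁).ker)
  have h6 : 1 < Nat.card ((⊤ ⊓ (h.hom t₁).ker) ⊓ (h.hom t₂).ker : Subgroup T) := by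
    by_contra h7
    rw [not_lt] at h7
    nlinarith
  obtain ⟨t₃, h3k, h31⟩ := exists_ne_one h6
  have h12 : ff ρ x z (t₂ : Γ) (t₁ : Γ) = 0 := h.mem_ker_hom.1 (Subgroup.mem_inf.1 h2k).2
  have h13 : ff ρ x z (t₃ : Γ) (t₁ : Γ) = 0 :=
    h.mem_ker_hom.1 (Subgroup.mem_inf.1 (Subgroup.mem_inf.1 h3k).1).2
  have h23 : ff ρ x z (t₃ : Γ) (t₂ : Γ) = 0 := h.mem_ker_hom.1 (Subgroup.mem_inf.1 h3k).2
  have n1 : (t₁ : Γ) ≠ 1 := fun h0 => h11 (Subtype.ext h0)
  have n2 : (t₂ : Γ) ≠ 1 := fun h0 => h21 (Subtype.ext h0)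
  have n3 : (t₃ : Γ) ≠ 1 := fun h0 => h31 (Subtype.ext h0)
  obtain ⟨a, b, hab⟩ := h.exists_value hp t₂.2 t₁.2 n2 n1 h12 (-ff ρ x z (t₃ : Γ) (t₃ : Γ))
  have hm : (t₂ : Γ) ^ a * (t₁ : Γ) ^ b ∈ T := T.mul_mem (T.pow_mem t₂.2 a) (T.pow_mem t₁.2 b)
  have h3m : ff ρ x z (t₃ : Γ) ((t₂ : Γ) ^ a * (t₁ : Γ) ^ b) = 0 := by
    rw [h.ff_mul_right (T.pow_mem t₂.2 a) (T.pow_mem t₁.2 b) t₃.2, h.ff_pow_right t₂.2 t₃.2,
      h.ff_pow_right t₁.2 t₃.2, h13, h23, mul_zero, mul_zero, add_zero]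
  have hm3 : ff ρ x z ((t₂ : Γ) ^ a * (t₁ : Γ) ^ b) (t₃ : Γ) = 0 := by rw [h.ff_symm hm t₃.2, h3m]
  have hone := h.ff_self hp (T.mul_mem hm t₃.2) (by
    rw [h.ff_mul_left hm t₃.2 (T.mul_mem hm t₃.2), h.ff_mul_right hm t₃.2 hm, h.ff_mul_right hm t₃.2 t₃.2,
      hab, h3m, hm3]
    ring)
  have h33 : ff ρ x z (t₃ : Γ) (t₃ : Γ) = 0 := by
    have h8 : ff ρ x z (t₃ : Γ) ((t₂ : Γ) ^ a * (t₁ : Γ) ^ b * (t₃ : Γ)) = 0 := by
      rw [hone, h.ff_symm t₃.2 T.one_mem, h.ff_one_left t₃.2]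
    rwa [h.ff_mul_right hm t₃.2 t₃.2, h3m, zero_add] at h8
  exact n3 (h.ff_self hp t₃.2 h33)

/-- Two orthogonal elements. -/
theorem exists_orth [Finite T] (hT : Nat.card T = p ^ 2) :
    ∃ t₁ ∈ T, ∃ t₂ ∈ T, t₁ ≠ 1 ∧ t₂ ≠ 1 ∧ ff ρ x z t₁ t₂ = 0 := by
  have hp1 : 1 < p := (Fact.out : p.Prime).one_lt
  have hT' : Nat.card (⊤ : Subgroup T) = Nat.card T := Subgroup.card_top
  obtain ⟨t₁, -, h11⟩ := exists_ne_one (K := (⊤ : Subgroup T)) (by rw [hT', hT]; nlinarith)
  have h3 := h.card_le_ker t₁ ⊤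
  rw [hT', hT] at h3
  obtain ⟨t₂, h2k, h21⟩ := exists_ne_one (K := ⊤ ⊓ (h.hom t₁).ker) (by
    by_contra h5
    rw [not_lt] at h5
    nlinarith)
  have h12 : ff ρ x z (t₂ : Γ) (t₁ : Γ) = 0 := h.mem_ker_hom.1 (Subgroup.mem_inf.1 h2k).2
  exact ⟨t₂, t₂.2, t₁, t₁.2, fun h0 => h21 (Subtype.ext h0), fun h0 => h11 (Subtype.ext h0), h12⟩

open Classical in
/-- `J = {0}`. -/
theorem mem_x_add [Finite T] (hp : p ≠ 2) (hT : Nat.card T = p ^ 2) {l : ZMod p}
    (hl : Mem ρ G z (x + l • z)) : l = 0 := by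
  have h2 : (2 : ZMod p) ≠ 0 := by
    intro h0
    have h1 : ((2 : ℕ) : ZMod p) = 0 := by exact_mod_cast h0
    rw [ZMod.natCast_eq_zero_iff] at h1
    have := Nat.le_of_dvd (by norm_num) h1
    have := (Fact.out : p.Prime).two_le
    omega
  obtain ⟨t₁, h1, t₂, h2', h11, h21, h12⟩ := h.exists_orth hT
  have hJ := Cfsg.Agent.H718.QuadCount.quad_count hp
    (Finset.univ.filter fun i : ZMod p => Mem ρ G z (x + i • z))
    (by
      rw [Finset.mem_filter]
      obtain ⟨α, hα, hαx⟩ := h.trans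
      exact ⟨Finset.mem_univ _, α, hα, 1, one_ne_zero, by rw [one_smul, hαx, zero_smul, add_zero]⟩)
    (by
      intro g hg A hA
      obtain ⟨a, b, hab⟩ := h.exists_value hp h1 h2' h11 h21 h12 (-(2 * g))
      set t := t₁ ^ a * t₂ ^ b with ht
      have htT : t ∈ T := T.mul_mem (T.pow_mem h1 a) (T.pow_mem h2' b)
      obtain ⟨w, hw, hx⟩ := h.T_x t htT
      have hspec := h.ff_spec htT htT
      rw [hab, hx, add_sub_cancel_left] at hspec
      have hwz : ∀ c : ZMod p, w + g • z ≠ c • z := by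
        intro c hc
        have hw1 : w = (c - g) • z := by rw [sub_smul, ← hc, add_sub_cancel_right]
        have ht1 : t = 1 := h.T_inj t htT (c - g) (by rw [hx, hw1])
        have h0 : -(2 * g) = 0 := by
          rw [← hab, ht1, h.ff_one_left T.one_mem]
        rw [neg_eq_zero] at h0
        rcases mul_eq_zero.1 h0 with h0 | h0
        · exact h2 h0
        · exact hg h0
      have hset : ∀ j : ZMod p, Mem ρ G z (x + A • z + j • (w + g • z)) ↔
          A + g * j ^ 2 ∈ (Finset.univ.filter fun i : ZMod p => Mem ρ G z (x + i • z)) := by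
        intro j
        rw [h.mem_line h2 htT hx hspec A g j, Finset.mem_filter]
        have : A + g * j - -(2 * g) * (j * (j - 1) / 2) = A + g * j ^ 2 := by
          field_simp
          ring
        rw [this]
        simp
      have hlin : lin ρ G z (x + A • z) (w + g • z) =
          (Finset.univ.filter fun j : ZMod p => A + g * j ^ 2 ∈
            (Finset.univ.filter fun i : ZMod p => Mem ρ G z (x + i • z))).card := by
        unfold lin
        rw [← Set.ncard_coe_finset]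
        congr 1
        ext j
        rw [Set.mem_ofPred_eq, hset j]
        simp
      have hJc : lin ρ G z x z = (Finset.univ.filter fun i : ZMod p => Mem ρ G z (x + i • z)).card := by
        unfold lin
        rw [← Set.ncard_coe_finset]
        congr 1
        ext j
        simp
      rw [← hlin, ← hJc]
      rw [← hlin] at hA
      exact h.claim (H.add_mem hw (H.smul_mem _ h.z_mem)) hwz A hA)
  have : l ∈ (Finset.univ.filter fun i : ZMod p => Mem ρ G z (x + i • z)) := by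
    rw [Finset.mem_filter]
    exact ⟨Finset.mem_univ _, hl⟩
  rw [hJ] at this
  exact Finset.mem_singleton.1 this

/-- Part 3. -/
theorem conj_z [Finite T] (hp : p ≠ 2) (hT : Nat.card T = p ^ 2) {β : Γ} (hβ : β ∈ G)
    (hz : ∀ c : ZMod p, ρ β z ≠ c • z) : ∃ t ∈ T, ∃ i : ZMod p, ρ β z = i • ρ t x := by
  have hH : ρ β z ∉ H := fun hm => by
    obtain ⟨c, hc⟩ := h.hI β hβ hm
    exact hz c hc
  obtain ⟨t, ht, c, l, hc, hcl⟩ := h.exists_trans hH
  have hm : Mem ρ G z (ρ t x + l • z) := by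
    have h1 : Mem ρ G z (ρ β z) := mem_z.map hβ
    rw [hcl] at h1
    exact (mem_smul_iff hc).1 h1
  have h2 : ρ t x + l • z = ρ t (x + l • z) := by rw [map_add, map_smul, h.T_z t ht]
  rw [h2, mem_map_iff (h.T_le ht)] at hm
  have hl := h.mem_x_add hp hT hm
  refine ⟨t, ht, c, ?_⟩
  rw [hcl, hl, zero_smul, add_zero]

end OvA

end Cfsg.Agent.H753
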