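import Cfsg.Agent.H753.OvA

/-!
# The configuration `Ov`: counting (helper753)
-/

set_option autoImplicit false

namespace Cfsg.Agent.H753

variable {p : ℕ} [Fact p.Prime] {W : Type*} [AddCommGroup W] [Module (ZMod p) W] {Γ : Type*} [Group Γ]
  {ρ : Γ →* Module.End (ZMod p) W} {G T : Subgroup Γ} {H : Submodule (ZMod p) W} {x z : W}

/-- A nonzero multiple of a conjugate of `z`. -/
def Mem (ρ : Γ →* Module.End (ZMod p) W) (G : Subgroup Γ) (z v : W) : Prop :=
  ∃ β ∈ G, ∃ c : ZMod p, c ≠ 0 ∧ v = c • ρ β z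

theorem rho_inv (γ : Γ) (v : W) : ρ γ⁻¹ (ρ γ v) = v := by
  rw [← Module.End.mul_apply, ← map_mul, inv_mul_cancel, map_one, Module.End.one_apply]

theorem rho_inv' (γ : Γ) (v : W) : ρ γ (ρ γ⁻¹ v) = v := by
  rw [← Module.End.mul_apply, ← map_mul, mul_inv_cancel, map_one, Module.End.one_apply]

theorem rho_inj (γ : Γ) : Function.Injective (ρ γ) := fun a b h => by
  rw [← rho_inv (ρ := ρ) γ a, h, rho_inv]

theorem Mem.smul {v : W} (h : Mem ρ G z v) {c : ZMod p} (hc : c ≠ 0) : Mem ρ G z (c • v) := by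
  obtain ⟨β, hβ, d, hd, rfl⟩ := h
  exact ⟨β, hβ, c * d, mul_ne_zero hc hd, by rw [smul_smul]⟩

theorem mem_smul_iff {v : W} {c : ZMod p} (hc : c ≠ 0) : Mem ρ G z (c • v) ↔ Mem ρ G z v := by
  refine ⟨fun h => ?_, fun h => h.smul hc⟩
  have := h.smul (inv_ne_zero hc)
  rwa [smul_smul, inv_mul_cancel₀ hc, one_smul] at this

theorem Mem.map {v : W} (h : Mem ρ G z v) {γ : Γ} (hγ : γ ∈ G) : Mem ρ G z (ρ γ v) := by
  obtain ⟨β, hβ, d, hd, rfl⟩ := h
  exact ⟨γ * β, G.mul_mem hγ hβ, d, hd, by rw [map_smul, map_mul, Module.End.mul_apply]⟩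

theorem mem_map_iff {v : W} {γ : Γ} (hγ : γ ∈ G) : Mem ρ G z (ρ γ v) ↔ Mem ρ G z v := by
  refine ⟨fun h => ?_, fun h => h.map hγ⟩
  have := h.map (G.inv_mem hγ)
  rwa [rho_inv] at this

theorem mem_z : Mem ρ G z z := ⟨1, G.one_mem, 1, one_ne_zero, by simp⟩

theorem Mem.ne_zero (hz : z ≠ 0) {v : W} (h : Mem ρ G z v) : v ≠ 0 := by
  obtain ⟨β, hβ, d, hd, rfl⟩ := h
  intro h0
  rw [smul_eq_zero] at h0
  rcases h0 with h0 | h0
  · exact hd h0
  · exact hz (by rw [← rho_inv (ρ := ρ) β z, h0, map_zero])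

/-- The number of members in a subspace. -/
noncomputable def cnt (ρ : Γ →* Module.End (ZMod p) W) (G : Subgroup Γ) (z : W)
    (L : Submodule (ZMod p) W) : ℕ := {u : W | u ∈ L ∧ Mem ρ G z u}.ncard

theorem cnt_map {γ : Γ} (hγ : γ ∈ G) (L : Submodule (ZMod p) W) :
    cnt ρ G z (L.map (ρ γ)) = cnt ρ G z L := by
  unfold cnt
  rw [← Set.ncard_image_of_injective {u : W | u ∈ L ∧ Mem ρ G z u} (rho_inj (ρ := ρ) γ)]
  congr 1
  ext u
  simp only [Set.mem_ofPred_eq, Set.mem_image, Submodule.mem_map]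
  constructor
  · rintro ⟨⟨v, hv, rfl⟩, hm⟩
    exact ⟨v, ⟨hv, (mem_map_iff hγ).1 hm⟩, rfl⟩
  · rintro ⟨v, ⟨hv, hm⟩, rfl⟩
    exact ⟨⟨v, hv, rfl⟩, hm.map hγ⟩

/-- The number of members on the affine line `a + K b`. -/
noncomputable def lin (ρ : Γ →* Module.End (ZMod p) W) (G : Subgroup Γ) (z a b : W) : ℕ :=
  {j : ZMod p | Mem ρ G z (a + j • b)}.ncard

open Classical in
theorem cnt_span (hz : z ≠ 0) {a b : W} (hab : ∀ c d : ZMod p, c • a + d • b = 0 → c = 0 ∧ d = 0) :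
    cnt ρ G z (Submodule.span (ZMod p) {a, b}) =
      (p - 1) * (lin ρ G z a b + if Mem ρ G z b then 1 else 0) := by
  have hU : Nat.card (ZMod p)ˣ = p - 1 := by
    rw [Nat.card_eq_fintype_card, ZMod.card_units]
  have hinj : ∀ c d c' d' : ZMod p, c • a + d • b = c' • a + d' • b → c = c' ∧ d = d' := by
    intro c d c' d' h
    have h1 := hab (c - c') (d - d') (by rw [sub_smul, sub_smul]; rw [← sub_eq_zero] at h; rw [← h]; abel)
    exact ⟨sub_eq_zero.1 h1.1, sub_eq_zero.1 h1.2⟩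
  have hA : {u : W | u ∈ Submodule.span (ZMod p) {a, b} ∧ Mem ρ G z u} =
      ((fun q : (ZMod p)ˣ × ZMod p => (q.1 : ZMod p) • (a + q.2 • b)) ''
        (Set.univ ×ˢ {j : ZMod p | Mem ρ G z (a + j • b)})) ∪
      ((fun q : (ZMod p)ˣ => (q : ZMod p) • b) '' {q | Mem ρ G z b}) := by
    ext u
    simp only [Set.mem_ofPred_eq, Set.mem_union, Set.mem_image, Set.mem_prod, Set.mem_univ, true_and,
      Submodule.mem_span_pair]
    constructor
    · rintro ⟨⟨c, d, rfl⟩, hm⟩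
      by_cases hc : c = 0
      · right
        subst hc
        rw [zero_smul, zero_add] at hm ⊢
        have hd : d ≠ 0 := by
          rintro rfl
          exact hm.ne_zero hz (zero_smul _ _)
        exact ⟨Units.mk0 d hd, (mem_smul_iff hd).1 hm, rfl⟩
      · left
        have h1 : c • a + d • b = c • (a + (c⁻¹ * d) • b) := by
          rw [smul_add, smul_smul, mul_inv_cancel_left₀ hc]
        rw [h1] at hm ⊢
        exact ⟨(Units.mk0 c hc, c⁻¹ * d), (mem_smul_iff hc).1 hm, rfl⟩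
    · rintro (⟨⟨c, j⟩, hj, rfl⟩ | ⟨c, hc, rfl⟩)
      · exact ⟨⟨c, c * j, by rw [smul_add, smul_smul]⟩, hj.smul c.ne_zero⟩
      · exact ⟨⟨0, c, by rw [zero_smul, zero_add]⟩, hc.smul c.ne_zero⟩
  have hdisj : Disjoint ((fun q : (ZMod p)ˣ × ZMod p => (q.1 : ZMod p) • (a + q.2 • b)) ''
        (Set.univ ×ˢ {j : ZMod p | Mem ρ G z (a + j • b)}))
      ((fun q : (ZMod p)ˣ => (q : ZMod p) • b) '' {q | Mem ρ G z b}) := by
    rw [Set.disjoint_left]
    rintro _ ⟨⟨c, j⟩, -, rfl⟩ ⟨d, -, hd⟩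
    have h1 := hinj 0 d c (c * j) (by
      rw [zero_smul, zero_add, ← smul_smul, ← smul_add]; exact hd)
    exact c.ne_zero h1.1.symm
  have hfin1 : (((fun q : (ZMod p)ˣ × ZMod p => (q.1 : ZMod p) • (a + q.2 • b)) ''
        (Set.univ ×ˢ {j : ZMod p | Mem ρ G z (a + j • b)}))).Finite := Set.toFinite _
  have hfin2 : ((fun q : (ZMod p)ˣ => (q : ZMod p) • b) '' {q | Mem ρ G z b}).Finite := Set.toFinite _
  unfold cnt
  rw [hA, Set.ncard_union_eq hdisj hfin1 hfin2, mul_add]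
  congr 1
  · rw [Set.ncard_image_of_injective, Set.ncard_prod, Set.ncard_univ, hU]
    · rfl
    · rintro ⟨c, j⟩ ⟨c', j'⟩ h
      have h1 := hinj c (c * j) c' (c' * j') (by
        rw [← smul_smul, ← smul_smul, ← smul_add, ← smul_add]; exact h)
      have h2 : c = c' := Units.ext h1.1
      subst h2
      have h3 : j = j' := mul_left_cancel₀ c.ne_zero h1.2
      rw [h3]
  · by_cases hb : Mem ρ G z b
    · rw [if_pos hb, mul_one]
      have : {q : (ZMod p)ˣ | Mem ρ G z b} = Set.univ := by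
        ext q; simp [hb]
      rw [this, Set.ncard_image_of_injective, Set.ncard_univ, hU]
      intro c c' h
      have h1 := hinj 0 c 0 c' (by rw [zero_smul, zero_add, zero_add]; exact h)
      exact Units.ext h1.2
    · rw [if_neg hb, mul_zero]
      have : {q : (ZMod p)ˣ | Mem ρ G z b} = ∅ := by
        ext q; simp [hb]
      rw [this, Set.image_empty, Set.ncard_empty]

end Cfsg.Agent.H753
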