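import Cfsg.Agent.H753.OvAniso

/-!
# `ov_aniso` (helper753, for S5177)
-/

set_option autoImplicit false

namespace Cfsg.Agent.H753

open Cfsg.Agent.H764 (Ov)

theorem ov_aniso {p : ℕ} [Fact p.Prime] (hp : p ≠ 2) {V : Type*} [Group V] [Finite V]
    {G T : Subgroup (MulAut V)} {H : Subgroup V} {x z : V} (h : Ov p G T H x z) :
    (∀ t ∈ T, t ≠ 1 → ∀ w : V, t x = x * w → t w ≠ w) ∧ Nat.card T ≤ p ^ 2 ∧
      (Nat.card T = p ^ 2 → ∀ β ∈ G, β z ∉ Subgroup.zpowers z → ∃ t ∈ T, ∃ i : ℤ, β z = (t x) ^ i) := by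
  have hA := ovA h
  have : Finite (MulAut V) := Finite.of_injective (fun f : MulAut V => (f : V → V)) DFunLike.coe_injective
  refine ⟨fun t ht ht1 w hx hw => ?_, hA.card_T_le hp, fun hT β hβ hz => ?_⟩
  · exact hA.aniso hp ht ht1 (w := toVS p h.comm h.exp w) hx hw
  · obtain ⟨t, ht, i, hi⟩ := hA.conj_z hp hT hβ (by
      intro c hc
      apply hz
      rw [arep_apply, smul_toVS', toVS_inj] at hc
      rw [hc]
      exact Subgroup.zpow_mem _ (Subgroup.mem_zpowers z) _)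
    rw [arep_apply, arep_apply, smul_toVS', toVS_inj] at hi
    exact ⟨t, ht, _, hi⟩

end Cfsg.Agent.H753
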