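import Cfsg.Agent.H753.PpdSzRee
import Cfsg.Agent.H203.LSTwE6
import Cfsg.Agent.H203.LSTwD4
import Cfsg.Agent.H203.LSTwF4
import Cfsg.Agent.H743.MeetTits
import Cfsg.Agent.S1066
import Cfsg.Agent.S1067
import Cfsg.Agent.S1068
import Cfsg.Agent.S2128
import Cfsg.Agent.S2129
import Cfsg.Agent.S2130

/-!
# TEAM PPD (S5948): twisted exceptional groups in cross characteristic (helper753, task 2412)

* `kill_of_prime` : all primes dividing `|T|` and `|Out T|` are `≤ B`, `2 B ≤ d + 2`, `d ≤ n`;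
* `row_2e6`, `row_3d4`, `row_2f4`, `row_tits`.
-/

set_option autoImplicit false
set_option linter.unusedSectionVars false
set_option linter.style.haveILetI false

namespace Cfsg.Agent.H753.Ppd

open Cfsg Cfsg.Geo Matrix
open Cfsg.Agent.H915.LD Cfsg.Agent.H100.Ppd

universe u v w

theorem card_aut_dvd (T : Type*) [Group T] [Finite T] : Nat.card (MulAut T) ∣ Nat.card T * Nat.card (Cfsg.Out T) := by
  rw [Subgroup.card_eq_card_quotient_mul_card_subgroup (Inn T), mul_comm]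
  refine mul_dvd_mul_right ?_ _
  have h1 : Nat.card (Inn T) ∣ Nat.card T := by
    have h2 := Subgroup.card_range_dvd (MulAut.conj : T →* MulAut T)
    exact h2
  exact h1

variable {n : ℕ} {F : Type u} [Field F] [Finite F] {k m : ℕ} {P : Subgroup (GL (Fin n) F)}

theorem kill_of_prime {T : Type v} [Group T] (h : Row k m P) (e : Soc P ≃* T) {d B : ℕ} (hd : d ≤ n)
    (hB : ∀ r, r.Prime → r ∣ Nat.card T → r ≤ B) (hO : Nat.card (Cfsg.Out T) ≤ B) (hlt : 2 * B ≤ d + 2) : False := by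
  have hfin : Finite T := Finite.of_equiv _ e.toEquiv
  obtain ⟨r, hr, hrm⟩ := h.num.exists_prime
  have h1 := h.num.le_two_mul hr hrm
  have h2 : r ∣ Nat.card T * Nat.card (Cfsg.Out T) := (hrm.trans (h.dvd_card e)).trans (card_aut_dvd T)
  have h3 : r ≤ B := by
    rcases (Nat.Prime.dvd_mul hr).1 h2 with h3 | h3
    · exact hB r hr h3
    · exact (Nat.le_of_dvd Nat.card_pos h3).trans hO
  omega

theorem dvd_mul_le {r : ℕ} (hr : r.Prime) {a b C : ℕ} (h : r ∣ a * b) (ha : r ∣ a → r ≤ C) (hb : r ∣ b → r ≤ C) :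
    r ≤ C := by
  rcases (Nat.Prime.dvd_mul hr).1 h with h1 | h1
  · exact ha h1
  · exact hb h1

theorem int_le {r : ℕ} (hr : r.Prime) {a C : ℕ} {A B : ℤ} (h : r ∣ a) (hab : (a : ℤ) = A * B) (hA0 : 0 < A)
    (hA : A ≤ C) (hB0 : 0 < B) (hB : B ≤ C) : r ≤ C := by
  have h1 : (r : ℤ) ∣ A * B := by
    rw [← hab]
    exact_mod_cast h
  rcases (Nat.prime_iff_prime_int.1 hr).dvd_or_dvd h1 with h2 | h2
  · have := (Int.le_of_dvd hA0 h2).trans hA
    exact_mod_cast this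
  · have := (Int.le_of_dvd hB0 h2).trans hB
    exact_mod_cast this

/-! ### `³D₄(q)` -/

theorem prime_3d4 {q r : ℕ} (hq : 2 ≤ q) (hr : r.Prime)
    (h : r ∣ q ^ 12 * (q ^ 2 - 1) * (q ^ 6 - 1) * (q ^ 8 + q ^ 4 + 1)) : r ≤ q ^ 4 := by
  have hq' : (2 : ℤ) ≤ q := by exact_mod_cast hq
  have h1 : 1 ≤ q ^ 2 := Nat.one_le_pow _ _ (by omega)
  have h6 : 1 ≤ q ^ 6 := Nat.one_le_pow _ _ (by omega)
  refine dvd_mul_le hr h (fun h => dvd_mul_le hr h (fun h => dvd_mul_le hr h ?_ ?_) ?_) ?_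
  · intro h
    have h2 := Nat.le_of_dvd (by omega) (hr.dvd_of_dvd_pow h)
    exact h2.trans (Nat.le_self_pow (by norm_num) q)
  · intro h
    have h2 := Nat.le_of_dvd (by
      have : 2 * 2 ≤ q ^ 2 := by nlinarith
      omega) h
    have h3 : q ^ 2 ≤ q ^ 4 := Nat.pow_le_pow_right (by omega) (by norm_num)
    omega
  · intro h
    have h3 : q ^ 3 + 1 ≤ q ^ 4 := by
      have : q ^ 4 = q ^ 3 * q := by ring
      have h4 : 1 ≤ q ^ 3 := Nat.one_le_pow _ _ (by omega)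
      nlinarith
    refine int_le hr h (A := (q : ℤ) ^ 3 - 1) (B := (q : ℤ) ^ 3 + 1) (by push_cast [Nat.cast_sub h6]; ring) ?_ ?_ ?_ ?_
    · nlinarith [sq_nonneg (q : ℤ), mul_pos (show (0 : ℤ) < q by omega) (show (0 : ℤ) < q by omega)]
    · have : ((q ^ 3 + 1 : ℕ) : ℤ) ≤ ((q ^ 4 : ℕ) : ℤ) := by exact_mod_cast h3
      push_cast at this ⊢
      omega
    · positivity
    · have : ((q ^ 3 + 1 : ℕ) : ℤ) ≤ ((q ^ 4 : ℕ) : ℤ) := by exact_mod_cast h3
      push_cast at this ⊢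
      omega
  · intro h
    have h4 : q ^ 2 * 4 ≤ q ^ 4 := by
      have : q ^ 4 = q ^ 2 * (q * q) := by ring
      rw [this]
      exact Nat.mul_le_mul_left _ (by nlinarith)
    have h5 : ((q ^ 2 * 4 : ℕ) : ℤ) ≤ ((q ^ 4 : ℕ) : ℤ) := by exact_mod_cast h4
    push_cast at h5
    -- `q^8 + q^4 + 1 = (q^4 - q^2 + 1) (q^4 + q^2 + 1)`, `q^4 + q^2 + 1 = (q^2 + q + 1) (q^2 - q + 1)`
    have h2 : (r : ℤ) ∣ ((q : ℤ) ^ 4 - q ^ 2 + 1) * (((q : ℤ) ^ 2 + q + 1) * ((q : ℤ) ^ 2 - q + 1)) := by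
      have h3 : ((q ^ 8 + q ^ 4 + 1 : ℕ) : ℤ) = ((q : ℤ) ^ 4 - q ^ 2 + 1) * (((q : ℤ) ^ 2 + q + 1) * ((q : ℤ) ^ 2 - q + 1)) := by
        push_cast
        ring
      rw [← h3]
      exact_mod_cast h
    have hpr := Nat.prime_iff_prime_int.1 hr
    have key : ∀ A : ℤ, 0 < A → A ≤ (q : ℤ) ^ 4 → (r : ℤ) ∣ A → r ≤ q ^ 4 := by
      intro A hA0 hA hrA
      have := (Int.le_of_dvd hA0 hrA).trans hA
      exact_mod_cast this
    rcases hpr.dvd_or_dvd h2 with h3 | h3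
    · exact key _ (by nlinarith) (by nlinarith) h3
    · rcases hpr.dvd_or_dvd h3 with h3 | h3
      · exact key _ (by nlinarith) (by nlinarith) h3
      · exact key _ (by nlinarith) (by nlinarith) h3

theorem row_3d4 (h : Row k m P) {K : Type v} [Field K] [Fintype K] {q r : ℕ} [CharP K r] (hr : (r : F) ≠ 0)
    (hq : IsPrimePow q) (hK : Fintype.card K = q ^ 3) (e : Soc P ≃* ↥(Lie.twistedD4 K q)) : False := by
  have hn := h.le_of_ls e hr (H203.LS.TwD4.ls hq hK)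
  obtain ⟨p, f, hp, hf, rfl⟩ := (isPrimePow_nat_iff _).1 hq
  haveI := Fact.mk hp
  have hK' : Fintype.card K = p ^ (3 * f) := by rw [hK, ← pow_mul, mul_comm]
  haveI : CharP K p := H203.LS.charP_of_card hp hK'
  have hO := S2129.result p f hK' hf
  have hq2 : 2 ≤ p ^ f := hq.two_le
  have hf2 : f < p ^ f := Nat.lt_pow_self hp.one_lt
  have hcard := S1067.result hq hK
  by_cases h3 : 3 ≤ p ^ f
  · refine kill_of_prime h e hn (B := (p ^ f) ^ 4) (fun r hr hrd => ?_) ?_ ?_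
    · rw [hcard] at hrd
      exact prime_3d4 hq2 hr hrd
    · rw [hO]
      generalize p ^ f = q at *
      have : q ^ 4 = q * (q * (q * q)) := by ring
      nlinarith [mul_self_nonneg q]
    · generalize p ^ f = q at *
      have : 2 * q ^ 4 ≤ (q - 1) * q ^ 4 := Nat.mul_le_mul_right _ (by omega)
      omega
  · have h4 : p ^ f = 2 := by omega
    have hf1 : f = 1 := by omega
    rw [h4] at hn
    have hk := h.num.nlt
    refine h.kill e (N := 2 ^ 12 * 3 * 63 * 273 * 3) ?_ (r₀ := 13) (by omega) ?_ (by norm_num)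
    · refine (card_aut_dvd _).trans ?_
      have h5 : Nat.card ↥(Lie.twistedD4 K (p ^ f)) = 2 ^ 12 * 3 * 63 * 273 := hcard.trans (by rw [h4]; norm_num)
      rw [hO, h5, hf1]
    · intro r hr hrN _ hrk
      have h5 : r ∣ [2, 3, 7, 13].prod ^ 12 := hrN.trans (by norm_num)
      have h6 := hr.dvd_of_dvd_pow h5
      obtain ⟨x, hx, hrx⟩ := (Prime.dvd_prod_iff hr.prime).1 h6
      have h7 : 10 ≤ r := by omega
      simp only [List.mem_cons, List.not_mem_nil, or_false] at hx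
      rcases hx with rfl | rfl | rfl | rfl
      · have := Nat.le_of_dvd (by norm_num) hrx; omega
      · have := Nat.le_of_dvd (by norm_num) hrx; omega
      · have := Nat.le_of_dvd (by norm_num) hrx; omega
      · exact (Nat.prime_dvd_prime_iff_eq hr (by norm_num)).1 hrx

/-! ### `²E₆(q)` -/

theorem int_dvd {r a : ℕ} {A : ℤ} (h : r ∣ a) (ha : (a : ℤ) = A) : (r : ℤ) ∣ A := by
  rw [← ha]
  exact_mod_cast h

theorem prime_2e6 {q r : ℕ} (hq : 2 ≤ q) (hr : r.Prime)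
    (h : r ∣ q ^ 36 * (q ^ 2 - 1) * (q ^ 5 + 1) * (q ^ 6 - 1) * (q ^ 8 - 1) * (q ^ 9 + 1) * (q ^ 12 - 1)) :
    r ≤ q ^ 6 := by
  have hq' : (2 : ℤ) ≤ q := by exact_mod_cast hq
  have h1 : 1 ≤ q ^ 2 := Nat.one_le_pow _ _ (by omega)
  have h6 : 1 ≤ q ^ 6 := Nat.one_le_pow _ _ (by omega)
  have h8 : 1 ≤ q ^ 8 := Nat.one_le_pow _ _ (by omega)
  have h12 : 1 ≤ q ^ 12 := Nat.one_le_pow _ _ (by omega)
  have hpr := Nat.prime_iff_prime_int.1 hr
  obtain ⟨x, hx⟩ : ∃ x : ℤ, x = (q : ℤ) ^ 2 := ⟨_, rfl⟩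
  obtain ⟨y, hy⟩ : ∃ y : ℤ, y = (q : ℤ) ^ 3 := ⟨_, rfl⟩
  have hx4 : 4 ≤ x := by nlinarith
  have hyx : 2 * x ≤ y := by rw [hy, hx]; nlinarith
  have e6 : ((q ^ 6 : ℕ) : ℤ) = y * y := by push_cast; rw [hy]; ring
  have hxx : 4 * x ≤ x * x := by nlinarith
  have hyy : 4 * (x * x) ≤ y * y := by nlinarith
  have key : ∀ A : ℤ, 0 < A → A ≤ y * y → (r : ℤ) ∣ A → r ≤ q ^ 6 := by
    intro A hA0 hA hrA
    have := (Int.le_of_dvd hA0 hrA).trans hA
    rw [← e6] at this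
    exact_mod_cast this
  have k6 : r ∣ q ^ 6 - 1 → r ≤ q ^ 6 := by
    intro h
    have h2 : (r : ℤ) ∣ (y - 1) * (y + 1) := int_dvd h (by push_cast [Nat.cast_sub h6]; rw [hy]; ring)
    rcases hpr.dvd_or_dvd h2 with h3 | h3
    · exact key _ (by nlinarith) (by nlinarith) h3
    · exact key _ (by nlinarith) (by nlinarith) h3
  refine dvd_mul_le hr h (fun h => dvd_mul_le hr h (fun h => dvd_mul_le hr h (fun h => dvd_mul_le hr h
    (fun h => dvd_mul_le hr h (fun h => dvd_mul_le hr h ?_ ?_) ?_) ?_) ?_) ?_) ?_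
  · intro h
    have h2 := Nat.le_of_dvd (by omega) (hr.dvd_of_dvd_pow h)
    exact h2.trans (Nat.le_self_pow (by norm_num) q)
  · intro h
    exact key (x - 1) (by nlinarith) (by nlinarith) (int_dvd h (by push_cast [Nat.cast_sub h1]; rw [hx]))
  · intro h
    refine key (x * y + 1) (by nlinarith) ?_ (int_dvd h (by push_cast; rw [hx, hy]; ring))
    nlinarith
  · exact k6
  · intro h
    have h2 : (r : ℤ) ∣ (x * x - 1) * (x * x + 1) := int_dvd h (by push_cast [Nat.cast_sub h8]; rw [hx]; ring)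
    rcases hpr.dvd_or_dvd h2 with h3 | h3
    · exact key _ (by nlinarith) (by nlinarith) h3
    · exact key _ (by nlinarith) (by nlinarith) h3
  · intro h
    have h2 : (r : ℤ) ∣ (y + 1) * (y * y - y + 1) := int_dvd h (by push_cast; rw [hy]; ring)
    rcases hpr.dvd_or_dvd h2 with h3 | h3
    · exact key _ (by nlinarith) (by nlinarith) h3
    · exact key _ (by nlinarith) (by nlinarith) h3
  · intro h
    have h2 : (r : ℤ) ∣ ((y - 1) * (y + 1)) * ((x + 1) * (x * x - x + 1)) :=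
      int_dvd h (by
        push_cast [Nat.cast_sub h12]
        have e1 : (x + 1) * (x * x - x + 1) = y * y + 1 := by rw [hx, hy]; ring
        rw [e1, hy]; ring)
    rcases hpr.dvd_or_dvd h2 with h3 | h3
    · rcases hpr.dvd_or_dvd h3 with h3 | h3
      · exact key _ (by nlinarith) (by nlinarith) h3
      · exact key _ (by nlinarith) (by nlinarith) h3
    · rcases hpr.dvd_or_dvd h3 with h3 | h3
      · exact key _ (by nlinarith) (by nlinarith) h3
      · exact key _ (by nlinarith) (by nlinarith) h3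

theorem row_2e6 (h : Row k m P) {K : Type v} [Field K] [Fintype K] {q r : ℕ} [CharP K r] (hr : (r : F) ≠ 0)
    (hq : IsPrimePow q) (hK : Fintype.card K = q ^ 2) (e : Soc P ≃* ↥(Lie.twistedE6 K q)) : False := by
  have hn := h.le_of_ls e hr (H203.LS.TwE6.ls hq hK)
  obtain ⟨p, f, hp, hf, rfl⟩ := (isPrimePow_nat_iff _).1 hq
  haveI := Fact.mk hp
  have hK' : Fintype.card K = p ^ (2 * f) := by rw [hK, ← pow_mul, mul_comm]
  haveI : CharP K p := H203.LS.charP_of_card hp hK'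
  have hO := S2130.result p f hK' hf
  have hq2 : 2 ≤ p ^ f := hq.two_le
  have hf2 : f < p ^ f := Nat.lt_pow_self hp.one_lt
  have hcard := S1066.result hq hK
  have hg : Nat.gcd 3 (p ^ f + 1) ≤ 3 := Nat.gcd_le_left _ (by norm_num)
  by_cases h3 : 3 ≤ p ^ f
  · refine kill_of_prime h e hn (B := (p ^ f) ^ 6) (fun r hr hrd => ?_) ?_ ?_
    · exact prime_2e6 hq2 hr (by rw [← hcard]; exact hrd.mul_left _)
    · rw [hO]
      have h5 : 2 * Nat.gcd 3 (p ^ f + 1) * f ≤ 2 * 3 * f := Nat.mul_le_mul_right _ (Nat.mul_le_mul_left _ hg)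
      refine h5.trans ?_
      generalize p ^ f = q at *
      have h7 : q ^ 2 ≤ q ^ 6 := Nat.pow_le_pow_right (by omega) (by norm_num)
      have h8 : q ^ 6 = q ^ 2 * (q ^ 2 * q ^ 2) := by ring
      nlinarith [Nat.mul_le_mul h3 h3]
    · generalize p ^ f = q at *
      have : 2 * q ^ 6 ≤ (q - 1) * q ^ 6 := Nat.mul_le_mul_right _ (by omega)
      omega
  · have h4 : p ^ f = 2 := by omega
    have hf1 : f = 1 := by omega
    rw [h4] at hn
    refine kill_of_prime h e (d := 64) (hn.trans' (by norm_num)) (B := 33) (fun r hr hrd => ?_) ?_ (by norm_num)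
    · have h5 : r ∣ [2, 3, 5, 7, 11, 13, 17, 19].prod ^ 36 := by
        refine (show r ∣ Nat.gcd 3 (p ^ f + 1) * Nat.card ↥(Lie.twistedE6 K (p ^ f)) from hrd.mul_left _).trans ?_
        rw [hcard, h4]
        norm_num
      have h6 := hr.dvd_of_dvd_pow h5
      obtain ⟨x, hx, hrx⟩ := (Prime.dvd_prod_iff hr.prime).1 h6
      simp only [List.mem_cons, List.not_mem_nil, or_false] at hx
      rcases hx with rfl | rfl | rfl | rfl | rfl | rfl | rfl | rfl <;>
        (have := Nat.le_of_dvd (by norm_num) hrx; omega)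
    · rw [hO]
      have h9 : 2 * Nat.gcd 3 (p ^ f + 1) * f ≤ 2 * 3 * f := Nat.mul_le_mul_right _ (Nat.mul_le_mul_left _ hg)
      omega

/-! ### `²F₄(q)` -/

theorem prime_2f4 {x r : ℕ} (hx : 2 ≤ x) (hr : r.Prime)
    (h : r ∣ (2 * (x * x)) ^ 12 * (2 * (x * x) - 1) * ((2 * (x * x)) ^ 3 + 1) * ((2 * (x * x)) ^ 4 - 1) *
      ((2 * (x * x)) ^ 6 + 1)) : r ≤ 2 * (2 * (x * x)) ^ 2 := by
  have hx' : (2 : ℤ) ≤ x := by exact_mod_cast hx
  obtain ⟨q, hq⟩ : ∃ q, q = 2 * (x * x) := ⟨_, rfl⟩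
  rw [← hq] at h ⊢
  have hqx : (q : ℤ) = 2 * (x * x) := by rw [hq]; push_cast; ring
  have hqx2 : (4 : ℤ) * x ≤ q := by rw [hqx]; nlinarith
  have hq8 : (8 : ℤ) ≤ q := by nlinarith
  have hq8' : 8 ≤ q := by exact_mod_cast hq8
  have h4 : 1 ≤ q ^ 4 := Nat.one_le_pow _ _ (by omega)
  have hqq : (8 : ℤ) * q ≤ q * q := by nlinarith
  have hpr := Nat.prime_iff_prime_int.1 hr
  have key : ∀ A : ℤ, 0 < A → A ≤ 2 * (q * q) → (r : ℤ) ∣ A → r ≤ 2 * q ^ 2 := by
    intro A hA0 hA hrA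
    have := (Int.le_of_dvd hA0 hrA).trans hA
    have e1 : ((2 * q ^ 2 : ℕ) : ℤ) = 2 * (q * q) := by push_cast; ring
    rw [← e1] at this
    exact_mod_cast this
  refine dvd_mul_le hr h (fun h => dvd_mul_le hr h (fun h => dvd_mul_le hr h (fun h => dvd_mul_le hr h ?_ ?_) ?_) ?_) ?_
  · intro h
    exact key q (by omega) (by nlinarith) (int_dvd (hr.dvd_of_dvd_pow h) rfl)
  · intro h
    exact key (q - 1) (by omega) (by nlinarith) (int_dvd h (by rw [Nat.cast_sub (by omega)]; rfl))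
  · intro h
    have h2 : (r : ℤ) ∣ ((q : ℤ) + 1) * (q * q - q + 1) := int_dvd h (by push_cast; ring)
    rcases hpr.dvd_or_dvd h2 with h3 | h3
    · exact key _ (by omega) (by nlinarith) h3
    · exact key _ (by nlinarith) (by nlinarith) h3
  · intro h
    have h2 : (r : ℤ) ∣ ((q : ℤ) * q - 1) * (q * q + 1) := int_dvd h (by push_cast [Nat.cast_sub h4]; ring)
    rcases hpr.dvd_or_dvd h2 with h3 | h3
    · exact key _ (by nlinarith) (by nlinarith) h3
    · exact key _ (by nlinarith) (by nlinarith) h3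
  · intro h
    have h2 : (r : ℤ) ∣ ((q : ℤ) * q + 1) * ((q * q - 2 * x * q + q - 2 * x + 1) * (q * q + 2 * x * q + q + 2 * x + 1)) :=
      int_dvd h (by
        push_cast
        rw [hqx]
        ring)
    have hxq : (x : ℤ) * 4 * q ≤ q * q := by nlinarith
    rcases hpr.dvd_or_dvd h2 with h3 | h3
    · exact key _ (by nlinarith) (by nlinarith) h3
    · rcases hpr.dvd_or_dvd h3 with h3 | h3
      · exact key _ (by nlinarith) (by nlinarith) h3
      · exact key _ (by nlinarith) (by nlinarith) h3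

theorem row_2f4 (h : Row k m P) (h2 : (2 : F) ≠ 0) (hT : Lie.Iso2F4 (Soc P)) : False := by
  obtain ⟨K, _, _, a, ha, hK, ⟨e⟩⟩ := hT
  have hn := h.le_of_ls (r := 2) e (by exact_mod_cast h2) (H203.LS.TwF4.ls ha hK)
  rw [Nat.card_eq_fintype_card, hK] at hn
  have hO := S2128.result ha hK
  have hcard := S1068.result (K := K) hK
  have e1 : 2 ^ (2 * a + 1) = 2 * (2 ^ a * 2 ^ a) := by ring
  have e3 : 2 ≤ 2 ^ a := by
    calc 2 = 2 ^ 1 := rfl
      _ ≤ 2 ^ a := Nat.pow_le_pow_right (by norm_num) ha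
  have e4 : a < 2 ^ a := Nat.lt_two_pow_self
  rw [e1] at hn hcard
  refine kill_of_prime h e hn (B := 2 * (2 * (2 ^ a * 2 ^ a)) ^ 2) (fun r hr hrd => ?_) ?_ ?_
  · rw [hcard] at hrd
    exact prime_2f4 e3 hr hrd
  · rw [hO]
    have h5 : 1 ≤ 2 ^ a * (2 ^ a * (2 ^ a)) := Nat.pos_of_ne_zero (by positivity)
    nlinarith
  · generalize 2 ^ a = x at *
    have h5 : 2 * 2 ≤ x * x := Nat.mul_le_mul e3 e3
    have : 4 * (2 * (x * x)) ^ 2 ≤ (2 * (x * x) - 1) * (2 * (x * x)) ^ 2 := Nat.mul_le_mul_right _ (by omega)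
    omega

/-! ### the Tits group -/

theorem tits_aux {T : Type v} [Group T] (h : Row k m P) (e : Soc P ≃* T)
    (hc : Nat.card T = 2 ^ 11 * 3 ^ 3 * 5 ^ 2 * 13) (hO : Nat.card (Cfsg.Out T) ≤ 2) : False := by
  have hfin : Finite T := Finite.of_equiv _ e.toEquiv
  have h6 := h.num.six_le
  have hO2 : Nat.card (Cfsg.Out T) ∣ 2 := by
    have h0 : 0 < Nat.card (Cfsg.Out T) := Nat.card_pos
    generalize Nat.card (Cfsg.Out T) = c at *
    have h7 : c = 1 ∨ c = 2 := by omega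
    rcases h7 with rfl | rfl <;> norm_num
  refine h.kill e (N := 2 ^ 11 * 3 ^ 3 * 5 ^ 2 * 13 * 2) ?_ (r₀ := 13) (by omega) ?_ (by norm_num)
  · refine (card_aut_dvd _).trans ?_
    rw [hc]
    exact Nat.mul_dvd_mul_left _ hO2
  · intro r hr hrN _ hrk
    have h5 : r ∣ [2, 3, 5, 13].prod ^ 12 := hrN.trans (by norm_num)
    have h6 := hr.dvd_of_dvd_pow h5
    obtain ⟨x, hx, hrx⟩ := (Prime.dvd_prod_iff hr.prime).1 h6
    simp only [List.mem_cons, List.not_mem_nil, or_false] at hx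
    rcases hx with rfl | rfl | rfl | rfl
    · have := Nat.le_of_dvd (by norm_num) hrx; omega
    · have := Nat.le_of_dvd (by norm_num) hrx; omega
    · have := Nat.le_of_dvd (by norm_num) hrx; omega
    · exact (Nat.prime_dvd_prime_iff_eq hr (by norm_num)).1 hrx

theorem row_tits (h : Row k m P) (hT : Lie.IsoTits (Soc P)) : False := by
  have hcard := OddRank.SzTits.tits_card hT
  obtain ⟨e⟩ := H743.MeetTits.exists_tits_TT hT
  have h1 : Nat.card ↥Cfsg.Agent.TitsK.TT = 2 ^ 11 * 3 ^ 3 * 5 ^ 2 * 13 := by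
    rw [← hcard]
    exact (Nat.card_congr e.toEquiv).symm
  have h2 := tits_aux (T := ↥Cfsg.Agent.TitsK.TT) h e
  exact h2 h1 H743.MeetTits.card_out_TT

end Cfsg.Agent.H753.Ppd
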