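import Cfsg.Agent.H100.Ppd.Basic
import Cfsg.Agent.H203.LSSz
import Cfsg.Agent.H381.SzSpec
import Cfsg.Agent.S1159
import Cfsg.Agent.S2126
import Cfsg.Agent.S2127

/-!
# TEAM PPD (S5948): Suzuki and Ree groups in cross characteristic (helper753, task 2413)

* `Num.three_le` : `3 k + 1 ≤ m`;
* `row_sz`, `row_ree`.
-/

set_option autoImplicit false
set_option linter.unusedSectionVars false

namespace Cfsg.Agent.H753.Ppd

open Cfsg Cfsg.Geo Matrix
open Cfsg.Agent.H915.LD Cfsg.Agent.H100.Ppd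

universe u v w

/-- every prime divisor of `m` is `≡ 1 mod k` and `m > 2 k + 1` -/
theorem three_le {q n k m : ℕ} (h : Num q n k m) : 3 * k + 1 ≤ m := by
  obtain ⟨r, hr, hrm⟩ := h.exists_prime
  have h1 := h.succ_le hr hrm
  have h6 := h.six_le
  have hm := h.mlt
  obtain ⟨c, hc⟩ := hrm
  have hc0 : c ≠ 0 := by
    rintro rfl
    omega
  by_cases hc1 : c = 1
  · subst hc1
    rw [mul_one] at hc
    obtain ⟨j, hj⟩ := h.dvd_sub_one hr (by rw [hc])
    have hj3 : 3 ≤ j := by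
      by_contra hcon
      have h7 : k * j ≤ k * 2 := Nat.mul_le_mul_left _ (by omega)
      omega
    have h7 : k * 3 ≤ k * j := Nat.mul_le_mul_left _ hj3
    have h8 := hr.one_lt
    omega
  · obtain ⟨s, hs, hsc⟩ := Nat.exists_prime_and_dvd hc1
    have h7 := h.seven_le hs (by rw [hc]; exact hsc.mul_left _)
    have h8 := Nat.le_of_dvd (Nat.pos_of_ne_zero hc0) hsc
    have h9 : r * 3 ≤ r * c := Nat.mul_le_mul_left _ (by omega)
    omega

/-- `m` is prime to all numbers `< k + 1` -/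
theorem coprime_of_le {q n k m : ℕ} (h : Num q n k m) {d : ℕ} (hd0 : d ≠ 0) (hd : d ≤ k) : Nat.Coprime m d := by
  rw [Nat.coprime_iff_gcd_eq_one]
  by_contra hne
  obtain ⟨r, hr, hrd⟩ := Nat.exists_prime_and_dvd hne
  have h1 := h.succ_le hr (hrd.trans (Nat.gcd_dvd_left _ _))
  have h2 := Nat.le_of_dvd (Nat.pos_of_ne_zero hd0) (hrd.trans (Nat.gcd_dvd_right _ _))
  omega

variable {n : ℕ} {F : Type u} [Field F] [Finite F] {k m : ℕ} {P : Subgroup (GL (Fin n) F)}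

/-- **Suzuki groups** -/
theorem row_sz (h : Row k m P) (h2 : (2 : F) ≠ 0) (hT : Lie.IsoSuzuki (Soc P)) : False := by
  obtain ⟨K, _, _, a, ha, hK, ⟨e⟩⟩ := hT
  have hn := h.le_of_ls (r := 2) e (by exact_mod_cast h2) (H203.LS.LS.sz ha hK)
  rw [Nat.card_eq_fintype_card, hK] at hn
  have hk := h.num.nlt
  have h6 := h.num.six_le
  have h3 := three_le h.num
  have e1 : 2 ^ (2 * a + 1) = 2 * (2 ^ a * 2 ^ a) := by ring
  have e2 : 2 ^ (a + 1) = 2 * 2 ^ a := by ring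
  have e3 : 2 ≤ 2 ^ a := by
    calc 2 = 2 ^ 1 := rfl
      _ ≤ 2 ^ a := Nat.pow_le_pow_right (by norm_num) ha
  have e4 : a < 2 ^ a := Nat.lt_two_pow_self
  have e5 : 2 * 2 ^ a ≤ 2 ^ a * 2 ^ a := Nat.mul_le_mul_right _ e3
  have hcop : m.Coprime (Nat.card (Cfsg.Out ↥(Cfsg.Lie.Sz K (2 ^ (a + 1))))) := by
    rw [S2126.result ha hK]
    exact coprime_of_le h.num (by omega) (by omega)
  obtain ⟨y, hy⟩ := h.exists_elt e hcop
  have hle : m ≤ 2 ^ (2 * a + 1) + 2 ^ (a + 1) + 1 := by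
    rcases H381.SzSpec.spec ha hK y with h1 | ⟨N, hN, h1⟩
    · rw [hy] at h1
      have := Nat.le_of_dvd (by norm_num) h1
      omega
    · rw [hy] at h1
      rcases (H98.SzPartition.mem_torusOrders_iff a N).1 hN with rfl | rfl | rfl
      · have := Nat.le_of_dvd (by omega) h1
        omega
      · exact Nat.le_of_dvd (by omega) h1
      · have := Nat.le_of_dvd (by omega) h1
        omega
  rw [e1, e2] at hle
  rw [e1] at hn
  obtain ⟨x, hx⟩ : ∃ x, x = 2 ^ a := ⟨_, rfl⟩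
  rw [← hx] at hle hn e3 e5
  have h7 : x * x ≤ 2 * x := by omega
  have h8 : x ≤ 2 := by nlinarith
  have h9 : x = 2 := by omega
  subst h9
  omega

/-- **Ree groups** -/
theorem row_ree (h : Row k m P) (h3 : (3 : F) ≠ 0) (hT : Lie.IsoRee (Soc P)) : False := by
  obtain ⟨K, _, _, a, ha, hK, ⟨e⟩⟩ := hT
  have hn := h.le_of_ls (r := 3) e (by exact_mod_cast h3) (H203.LS.LS.ree ha hK)
  rw [Nat.card_eq_fintype_card, hK] at hn
  have hk := h.num.nlt
  have h6 := h.num.six_le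
  have h3 := three_le h.num
  have e1 : 3 ^ (2 * a + 1) = 3 * (3 ^ a * 3 ^ a) := by ring
  have e2 : 3 ^ (a + 1) = 3 * 3 ^ a := by ring
  have e3 : 3 ≤ 3 ^ a := by
    calc 3 = 3 ^ 1 := rfl
      _ ≤ 3 ^ a := Nat.pow_le_pow_right (by norm_num) ha
  have e4 : a < 3 ^ a := Nat.lt_pow_self (by norm_num)
  have e5 : 3 * 3 ^ a ≤ 3 ^ a * 3 ^ a := Nat.mul_le_mul_right _ e3
  have hcop : m.Coprime (Nat.card (Cfsg.Out ↥(Cfsg.Lie.twistedG2 K (3 ^ a)))) := by
    rw [S2127.result ha hK]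
    exact coprime_of_le h.num (by omega) (by omega)
  obtain ⟨y, hy⟩ := h.exists_elt e hcop
  have hle : m ≤ 3 ^ (2 * a + 1) + 3 ^ (a + 1) + 1 := by
    rcases (S1159.result ha hK m).1 ⟨y, hy⟩ with h1 | h1 | h1 | h1 | h1 | h1
    · have := Nat.le_of_dvd (by norm_num) h1
      omega
    · have := Nat.le_of_dvd (by norm_num) h1
      omega
    · have := Nat.le_of_dvd (by omega) h1
      omega
    · have := Nat.le_of_dvd (by omega) h1
      omega
    · have := Nat.le_of_dvd (by omega) h1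
      omega
    · exact Nat.le_of_dvd (by omega) h1
  rw [e1, e2] at hle
  rw [e1] at hn
  obtain ⟨x, hx⟩ : ∃ x, x = 3 ^ a := ⟨_, rfl⟩
  rw [← hx] at hle hn e3 e5
  omega

end Cfsg.Agent.H753.Ppd
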