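import Cfsg.Agent.H771.FunctorQd
import Cfsg.Agent.H782.QdIff
import Cfsg.Agent.H40.ZJFunctor
import Cfsg.Agent.H40.QdTwo
import Cfsg.Agent.TwoFusion.S4FreeFunctor
import Cfsg.Agent.S0664
import Cfsg.Agent.S0665

/-!
# Saturated systems without natural sections have a nontrivial normal subgroup
-/

set_option autoImplicit false
universe u
open Cfsg Cfsg.FusionSystem
open Cfsg.Agent.H782.QdFus

namespace Cfsg.Agent.H753

/-- A nontrivial characteristic functor whose value at a Sylow `p`-subgroup is normal in every `Qd(p)`-free group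
of characteristic `p`. -/
theorem exists_qd_functor (p : ℕ) [Fact p.Prime] : ∃ W : ∀ (Q : Type u) [Group Q], Subgroup Q,
    (∀ (Q : Type u) [Group Q] [Finite Q], IsPGroup p Q → Nontrivial Q → W Q ≠ ⊥) ∧
    (∀ (Q R : Type u) [Group Q] [Group R] [Finite Q], IsPGroup p Q → ∀ φ : Q ≃* R,
      (W Q).map φ.toMonoidHom = W R) ∧
    (∀ (L : Type u) [Group L] [Finite L] (P : Sylow p L),
      Subgroup.centralizer ((Cfsg.pCore p L : Subgroup L) : Set L) ≤ Cfsg.pCore p L →
      ¬ Cfsg.Involves ↥(Cfsg.qd p) L →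
      (((W ↥(P : Subgroup L)).map (P : Subgroup L).subtype : Subgroup L)).Normal) := by
  by_cases hp : p = 2
  · subst hp
    refine ⟨fun Q _ => TwoFusion.S4FreeFunctor.WS Q, ?_, ?_, ?_⟩
    · intro Q _ _ hQ hnt
      obtain ⟨W, h1, h2, h3⟩ := Cfsg.Agent.S0665.result hQ
      intro h
      apply h1
      rw [eq_bot_iff]
      calc W ≤ TwoFusion.S4FreeFunctor.WS Q := le_sSup ⟨h2, h3⟩
        _ = ⊥ := h
    · intro Q R _ _ _ _ φ
      exact TwoFusion.S4FreeFunctor.map_WS φ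
    · intro L _ _ P hc hi
      refine (TwoFusion.S4FreeFunctor.good_WS (P : Subgroup L)).2 L (P : Subgroup L).subtype
        (P : Subgroup L).subtype_injective ⟨P, (Subgroup.range_subtype _).symm⟩ ?_ hc
      rintro ⟨K, R, hR, ⟨e⟩⟩
      obtain ⟨e'⟩ := Cfsg.Agent.H40.QdTwo.qd_two
      exact hi ⟨K, R, hR, ⟨e.trans e'.symm⟩⟩
  · refine ⟨fun Q _ => Cfsg.Agent.H40.ZJFunctor.zj Q, ?_, ?_, ?_⟩
    · intro Q _ _ hQ hnt
      exact (Cfsg.Agent.H40.ZJFunctor.isCharPFunctor_zj p).1 Q hQ hnt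
    · intro Q R _ _ _ hQ φ
      exact (Cfsg.Agent.H40.ZJFunctor.isCharPFunctor_zj p).2 Q R hQ φ
    · intro L _ _ P hc hi
      have h1 := Cfsg.Agent.S0664.result hp hi hc P
      rw [← Cfsg.Agent.H40.ZJFunctor.induced_zj] at h1
      exact h1

/-- **A saturated system over a nontrivial finite `p`-group without natural sections (that is, `Qd(p)`-free) has a
nontrivial normal subgroup.** -/
theorem exists_isNormal_of_not_hasNat {Ω : Type u} [Group Ω] {S : Subgroup Ω} [Finite S] {p : ℕ}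
    [Fact p.Prime] (hS : IsPGroup p S) (hS1 : S ≠ ⊥) (F : FusionSystem S) (hF : F.IsSaturated p)
    (hnat : ¬ HasNat p F) : ∃ W : Subgroup Ω, W ≠ ⊥ ∧ F.IsNormal W := by
  obtain ⟨W, hW1, hW2, hW3⟩ := exists_qd_functor.{u} p
  have hn := Cfsg.Agent.H771.functor_isNormal W hW1 hW2 hW3 hS F hF hnat
  have hnt : Nontrivial S := (Subgroup.nontrivial_iff_ne_bot S).2 hS1
  refine ⟨(W S).map S.subtype, ?_, hn⟩
  intro h
  rw [Subgroup.map_eq_bot_iff_of_injective _ S.subtype_injective] at h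
  exact hW1 S hS hnt h

end Cfsg.Agent.H753
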