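import Cfsg.Agent.H81.SaxSpFin
import Cfsg.Agent.H264.FKS.TwoRows

/-!
# SAX-SP8R (A): subgroups of `PSp_2n(q)`, `q` even, with cyclic Sylow `r`-subgroups miss an automorphism class

`q` has order `n` modulo `r`, `n` even; there are elements of order `r` with fixed spaces of different dimensions, and
these dimensions are invariant under automorphisms.
-/

set_option autoImplicit false

namespace Cfsg.Agent.H753.SaxR

open Cfsg Cfsg.Geo Module Cfsg.Agent.H396 Cfsg.Agent.H436 Cfsg.Agent.H915.GN Cfsg.Agent.H264.GN Cfsg.Agent.H264.FKS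
open Cfsg.Agent.H200.LinFix
open Cfsg.Agent.ClassicalGeometry.SympBasic Cfsg.Agent.H876 Cfsg.Agent.H931 Cfsg.Agent.H262.El
open Cfsg.Agent.H198.SemiMat Cfsg.Agent.H198.SympGamma
open scoped Matrix MatrixGroups

section

variable {F : Type} [Field F] [Fintype F] {ι : Type} [Fintype ι] [DecidableEq ι]

/-- semilinear conjugation preserves the number of fixed vectors -/
theorem card_fix_semi {A B C : GL ι F} {σ : F ≃+* F}
    (h : C = B * Matrix.GeneralLinearGroup.map (σ : F →+* F) A * B⁻¹) :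
    Nat.card {v : ι → F // (A : Matrix ι ι F) *ᵥ v = v} = Nat.card {v : ι → F // (C : Matrix ι ι F) *ᵥ v = v} := by
  have hinj : Function.Injective fun v : ι → F => (B : Matrix ι ι F) *ᵥ fun i => σ (v i) := by
    intro v w hvw
    have h1 := congrArg (fun u => ((B⁻¹ : GL ι F) : Matrix ι ι F) *ᵥ u) hvw
    simp only [Matrix.mulVec_mulVec] at h1
    rw [← Units.val_mul, inv_mul_cancel, Units.val_one, Matrix.one_mulVec, Matrix.one_mulVec] at h1
    funext i
    exact σ.injective (congrFun h1 i)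
  have h1 : (C : Matrix ι ι F) = (B : Matrix ι ι F) * (A : Matrix ι ι F).map σ * ((B⁻¹ : GL ι F) : Matrix ι ι F) := by
    rw [h]
    rfl
  have h2 := fun v => conj_mulVec h1 v
  refine Nat.card_congr (Equiv.subtypeEquiv (Equiv.ofBijective _ (Finite.injective_iff_bijective.1 hinj)) fun v => ?_)
  simp only [Equiv.ofBijective_apply]
  rw [h2]
  constructor
  · intro h3
    rw [h3]
  · intro h3
    exact hinj h3

theorem finrank_K_semi {X : Type} [Group X] [Finite X] (ρ : X →* GL ι F) {a c : X} {B : GL ι F} {σ : F ≃+* F}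
    (h : ρ c = B * Matrix.GeneralLinearGroup.map (σ : F →+* F) (ρ a) * B⁻¹) :
    finrank F (K (lin ρ a)) = finrank F (K (lin ρ c)) := by
  have key : ∀ x : X, Nat.card {v : ι → F // (ρ x : Matrix ι ι F) *ᵥ v = v} =
      Nat.card F ^ finrank F (K (lin ρ x)) := by
    intro x
    rw [← Module.natCard_eq_pow_finrank (K := F) (V := K (lin ρ x))]
    refine Nat.card_congr (Equiv.subtypeEquivRight fun v => ?_)
    rw [mem_K, lin_apply]
  have h1 := card_fix_semi h
  rw [key, key] at h1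
  exact Nat.pow_right_injective (Finite.one_lt_card (α := F)) h1

end

variable {F : Type} [Field F] [Fintype F] {n r : ℕ}

/-- **Subgroups of `PSp_2n(q)` with cyclic Sylow `r`-subgroups miss an automorphism class**, `q` even. -/
theorem miss_of_cyc' (hF : ¬ Odd (Fintype.card F)) (hr : Prim (Nat.card F) n r) (hn : 3 ≤ n) (he : n % 2 = 0)
    {R : Subgroup (PSp n F)} (hR : Cyc r R) : Der (PSp n F) R := by
  by_contra hcon
  have : Fact r.Prime := ⟨hr.prime⟩
  have hq : 2 ≤ Nat.card F := Finite.one_lt_card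
  obtain ⟨b, hb, hb'⟩ := exists_pow (D := 1) (c := Nat.card (Matrix.symplecticGroup (Fin n) F)) hr (by omega) hq
    (fun h => hr.prime.one_lt.ne' (Nat.dvd_one.1 h)) (by rw [one_mul]) (by
      rw [S0245.result (F := F) rfl n, ← Nat.card_eq_fintype_card]
      refine Dvd.dvd.mul_left ?_ _
      have := prod_dvd (q := Nat.card F) (by omega : 2 ≤ n) he
      rwa [prB_eq] at this)
  obtain ⟨y₁, y₂, h1, h2, hne⟩ := Two.exists_two (lin (spToGL n F)) (lin_injective spToGL_injective) (ordd_of_prim hr)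
    (cast_ne_zero' hr) (by
      rw [Module.finrank_fintype_fun_eq_card, Fintype.card_sum, Fintype.card_fin]; omega) hb hb'
  have hz := Cfsg.Agent.H81.SaxSp.center_bot (F := F) (m := n) (by omega) hF
  have hinj : ∀ a b : Matrix.symplecticGroup (Fin n) F, (QuotientGroup.mk a : PSp n F) = QuotientGroup.mk b → a = b := by
    intro a b hab
    have h3 := QuotientGroup.eq.1 hab
    rwa [hz, Subgroup.mem_bot, inv_mul_eq_one] at h3
  have hord : ∀ {y : Matrix.symplecticGroup (Fin n) F}, orderOf y = r → orderOf (QuotientGroup.mk y : PSp n F) = r := by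
    intro y hy
    refine orderOf_eq_prime ?_ ?_
    · rw [← QuotientGroup.mk_pow, ← hy, pow_orderOf_eq_one]
      rfl
    · intro h
      rw [hinj y 1 h, orderOf_one] at hy
      exact hr.prime.one_lt.ne hy
  have hex : ∀ x : PSp n F, orderOf x = r → ∃ φ : MulAut (PSp n F), φ x ∈ R := by
    intro x hx
    by_contra hn
    push Not at hn
    exact hcon ⟨x, by rw [hx]; exact hr.prime, hn⟩
  obtain ⟨φ₁, hφ₁⟩ := hex _ (hord h1)
  obtain ⟨φ₂, hφ₂⟩ := hex _ (hord h2)
  have ho : ∀ (φ : MulAut (PSp n F)) {x : PSp n F} (hm : φ x ∈ R), orderOf x = r → orderOf (⟨φ x, hm⟩ : R) = r := by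
    intro φ x hm hx
    rw [Subgroup.orderOf_mk, ← hx]
    exact orderOf_injective φ.toMonoidHom φ.injective x
  obtain ⟨c, j, hc⟩ := hR.exists_conj (ho φ₁ hφ₁ (hord h1)) (ho φ₂ hφ₂ (hord h2))
  have hc' : φ₂ (QuotientGroup.mk y₂) = (c : PSp n F) * (φ₁ (QuotientGroup.mk y₁)) ^ j * (c : PSp n F)⁻¹ :=
    congrArg Subtype.val hc
  obtain ⟨B₁, σ₁, C₁, hC₁, hC₁'⟩ := Cfsg.Agent.H81.SaxSp.aut_apply hn φ₁ y₁
  obtain ⟨B₂, σ₂, C₂, hC₂, hC₂'⟩ := Cfsg.Agent.H81.SaxSp.aut_apply hn φ₂ y₂
  obtain ⟨h, hh⟩ := QuotientGroup.mk_surjective (c : PSp n F)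
  rw [hC₁, hC₂, ← hh] at hc'
  have h3 : C₂ = h * C₁ ^ j * h⁻¹ := hinj _ _ hc'
  apply hne
  rw [finrank_K_semi (spToGL n F) hC₁', finrank_K_semi (spToGL n F) hC₂', h3, finrank_K_conj]
  have ho₁ : orderOf C₁ = r := by
    have h4 : C₁ ^ r = 1 := by
      apply hinj
      have h5 := pow_orderOf_eq_one (QuotientGroup.mk y₁ : PSp n F)
      rw [hord h1] at h5
      rw [QuotientGroup.mk_pow, ← hC₁, ← map_pow, h5, map_one]
      rfl
    refine orderOf_eq_prime h4 fun h5 => ?_
    have h6 := hord h1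
    rw [h5] at hC₁
    have h7 : (QuotientGroup.mk y₁ : PSp n F) = 1 := φ₁.injective (by rw [hC₁, map_one]; rfl)
    rw [h7, orderOf_one] at h6
    exact hr.prime.one_lt.ne h6
  have ho₂ : orderOf C₂ = r := by
    have h4 : C₂ ^ r = 1 := by
      apply hinj
      have h5 := pow_orderOf_eq_one (QuotientGroup.mk y₂ : PSp n F)
      rw [hord h2] at h5
      rw [QuotientGroup.mk_pow, ← hC₂, ← map_pow, h5, map_one]
      rfl
    refine orderOf_eq_prime h4 fun h5 => ?_
    have h6 := hord h2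
    rw [h5] at hC₂
    have h7 : (QuotientGroup.mk y₂ : PSp n F) = 1 := φ₂.injective (by rw [hC₂, map_one]; rfl)
    rw [h7, orderOf_one] at h6
    exact hr.prime.one_lt.ne h6
  have h7 : orderOf (C₁ ^ j) = r := by
    rw [← ho₂, h3]
    exact (orderOf_injective (MulAut.conj h).toMonoidHom (MulAut.conj h).injective (C₁ ^ j)).symm
  have h8 : C₁ ∈ Subgroup.zpowers (C₁ ^ j) := by
    have h9 : Subgroup.zpowers (C₁ ^ j) = Subgroup.zpowers C₁ :=
      Subgroup.eq_of_le_of_card_ge (by rw [Subgroup.zpowers_le]; exact ⟨j, rfl⟩)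
        (by rw [Nat.card_zpowers, Nat.card_zpowers, h7, ho₁])
    rw [h9]
    exact Subgroup.mem_zpowers C₁
  obtain ⟨i, hi⟩ := h8
  apply le_antisymm
  · exact Submodule.finrank_mono (K_zpow_le (lin (spToGL n F)) C₁ j)
  · have h9 : K (lin (spToGL n F) (C₁ ^ j)) ≤ K (lin (spToGL n F) C₁) := by
      have h10 := K_zpow_le (lin (spToGL n F)) (C₁ ^ j) i
      rwa [show (C₁ ^ j) ^ i = C₁ from hi] at h10
    exact Submodule.finrank_mono h9

open Cfsg.Agent.H884.El Cfsg.Agent.H938.Sax in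
/-- **(A)** -/
theorem miss_of_cyc (hF : ¬ Odd (Fintype.card F)) (hr : PP (Nat.card F) 4 r) {R : Subgroup (PSp 4 F)}
    (hR : Cyc r R) : Miss (PSp 4 F) R := by
  have hq : 1 ≤ Nat.card F := Nat.card_pos
  exact Miss.of_der (miss_of_cyc' hF ⟨hr.prime, fun m => hr.dvd_iff hq m, hr.not_dvd (by norm_num)⟩ (by norm_num)
    rfl hR)

end Cfsg.Agent.H753.SaxR
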