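import Cfsg.Agent.H938.Sax.ASRows
import Cfsg.Agent.H81.SaxSpFin
import Cfsg.Agent.H395.Coclique
import Cfsg.Agent.S0205
import Cfsg.Agent.S2469
import Cfsg.Agent.H72.AdjSp

/-!
# SAX-SP8R (B): sections of the residual subgroups of `PSp_8(q)`, `q` even, with socle `Ω_8^-(q)`
-/

set_option autoImplicit false

namespace Cfsg.Agent.H753.SaxR

open Cfsg Cfsg.Agent.H884.El Cfsg.Agent.H938.Sax Cfsg.Agent.OrdDiv Cfsg.Agent.H436 Cfsg.Agent.H915.GN
  Cfsg.Agent.H264.GN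

/-! ### the abstract form -/

section abs

variable {R : Type*} [Group R] [Finite R] (S : Subgroup R) [hSn : S.Normal] [hs : IsSimpleGroup S]

theorem section_abs (hC : Subgroup.centralizer (S : Set R) = ⊥) {f : ℕ} (hf : 1 ≤ f) (hi : S.index ∣ 2 * f)
    (hgap : ∀ H : Subgroup S, H ≠ ⊤ → PGap S H) (L : Subgroup R) (K : Subgroup L) [hK : K.Normal]
    (hodd : ∀ v : ℕ, v.Prime → v ≠ 2 → v ∣ Nat.card S → ∃ (a : ℕ) (x : L), orderOf x = v ^ a ∧ ¬ v ^ a ∣ f)
    {r s t : ℕ} (hr : r.Prime) (hs' : s.Prime) (ht : t.Prime) (hrf : 2 * f < r) (hsf : 2 * f < s) (htf : 2 * f < t)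
    (hrs : r ≠ s) (hrt : r ≠ t) (hst : s ≠ t) (hrK : r ∣ K.index) (hsL : s ∣ Nat.card L) (htL : t ∣ Nat.card L)
    (h1 : ¬ ∃ x : L, orderOf x = r * s) (h2 : ¬ ∃ x : L, orderOf x = r * t) (h3 : ¬ ∃ x : L, orderOf x = s * t) :
    K = ⊥ := by
  have hrL : r ∣ Nat.card L := hrK.trans K.index_dvd_card
  have hri : S.relIndex L ∣ 2 * f := (Subgroup.relIndex_dvd_index_of_normal S L).trans hi
  have hri0 : 0 < S.relIndex L := Nat.pos_of_ne_zero (by
    intro h0
    rw [h0] at hri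
    have := Nat.eq_zero_of_zero_dvd hri
    omega)
  have hrile : S.relIndex L ≤ 2 * f := Nat.le_of_dvd (by omega) hri
  have hLc : Nat.card ↥L = S.relIndex L * Nat.card ↥(L.subgroupOf S) := by
    have h1 := Subgroup.card_mul_index (S.subgroupOf L)
    have h2 : Nat.card ↥(S.subgroupOf L) = Nat.card ↥(L.subgroupOf S) := by
      rw [← Subgroup.inf_subgroupOf_right S L, ← Subgroup.inf_subgroupOf_right L S, inf_comm L S,
        Nat.card_congr (Subgroup.subgroupOfEquivOfLe (inf_le_right : S ⊓ L ≤ L)).toEquiv,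
        Nat.card_congr (Subgroup.subgroupOfEquivOfLe (inf_le_left : S ⊓ L ≤ S)).toEquiv]
    rw [← h2, mul_comm]
    exact h1.symm
  by_cases hD : L.subgroupOf S = ⊤
  · -- `S ≤ L`
    have hSL : S ≤ L := Subgroup.subgroupOf_eq_top.1 hD
    obtain ⟨K', hK'⟩ : ∃ K' : Subgroup R, K' = K.map L.subtype := ⟨_, rfl⟩
    have hnorm : ∀ l ∈ L, ∀ k ∈ K', l * k * l⁻¹ ∈ K' := by
      rintro l hl k hk
      rw [hK'] at hk ⊢
      obtain ⟨y, hy, rfl⟩ := hk
      exact ⟨_, hK.conj_mem y hy ⟨l, hl⟩, rfl⟩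
    have hn : (K'.subgroupOf S).Normal := by
      refine ⟨fun k hk n => ?_⟩
      exact hnorm n (hSL n.2) k hk
    have hbot : K' = ⊥ := by
      rcases hn.eq_bot_or_eq_top with h | h
      · rw [eq_bot_iff, ← hC]
        intro k hk
        rw [Subgroup.mem_centralizer_iff]
        intro x hx
        have h1 : x * k * x⁻¹ ∈ K' := hnorm x (hSL hx) k hk
        have h2 : k * (x * k⁻¹ * x⁻¹) ∈ K' := K'.mul_mem hk (by
          have := K'.inv_mem h1
          rwa [mul_inv_rev, mul_inv_rev, inv_inv, ← mul_assoc] at this)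
        have h3 : k * (x * k⁻¹ * x⁻¹) ∈ S := by
          have : k * (x * k⁻¹ * x⁻¹) = (k * x * k⁻¹) * x⁻¹ := by group
          rw [this]
          exact S.mul_mem (hSn.conj_mem x hx k) (S.inv_mem hx)
        have h4 : (⟨_, h3⟩ : S) ∈ K'.subgroupOf S := h2
        rw [h, Subgroup.mem_bot] at h4
        have h5 : k * (x * k⁻¹ * x⁻¹) = 1 := congrArg Subtype.val h4
        have h6 : k * x = x * k := by
          calc k * x = (k * (x * k⁻¹ * x⁻¹)) * (x * k) := by group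
            _ = x * k := by rw [h5, one_mul]
        exact h6.symm
      · exfalso
        have h1 : S ≤ K' := Subgroup.subgroupOf_eq_top.1 h
        have h2 : Nat.card ↥S ∣ Nat.card ↥K' := Subgroup.card_dvd_of_le h1
        have h3 : Nat.card ↥K' = Nat.card ↥K := by
          rw [hK']
          exact (Nat.card_congr (K.equivMapOfInjective L.subtype L.subtype_injective).toEquiv).symm
        obtain ⟨c, hc⟩ := h2
        have h4 : Nat.card ↥K * K.index = Nat.card ↥L := K.card_mul_index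
        rw [hLc, hD, Subgroup.card_top, ← h3, hc] at h4
        have h5 : c * K.index = S.relIndex L := by
          have h6 : Nat.card S * (c * K.index) = Nat.card S * S.relIndex L := by
            rw [← mul_assoc, h4, mul_comm]
          exact Nat.eq_of_mul_eq_mul_left Nat.card_pos h6
        have h6 : r ∣ S.relIndex L := hrK.trans (Dvd.intro_left c h5)
        have := Nat.le_of_dvd hri0 h6
        omega
    rw [hK', Subgroup.map_eq_bot_iff_of_injective _ L.subtype_injective] at hbot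
    exact hbot
  · -- `L ∩ S < S`
    exfalso
    obtain ⟨v, hv, hv1, hv2⟩ := hgap _ hD
    by_cases h2v : v = 2
    · subst h2v
      have hodd' : Odd (Nat.card ↥(L.subgroupOf S)) := by rwa [← Nat.not_even_iff_odd, even_iff_two_dvd]
      have hsol : Group.IsSolvable ↥(L.subgroupOf S) := Cfsg.Agent.S0205.result hodd'
      have hT : Group.IsSolvable (⊤ : Subgroup ↥(L.subgroupOf S)) := inferInstance
      have hdv : ∀ w : ℕ, w.Prime → 2 * f < w → w ∣ Nat.card L → w ∣ Nat.card ↥(L.subgroupOf S) := by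
        intro w hw hwf hwL
        rw [hLc] at hwL
        rcases hw.dvd_mul.1 hwL with h | h
        · have := Nat.le_of_dvd hri0 h
          omega
        · exact h
      have hno : ∀ w : ℕ, (¬ ∃ x : L, orderOf x = w) → ¬ ∃ x : ↥(L.subgroupOf S), orderOf x = w := by
        rintro w hw ⟨x, hx⟩
        have hxL : ((x : S) : R) ∈ L := Subgroup.mem_subgroupOf.1 x.2
        refine hw ⟨⟨((x : S) : R), hxL⟩, ?_⟩
        rw [Subgroup.orderOf_mk, Subgroup.orderOf_coe, Subgroup.orderOf_coe, hx]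
      exact Cfsg.Agent.H395.Coclique.coclique hr hs' ht hrs hrt hst (hno _ h1) (hno _ h2) (hno _ h3) ⊤ hT
        (by rw [Subgroup.card_top]; exact hdv r hr hrf hrL) (by rw [Subgroup.card_top]; exact hdv s hs' hsf hsL)
        (hdv t ht htf htL)
    · obtain ⟨a, x, hx, hxa⟩ := hodd v hv h2v hv1
      have h4 : v ^ a ∣ S.relIndex L * Nat.card ↥(L.subgroupOf S) := by
        rw [← hLc, ← hx]
        exact orderOf_dvd_natCard x
      have h5 : Nat.Coprime (v ^ a) (Nat.card ↥(L.subgroupOf S)) :=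
        Nat.Coprime.pow_left a ((Nat.Prime.coprime_iff_not_dvd hv).2 hv2)
      have h6 : v ^ a ∣ 2 * f := (h5.dvd_of_dvd_mul_right h4).trans hri
      have h7 : Nat.Coprime (v ^ a) 2 := Nat.Coprime.pow_left a ((Nat.coprime_primes hv Nat.prime_two).2 h2v)
      exact hxa (h7.dvd_of_dvd_mul_left h6)

end abs

/-! ### arithmetic -/

/-- a primitive prime of `q^3 - 1`, `q = 2^f` -/
theorem exists_three {f : ℕ} (hf : 1 ≤ f) : ∃ r, PP (2 ^ f) 3 r ∧ 2 * f < r := by
  by_cases h2 : f = 2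
  · subst h2
    refine ⟨7, ⟨by norm_num, ?_⟩, by norm_num⟩
    have := Fact.mk (show Nat.Prime 3 by norm_num)
    have h7 := Fact.mk (show Nat.Prime 7 by norm_num)
    exact orderOf_eq_prime (by decide) (by decide)
  · obtain ⟨r, hr⟩ := exists_pp (q := 2) (e := f * 3) le_rfl (by omega) (fun h => by omega)
    exact ⟨r, hr.of_pow hf, by have := hr.lt (by omega); omega⟩

theorem exists_ev {f : ℕ} (hf : 1 ≤ f) {e : ℕ} (he : 4 ≤ e) (h6 : e ≠ 6) : ∃ r, PP (2 ^ f) e r ∧ 2 * f < r := by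
  obtain ⟨r, hr⟩ := exists_pp (q := 2) (e := f * e) le_rfl (by nlinarith) (fun h => by
    have h1 := h.2
    have h3 : f = 1 := by
      by_contra h4
      have : 2 * 4 ≤ f * e := Nat.mul_le_mul (by omega) he
      omega
    subst h3
    omega)
  have h1 := hr.lt (by nlinarith)
  have h2 : f * 4 ≤ f * e := Nat.mul_le_mul_left f he
  exact ⟨r, hr.of_pow hf, by omega⟩

/-- lifting the exponent -/
theorem pow_dvd {f v : ℕ} (hf : 1 ≤ f) (hv : v.Prime) (k : ℕ) {ε : ℤ} (hε : ε = 1 ∨ ε = -1) (h2 : v ≠ 2)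
    (hd : (v : ℤ) ∣ (2 ^ f) ^ k - ε) : ∃ a, ¬ v ^ a ∣ f ∧ (v : ℤ) ^ a ∣ (2 ^ f) ^ k - ε := by
  have := Fact.mk hv
  obtain ⟨b, f', hf', he⟩ := Nat.exists_eq_pow_mul_and_not_dvd (show f ≠ 0 by omega) v hv.ne_one
  have hvodd : Odd v := hv.odd_of_ne_two h2
  have hεp : ε ^ v ^ b = ε := by
    rcases hε with rfl | rfl
    · exact one_pow _
    · exact Odd.neg_one_pow hvodd.pow
  have h1 : ((2 : ℤ) ^ f) ^ k = ((2 ^ f') ^ k) ^ v ^ b := by
    rw [he, ← pow_mul, ← pow_mul, ← pow_mul]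
    congr 1
    ring
  have h3 : (v : ℤ) ∣ (2 ^ f') ^ k - ε := by
    rw [h1] at hd
    have h4 := (ZMod.intCast_zmod_eq_zero_iff_dvd _ v).2 hd
    apply (ZMod.intCast_zmod_eq_zero_iff_dvd _ v).1
    push_cast at h4 ⊢
    rw [ZMod.pow_card_pow] at h4
    exact h4
  refine ⟨b + 1, ?_, ?_⟩
  · rw [he, pow_succ]
    intro h4
    exact hf' (Nat.dvd_of_mul_dvd_mul_left (pow_pos hv.pos b) h4)
  · rw [h1]
    have h4 := dvd_sub_pow_of_dvd_sub h3 b
    rw [hεp] at h4
    exact h4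

/-! ### orders of elements of `PSp_8(q)` -/

section ords

open Cfsg.Agent.H377

variable {F : Type} [Field F] [Fintype F] [CharP F 2]

theorem exists_of_tor {j N : ℕ} (hj : 1 ≤ j) (hj4 : j ≤ 4) (h : N ∣ Nat.card F ^ j - 1 ∨ N ∣ Nat.card F ^ j + 1) :
    ∃ g : PSp 4 F, orderOf g = N := by
  obtain ⟨ε, hε⟩ : ∃ ε : ℤ, Elt F j ε N := by
    rcases h with h | h
    · exact ⟨1, elt_tor_plus hj h⟩
    · exact ⟨-1, elt_tor_minus hj h⟩
  rcases Nat.lt_or_ge j 4 with h4 | h4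
  · have h5 := hε.add (m := 4 - j) (by omega) (ε' := 1) (Or.inl rfl)
    rw [show j + (4 - j) = 4 by omega] at h5
    exact Cfsg.Agent.H72.AdjSp.of_elt (by norm_num) h5
  · obtain rfl : j = 4 := by omega
    exact Cfsg.Agent.H72.AdjSp.of_elt (by norm_num) hε

theorem exists_vpow {f v : ℕ} (hf : 1 ≤ f) (hF : Nat.card F = 2 ^ f) (hv : v.Prime) (h2 : v ≠ 2)
    (hd : v ∣ Nat.card (PSp 4 F)) : ∃ (a : ℕ) (g : PSp 4 F), orderOf g = v ^ a ∧ ¬ v ^ a ∣ f := by
  have h1 : v ∣ Nat.card (Matrix.symplecticGroup (Fin 4) F) := hd.trans (Subgroup.card_quotient_dvd_card _)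
  rw [Cfsg.Agent.S0245.result (F := F) rfl 4, ← Nat.card_eq_fintype_card, hF] at h1
  rcases hv.dvd_mul.1 h1 with h3 | h3
  · exact absurd ((Nat.prime_dvd_prime_iff_eq hv Nat.prime_two).1 (hv.dvd_of_dvd_pow (hv.dvd_of_dvd_pow h3))) h2
  · obtain ⟨i, hi, h4⟩ := (Prime.dvd_finsetProd_iff hv.prime _).1 h3
    rw [Finset.mem_range] at hi
    have h5 : (2 ^ f) ^ (2 * (i + 1)) - 1 = ((2 ^ f) ^ (i + 1) + 1) * ((2 ^ f) ^ (i + 1) - 1) := by
      rw [mul_comm 2 (i + 1), pow_mul]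
      have := Nat.sq_sub_sq ((2 ^ f) ^ (i + 1)) 1
      rwa [one_pow] at this
    have hpos : 1 ≤ (2 ^ f) ^ (i + 1) := Nat.one_le_iff_ne_zero.2 (by positivity)
    rw [h5] at h4
    rcases hv.dvd_mul.1 h4 with h6 | h6
    · obtain ⟨a, ha, ha2⟩ := pow_dvd hf hv (i + 1) (ε := -1) (Or.inr rfl) h2 (by
        rw [sub_neg_eq_add]
        exact_mod_cast h6)
      rw [sub_neg_eq_add] at ha2
      obtain ⟨g, hg⟩ := exists_of_tor (F := F) (j := i + 1) (N := v ^ a) (by omega) (by omega) (Or.inr (by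
        rw [hF]
        exact_mod_cast ha2))
      exact ⟨a, g, hg, ha⟩
    · obtain ⟨a, ha, ha2⟩ := pow_dvd hf hv (i + 1) (ε := 1) (Or.inl rfl) h2 (by
        have h7 : ((v : ℕ) : ℤ) ∣ (((2 ^ f) ^ (i + 1) - 1 : ℕ) : ℤ) := by exact_mod_cast h6
        rw [Nat.cast_sub hpos] at h7
        exact_mod_cast h7)
      obtain ⟨g, hg⟩ := exists_of_tor (F := F) (j := i + 1) (N := v ^ a) (by omega) (by omega) (Or.inl (by
        rw [hF]
        have h7 : ((v ^ a : ℕ) : ℤ) ∣ (((2 ^ f) ^ (i + 1) - 1 : ℕ) : ℤ) := by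
          rw [Nat.cast_sub hpos]
          exact_mod_cast ha2
        exact_mod_cast h7))
      exact ⟨a, g, hg, ha⟩

theorem no_adj {r s e e' η η' : ℕ} (hr : PP (Nat.card F) e r) (hs : PP (Nat.card F) e' s) (he : 3 ≤ e)
    (he' : 3 ≤ e') (hη : (Odd e ∧ η = e) ∨ (Even e ∧ 2 * η = e)) (hη' : (Odd e' ∧ η' = e') ∨ (Even e' ∧ 2 * η' = e'))
    (hrG : r ∣ Nat.card (PSp 4 F)) (hsG : s ∣ Nat.card (PSp 4 F)) (hle : η ≤ η') (hlt : 4 < η + η')
    (hne : e ≠ e') (hno : ¬ ∃ t : ℕ, Odd t ∧ e' = e * t) : ¬ ∃ x : PSp 4 F, orderOf x = r * s := by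
  have := Fact.mk Nat.prime_two
  have h1 := hr.lt (by omega)
  have h2 := hs.lt (by omega)
  exact (Cfsg.Agent.S2469.result (F := F) 2 4 (by norm_num) (fun h => by omega) r s hr.prime hs.prime (by omega)
    (by omega) (by omega) (by omega) (hr.ne_of_ne hs hne) hrG hsG e e' η η'
    (by rw [← Nat.card_eq_fintype_card]; exact hr.ord.symm) (by rw [← Nat.card_eq_fintype_card]; exact hs.ord.symm)
    hη hη' hle).2 ⟨hlt, hno⟩

end ords

/-- **(B)** -/
theorem section_res {F : Type} [Field F] [Fintype F] (hF : ¬ Odd (Fintype.card F)) {R : Subgroup (PSp 4 F)}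
    (S : Subgroup R) [S.Normal] [IsSimpleGroup S] (hC : Subgroup.centralizer (S : Set R) = ⊥)
    (hS : IsNamed (.ominus 4 (Fintype.card F)) S) (hgap : ∀ H : Subgroup S, H ≠ ⊤ → PGap S H)
    (L : Subgroup (PSp 4 F)) (hLR : L ≤ R) (K : Subgroup L) [hK : K.Normal]
    (h : Set.range (orderOf : (↥L ⧸ K) → ℕ) = Set.range (orderOf : PSp 4 F → ℕ)) : K = ⊥ := by
  have hchar := Cfsg.Agent.H81.SaxSp.char_two hF
  have h2p := Fact.mk Nat.prime_two
  obtain ⟨f', hf', hFf⟩ := FiniteField.card F 2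
  obtain ⟨f, hff⟩ : ∃ f : ℕ, f = f' := ⟨_, rfl⟩
  have hf : 1 ≤ f := by rw [hff]; exact f'.pos
  rw [← hff] at hFf
  have hFN : Nat.card F = 2 ^ f := by rw [Nat.card_eq_fintype_card, hFf]
  -- the index
  have hi : S.index ∣ 2 * f := by
    obtain ⟨F₁, _, _, a, b, hF₁, hab, ⟨e⟩⟩ := hS.real
    have h1 := Cfsg.Agent.S0818.result 2 f hf (hF₁.trans hFf) 4 le_rfl a b hab
    rw [if_pos rfl] at h1
    refine index_dvd S hC ?_
    rw [Nat.card_congr e.toEquiv, ← h1]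
    exact Nat.card_congr (MulAut.congr e).toEquiv
  -- elements of `L`
  have hno := not_ordGap_of_range L K h
  obtain ⟨L', hL'⟩ : ∃ L' : Subgroup R, L' = L.subgroupOf R := ⟨_, rfl⟩
  let e : L' ≃* L := (MulEquiv.subgroupCongr hL').trans (Subgroup.subgroupOfEquivOfLe hLR)
  have hcard : Nat.card L' = Nat.card L := Nat.card_congr e.toEquiv
  have hex : ∀ g : PSp 4 F, ∃ x : L', orderOf x = orderOf g := by
    intro g
    obtain ⟨m, hm, ho⟩ := exists_order_of_not_ordGap hno g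
    refine ⟨e.symm ⟨m, hm⟩, ?_⟩
    rw [MulEquiv.orderOf_eq, Subgroup.orderOf_mk, ho]
  have hnoL : ∀ w : ℕ, (¬ ∃ x : PSp 4 F, orderOf x = w) → ¬ ∃ x : L', orderOf x = w := by
    rintro w hw ⟨x, hx⟩
    exact hw ⟨(e x : PSp 4 F), by rw [Subgroup.orderOf_coe, MulEquiv.orderOf_eq, hx]⟩
  have hdvL : ∀ g : PSp 4 F, orderOf g ∣ Nat.card L' := by
    intro g
    obtain ⟨x, hx⟩ := hex g
    rw [← hx]
    exact orderOf_dvd_natCard x
  -- the primes
  obtain ⟨r, hr, hrf⟩ := exists_ev hf (e := 8) (by norm_num) (by norm_num)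
  obtain ⟨s, hs, hsf⟩ := exists_ev hf (e := 4) (by norm_num) (by norm_num)
  obtain ⟨t, ht, htf⟩ := exists_three hf
  have hrs := hr.ne_of_ne hs (by norm_num)
  have hrt := hr.ne_of_ne ht (by norm_num)
  have hst := hs.ne_of_ne ht (by norm_num)
  rw [← hFN] at hr hs ht
  have hq1 : 1 ≤ Nat.card F := Nat.card_pos
  obtain ⟨gr, hgr⟩ := exists_of_tor (F := F) (j := 4) (N := r) (by norm_num) le_rfl
    (Or.inr (dvd_pow_add_one hq1 (by norm_num) hr))
  obtain ⟨gs, hgs⟩ := exists_of_tor (F := F) (j := 2) (N := s) (by norm_num) (by norm_num)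
    (Or.inr (dvd_pow_add_one hq1 (by norm_num) hs))
  obtain ⟨gt, hgt⟩ := exists_of_tor (F := F) (j := 3) (N := t) (by norm_num) (by norm_num)
    (Or.inl ((ht.dvd_iff hq1 3).2 dvd_rfl))
  have hrG : r ∣ Nat.card (PSp 4 F) := hgr ▸ orderOf_dvd_natCard gr
  have hsG : s ∣ Nat.card (PSp 4 F) := hgs ▸ orderOf_dvd_natCard gs
  have htG : t ∣ Nat.card (PSp 4 F) := hgt ▸ orderOf_dvd_natCard gt
  have h1 : ¬ ∃ x : PSp 4 F, orderOf x = r * s := by
    rw [mul_comm]
    refine no_adj hs hr (by norm_num) (by norm_num) (η := 2) (Or.inr ⟨by decide, rfl⟩) (η' := 4)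
      (Or.inr ⟨by decide, rfl⟩)
      hsG hrG (by norm_num) (by norm_num) (by norm_num) ?_
    rintro ⟨k, ⟨l, hl⟩, hk⟩
    omega
  have h2 : ¬ ∃ x : PSp 4 F, orderOf x = r * t := by
    rw [mul_comm]
    refine no_adj ht hr (by norm_num) (by norm_num) (η := 3) (Or.inl ⟨by decide, rfl⟩) (η' := 4)
      (Or.inr ⟨by decide, rfl⟩)
      htG hrG (by norm_num) (by norm_num) (by norm_num) ?_
    rintro ⟨k, ⟨l, hl⟩, hk⟩
    omega
  have h3 : ¬ ∃ x : PSp 4 F, orderOf x = s * t := by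
    refine no_adj hs ht (by norm_num) (by norm_num) (η := 2) (Or.inr ⟨by decide, rfl⟩) (η' := 3)
      (Or.inl ⟨by decide, rfl⟩)
      hsG htG (by norm_num) (by norm_num) (by norm_num) ?_
    rintro ⟨k, ⟨l, hl⟩, hk⟩
    omega
  -- the quotient
  obtain ⟨K', hK'⟩ : ∃ K' : Subgroup L', K' = K.comap e.toMonoidHom := ⟨_, rfl⟩
  have hK'n : K'.Normal := by rw [hK']; exact hK.comap _
  have hix : K'.index = K.index := by
    rw [hK']
    exact K.index_comap_of_surjective e.surjective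
  have hrK : r ∣ K'.index := by
    rw [hix]
    have h4 : orderOf gr ∈ Set.range (orderOf : (↥L ⧸ K) → ℕ) := by rw [h]; exact ⟨gr, rfl⟩
    obtain ⟨y, hy⟩ := h4
    rw [← hgr, ← hy]
    exact orderOf_dvd_natCard y
  have hbot := section_abs S hC hf hi hgap L' K' (fun v hv hv2 hvS => by
      obtain ⟨a, g, hg, ha⟩ := exists_vpow (F := F) hf hFN hv hv2 ((hvS.trans S.card_subgroup_dvd_card).trans
        R.card_subgroup_dvd_card)
      obtain ⟨x, hx⟩ := hex g
      exact ⟨a, x, hx.trans hg, ha⟩)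
    hr.prime hs.prime ht.prime hrf hsf htf hrs hrt hst hrK (hgs ▸ hdvL gs) (hgt ▸ hdvL gt) (hnoL _ h1) (hnoL _ h2)
    (hnoL _ h3)
  rw [eq_bot_iff]
  intro k hk
  have h5 : e.symm k ∈ K' := by
    rw [hK']
    change e (e.symm k) ∈ K
    rwa [e.apply_symm_apply]
  rw [hbot, Subgroup.mem_bot] at h5
  rw [Subgroup.mem_bot, ← e.apply_symm_apply k, h5, map_one]

end Cfsg.Agent.H753.SaxR
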