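import Cfsg.Agent.StdU3.Base
import Cfsg.Agent.StdU3.Cover
import Cfsg.Agent.StdU3.URelModel
import Cfsg.Agent.StdU3.LZeroTop
import Cfsg.Agent.H340.ExcEmb

/-!
# The degrees of the representations of `U₃(2 ^ n)` in odd characteristic (helper753)

* `eigen_sum_zero` : joint eigenvectors for distinct systems of eigenvalues are independent;
* `dim_bound` : `(q - 1) q ≤ dim V` for a faithful module `V` of the Borel subgroup, `q = 2 ^ n`;
* `not_hasRep` : a quasisimple group `X` with `X / Z(X) ≅ PSU₃(2 ^ n)`, `n ≥ 5`, has no faithful representation of degree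
  at most `248` in odd characteristic.
-/

set_option autoImplicit false
set_option linter.unusedSectionVars false

namespace Cfsg.Agent.H753.UThreeDeg

open Subgroup Cfsg.Agent.LieRecognition Cfsg.Agent.LieRecognition.HermHeis Cfsg.Agent.StdU3.URel
  Cfsg.Agent.StdU3.Field Cfsg.Agent.StdU3.Semi Module

/-- joint eigenvectors for distinct systems of eigenvalues -/
theorem eigen_sum_zero {k : Type*} [Field k] {V : Type*} [AddCommGroup V] [Module k V] {J ι : Type*} [DecidableEq ι]
    (f : J → Module.End k V) (χ : ι → J → k) (hχ : Function.Injective χ) (s : Finset ι) :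
    ∀ v : ι → V, (∀ i ∈ s, ∀ j, f j (v i) = χ i j • v i) → ∑ i ∈ s, v i = 0 → ∀ i ∈ s, v i = 0 := by
  induction s using Finset.induction_on with
  | empty => intro v _ _ i hi; exact absurd hi (Finset.notMem_empty i)
  | insert i₀ s hi₀ ih =>
    intro v hv hsum
    rw [Finset.sum_insert hi₀] at hsum
    have key : ∀ i ∈ s, v i = 0 := by
      have h1 : ∀ j, ∀ i ∈ s, (χ i j - χ i₀ j) • v i = 0 := by
        intro j
        refine ih (fun i => (χ i j - χ i₀ j) • v i) ?_ ?_
        · intro i hi j'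
          rw [map_smul, hv i (Finset.mem_insert_of_mem hi), smul_comm]
        · have h2 : f j (v i₀ + ∑ i ∈ s, v i) = 0 := by rw [hsum, map_zero]
          rw [map_add, hv i₀ (Finset.mem_insert_self _ _), map_sum] at h2
          have h3 : χ i₀ j • (v i₀ + ∑ i ∈ s, v i) = 0 := by rw [hsum, smul_zero]
          rw [smul_add, Finset.smul_sum] at h3
          have h4 : ∑ i ∈ s, (χ i j - χ i₀ j) • v i =
              (χ i₀ j • v i₀ + ∑ i ∈ s, f j (v i)) - (χ i₀ j • v i₀ + ∑ i ∈ s, χ i₀ j • v i) := by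
            rw [add_sub_add_left_eq_sub, ← Finset.sum_sub_distrib]
            refine Finset.sum_congr rfl fun i hi => ?_
            rw [hv i (Finset.mem_insert_of_mem hi), sub_smul]
          rw [h4, h2, h3, sub_zero]
      intro i hi
      have hne : χ i ≠ χ i₀ := fun h => hi₀ (hχ h ▸ hi)
      obtain ⟨j, hj⟩ := Function.ne_iff.1 hne
      exact (smul_eq_zero.1 (h1 j i hi)).resolve_left (sub_ne_zero.2 hj)
    intro i hi
    rcases Finset.mem_insert.1 hi with rfl | hi
    · rw [Finset.sum_eq_zero key, add_zero] at hsum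
      exact hsum
    · exact key i hi

variable {F : Type*} [Field F] [Fintype F] [CharP F 2] {σ : F →+* F} [hσ : Fact (∀ x, σ (σ x) = x)] {n : ℕ}

theorem comm_b (x y : Heis σ) : (y * x * y⁻¹ * x⁻¹).a = 0 ∧
    (y * x * y⁻¹ * x⁻¹).b = x.a * σ y.a + y.a * σ x.a := by
  have h2 : ∀ z : F, z + z = 0 := CharTwo.add_self_eq_zero
  constructor
  · simp only [mul_a, inv_a]
    linear_combination h2 x.a + h2 y.a
  · simp only [mul_a, mul_b, inv_a, inv_b]
    linear_combination x.h + y.h + h2 (x.a * σ x.a) + h2 (y.a * σ y.a) + h2 (y.a * σ x.a)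

/-- one isotypic piece -/
theorem le_finrank {k : Type*} [Field k] {W : Type*} [AddCommGroup W] [Module k W] [FiniteDimensional k W]
    [Nontrivial W] (hS : Sg σ n) (T : Heis σ →* Module.End k W) (lam : F → k)
    (hT : ∀ z : Heis σ, z.a = 0 → T z = lam z.b • 1) {b₀ : F} (hb₀ : σ b₀ = b₀) (hb₁ : lam b₀ ≠ 1) :
    2 ^ n ≤ finrank k W := by
  classical
  have hone : (1 : Module.End k W) ≠ 0 := one_ne_zero
  -- `lam` is additive
  have hadd : ∀ b c : F, σ b = b → σ c = c → lam (b + c) = lam b * lam c := by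
    intro b c hb hc
    have h1 := hT (zet b hb * zet c hc) (by simp)
    have h2 : (zet b hb * zet c hc : Heis σ).b = b + c := by simp
    rw [h2, map_mul, hT _ (zet_a b hb), hT _ (zet_a c hc), zet_b, zet_b, smul_mul_smul_comm, one_mul] at h1
    exact (smul_left_injective k hone h1).symm
  have hzero : lam 0 = 1 := by
    have h1 := hT 1 rfl
    rw [one_b, map_one] at h1
    have h2 : (1 : k) • (1 : Module.End k W) = lam 0 • 1 := by rw [one_smul]; exact h1
    exact (smul_left_injective k hone h2).symm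
  have hfix : ∀ x y : F, σ (x * σ y + y * σ x) = x * σ y + y * σ x := by
    intro x y
    rw [map_add, map_mul, map_mul, HermHeis.sig, HermHeis.sig]
    ring
  choose xa hxa using exists_a (σ := σ) hS
  let f : Heis σ → Module.End k (Module.End k W) := fun y =>
    (LinearMap.mulLeft k (T y)).comp (LinearMap.mulRight k (T y⁻¹))
  have hf : ∀ y A, f y A = T y * A * T y⁻¹ := fun y A => by
    show T y * (A * T y⁻¹) = _
    rw [mul_assoc]
  let χ : F → Heis σ → k := fun a y => lam (a * σ y.a + y.a * σ a)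
  have hχ : Function.Injective χ := by
    intro a a' haa
    by_contra hne
    have h0 : a + a' ≠ 0 := fun h => hne (CharTwo.add_eq_zero.1 h)
    obtain ⟨y, hy⟩ := exists_Tr_eq hS.hq h0 (b := b₀) (by rw [← hS.eq]; exact hb₀)
    have h1 := congrFun haa (xa y)
    simp only [χ, hxa] at h1
    have h2 : (a + a') * σ y + y * σ (a + a') = b₀ := by
      rw [← hy, Tr_def, bar_mul, bar_bar hS.hq, hS.eq, hS.eq]
      ring
    have h3 : (a + a') * σ y + y * σ (a + a') = (a * σ y + y * σ a) + (a' * σ y + y * σ a') := by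
      rw [map_add]; ring
    apply hb₁
    rw [← h2, h3, hadd _ _ (hfix _ _) (hfix _ _), h1, ← hadd _ _ (hfix _ _) (hfix _ _), CharTwo.add_self_eq_zero,
      hzero]
  have hinv : ∀ x : Heis σ, T x * T x⁻¹ = 1 := fun x => by rw [← map_mul, mul_inv_cancel, map_one]
  have hv : ∀ (a : F) (y : Heis σ), f y (T (xa a)) = χ a y • T (xa a) := by
    intro a y
    obtain ⟨h1, h2⟩ := comm_b (xa a) y
    have h3 : y * xa a * y⁻¹ = (y * xa a * y⁻¹ * (xa a)⁻¹) * xa a := by group
    rw [hf, ← map_mul, ← map_mul, h3, map_mul, hT _ h1, h2, hxa, smul_mul_assoc, one_mul]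
  have hli : LinearIndependent k (fun a : F => T (xa a)) := by
    rw [Fintype.linearIndependent_iff]
    intro g hg a
    have h1 := eigen_sum_zero f χ hχ Finset.univ (fun a => g a • T (xa a)) (fun a _ y => by
      rw [map_smul, hv, smul_comm]) hg a (Finset.mem_univ a)
    refine (smul_eq_zero.1 h1).resolve_right fun h => hone ?_
    rw [← hinv (xa a), h, zero_mul]
  have h1 := hli.fintype_card_le_finrank
  rw [Module.finrank_linearMap, hS.hq.hK, sq] at h1
  exact Nat.mul_self_le_mul_self_iff.1 h1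

theorem finite_heis : Finite (Heis σ) :=
  Finite.of_injective (fun x : Heis σ => (x.a, x.b)) fun x y h => by
    ext
    · exact (Prod.mk.inj h).1
    · exact (Prod.mk.inj h).2

/-- **The bound.** -/
theorem dim_bound {k : Type*} [Field k] (h2 : (2 : k) ≠ 0) {V : Type*} [AddCommGroup V] [Module k V]
    [FiniteDimensional k V] (hS : Sg σ n) (ρ : Heis σ →* Module.End k V) (D : Fˣ → Module.End k V)
    (hDi : ∀ l, Function.Injective (D l)) (hD : ∀ l x, D l * ρ x = ρ (act l x) * D l) {z₀ : Heis σ} (hz₀ : z₀.a = 0)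
    (hρ : ρ z₀ ≠ 1) : (2 ^ n - 1) * 2 ^ n ≤ finrank k V := by
  classical
  have hfin := finite_heis (σ := σ)
  have := Fintype.ofFinite (Heis σ)
  have hmul : ∀ x y v, ρ x (ρ y v) = ρ (x * y) v := fun x y v => by rw [map_mul]; rfl
  have hzz : ∀ z : Heis σ, z.a = 0 → ∀ v, ρ z (ρ z v) = v := by
    intro z hz v
    rw [hmul, (mul_self_eq_one_iff z).2 hz, map_one]
    rfl
  have hzc : ∀ z : Heis σ, z.a = 0 → ∀ x v, ρ z (ρ x v) = ρ x (ρ z v) := by
    intro z hz x v
    rw [hmul, hmul, comm_of_a_eq_zero hz]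
  -- the eigenvector
  obtain ⟨v, hvW, hv0, hv⟩ : ∃ v ∈ LinearMap.ker (ρ z₀ + 1), v ≠ 0 ∧
      ∀ z ∈ ((Finset.univ.filter fun z : Heis σ => z.a = 0).toList.map ρ), z v = v ∨ z v = -v := by
    refine Cfsg.Agent.H340.Deg.exists_eigen h2 _ _ ?_ ?_ ?_ ?_
    · obtain ⟨u, hu⟩ : ∃ u, ρ z₀ u ≠ u := by
        by_contra hc
        push Not at hc
        exact hρ (LinearMap.ext hc)
      intro hbot
      apply hu
      have h1 : ρ z₀ u - u ∈ LinearMap.ker (ρ z₀ + 1) := by
        rw [LinearMap.mem_ker]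
        change ρ z₀ (ρ z₀ u - u) + (ρ z₀ u - u) = 0
        rw [map_sub, hzz z₀ hz₀]
        abel
      rw [hbot, Submodule.mem_bot, sub_eq_zero] at h1
      exact h1
    · intro z hz u hu
      obtain ⟨y, hy, rfl⟩ := List.mem_map.1 hz
      have hya : y.a = 0 := (Finset.mem_filter.1 (Finset.mem_toList.1 hy)).2
      rw [LinearMap.mem_ker] at hu ⊢
      change ρ z₀ (ρ y u) + ρ y u = 0
      have h1 : ρ z₀ u + u = 0 := hu
      rw [← hzc y hya, ← map_add, h1, map_zero]
    · intro z hz u _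
      obtain ⟨y, hy, rfl⟩ := List.mem_map.1 hz
      exact hzz y (Finset.mem_filter.1 (Finset.mem_toList.1 hy)).2 u
    · intro z hz z' hz' u _
      obtain ⟨y, hy, rfl⟩ := List.mem_map.1 hz
      obtain ⟨y', hy', rfl⟩ := List.mem_map.1 hz'
      exact hzc y (Finset.mem_filter.1 (Finset.mem_toList.1 hy)).2 y' u
  have hv' : ∀ z : Heis σ, z.a = 0 → ρ z v = v ∨ ρ z v = -v := fun z hz =>
    hv _ (List.mem_map.2 ⟨z, Finset.mem_toList.2 (Finset.mem_filter.2 ⟨Finset.mem_univ _, hz⟩), rfl⟩)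
  have hvz : ρ z₀ v = -v := by
    have h1 : ρ z₀ v + v = 0 := hvW
    exact eq_neg_of_add_eq_zero_left h1
  -- the character
  let lam : F → k := fun b => if h : σ b = b then (if ρ (zet b h) v = v then 1 else -1) else 1
  have hlam : ∀ z : Heis σ, z.a = 0 → ρ z v = lam z.b • v := by
    intro z hz
    have hb := b_fixed_of_a_eq_zero hz
    have hz' : z = zet z.b hb := ext_z hz (zet_a _ _) (by rw [zet_b])
    simp only [lam]
    rw [dif_pos hb, ← hz']
    rcases hv' z hz with h | h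
    · rw [if_pos h, one_smul, h]
    · by_cases h3 : ρ z v = v
      · rw [if_pos h3, one_smul, h3]
      · rw [if_neg h3, neg_one_smul, h]
  have hlam0 : lam z₀.b ≠ 1 := by
    intro h
    have h1 := hlam z₀ hz₀
    rw [h, one_smul, hvz] at h1
    have h3 : (2 : k) • v = 0 := by
      rw [two_smul]
      nth_rewrite 1 [← h1]
      exact neg_add_cancel v
    exact (smul_eq_zero.1 h3).elim h2 hv0
  -- the isotypic part
  let W : Submodule k V :=
    { carrier := {w | ∀ z : Heis σ, z.a = 0 → ρ z w = lam z.b • w}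
      add_mem' := by
        intro a b ha hb z hz
        rw [map_add, ha z hz, hb z hz, smul_add]
      zero_mem' := by
        intro z hz
        rw [map_zero, smul_zero]
      smul_mem' := by
        intro c a ha z hz
        rw [map_smul, ha z hz, smul_comm] }
  have hWx : ∀ (x : Heis σ), ∀ w ∈ W, ρ x w ∈ W := by
    intro x w hw z hz
    rw [hzc z hz, hw z hz, map_smul]
  let T : Heis σ →* Module.End k W :=
    { toFun := fun x => (ρ x).restrict (hWx x)
      map_one' := by
        ext w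
        change ρ 1 (w : V) = w
        rw [map_one]; rfl
      map_mul' := by
        intro x y
        ext w
        change ρ (x * y) (w : V) = ρ x (ρ y w)
        rw [hmul] }
  have hWn : Nontrivial W := ⟨⟨⟨v, hlam⟩, 0, fun h => hv0 (congrArg Subtype.val h)⟩⟩
  have hTz : ∀ z : Heis σ, z.a = 0 → T z = lam z.b • 1 := by
    intro z hz
    ext w
    change ρ z (w : V) = lam z.b • (w : V)
    exact w.2 z hz
  have hm := le_finrank hS T lam hTz (b₀ := z₀.b) (b_fixed_of_a_eq_zero hz₀) hlam0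
  have hadd : ∀ b c : F, σ b = b → σ c = c → lam (b + c) = lam b * lam c := by
    intro b c hb hc
    have h1 := hlam (zet b hb * zet c hc) (by simp)
    have h3 : (zet b hb * zet c hc : Heis σ).b = b + c := by simp
    rw [h3, ← hmul, hlam _ (zet_a c hc), map_smul, hlam _ (zet_a b hb), zet_b, zet_b, smul_smul, mul_comm] at h1
    exact (smul_left_injective k hv0 h1).symm
  have hzero : lam 0 = 1 := by
    have h1 := hlam 1 rfl
    rw [one_b, map_one] at h1
    have h3 : (1 : k) • v = lam 0 • v := by rw [one_smul]; exact h1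
    exact (smul_left_injective k hv0 h3).symm
  -- the translates
  obtain ⟨g, hg⟩ := exists_generator hS.hq
  have h4 := four_le hS.hq
  have hgo : orderOf (g ^ (2 ^ n + 1)) = 2 ^ n - 1 := by
    rw [orderOf_pow_of_dvd (by omega), hg, card_factor _ (by omega), Nat.mul_div_cancel _ (by omega)]
    rw [hg, card_factor _ (by omega)]
    exact dvd_mul_left _ _
  have hnm : ∀ l : Fˣ, nm σ l = ((l ^ (2 ^ n + 1) : Fˣ) : F) := by
    intro l
    unfold nm
    rw [hS.eq, bar_def, Units.val_pow_eq_pow_val, pow_succ, mul_comm]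
  let c : Fin (2 ^ n - 1) → Fˣ := fun i => g ^ (i : ℕ)
  have hcinj : ∀ i j, nm σ (c i) = nm σ (c j) → i = j := by
    intro i j hij
    rw [hnm, hnm] at hij
    have h5 : (g ^ (2 ^ n + 1)) ^ (i : ℕ) = (g ^ (2 ^ n + 1)) ^ (j : ℕ) := by
      rw [← pow_mul, ← pow_mul, mul_comm _ (i : ℕ), mul_comm _ (j : ℕ), pow_mul, pow_mul]
      exact Units.ext hij
    have h6 := pow_injOn_Iio_orderOf (x := g ^ (2 ^ n + 1)) (by rw [hgo]; exact i.2) (by rw [hgo]; exact j.2) h5
    exact Fin.ext h6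
  let χ : Fin (2 ^ n - 1) → {z : Heis σ // z.a = 0} → k := fun i z => lam ((nm σ (c i))⁻¹ * z.1.b)
  have hfixn : ∀ i, σ (nm σ (c i))⁻¹ = (nm σ (c i))⁻¹ := fun i => by rw [map_inv₀, fixed_nm]
  have hχ : Function.Injective χ := by
    intro i j hij
    by_contra hne
    have h0 : (nm σ (c i))⁻¹ + (nm σ (c j))⁻¹ ≠ 0 := fun h =>
      hne (hcinj i j (inv_injective (CharTwo.add_eq_zero.1 h)))
    have hb : σ (((nm σ (c i))⁻¹ + (nm σ (c j))⁻¹)⁻¹ * z₀.b) = ((nm σ (c i))⁻¹ + (nm σ (c j))⁻¹)⁻¹ * z₀.b := by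
      rw [map_mul, map_inv₀, map_add, hfixn, hfixn, b_fixed_of_a_eq_zero hz₀]
    have h5 := congrFun hij ⟨zet _ hb, zet_a _ _⟩
    simp only [χ, zet_b] at h5
    apply hlam0
    have h6 : z₀.b = (nm σ (c i))⁻¹ * (((nm σ (c i))⁻¹ + (nm σ (c j))⁻¹)⁻¹ * z₀.b) +
        (nm σ (c j))⁻¹ * (((nm σ (c i))⁻¹ + (nm σ (c j))⁻¹)⁻¹ * z₀.b) := by
      rw [← add_mul, mul_inv_cancel_left₀ h0]
    have h7 : ∀ i, σ ((nm σ (c i))⁻¹ * (((nm σ (c i))⁻¹ + (nm σ (c j))⁻¹)⁻¹ * z₀.b)) =
        (nm σ (c i))⁻¹ * (((nm σ (c i))⁻¹ + (nm σ (c j))⁻¹)⁻¹ * z₀.b) := by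
      intro i
      rw [map_mul, hfixn, map_mul, map_inv₀, map_add, hfixn, hfixn, b_fixed_of_a_eq_zero hz₀]
    have h8 : σ ((nm σ (c j))⁻¹ * (((nm σ (c i))⁻¹ + (nm σ (c j))⁻¹)⁻¹ * z₀.b)) =
        (nm σ (c j))⁻¹ * (((nm σ (c i))⁻¹ + (nm σ (c j))⁻¹)⁻¹ * z₀.b) := by
      rw [map_mul, hfixn, hb]
    rw [h6, hadd _ _ (h7 i) h8, h5, ← hadd _ _ h8 h8, CharTwo.add_self_eq_zero, hzero]
  have hDz : ∀ (l : Fˣ) (z : Heis σ), z.a = 0 → ∀ w ∈ W, ρ z (D l w) = lam ((nm σ l)⁻¹ * z.b) • D l w := by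
    intro l z hz w hw
    have hb : σ ((nm σ l)⁻¹ * z.b) = (nm σ l)⁻¹ * z.b := by
      rw [map_mul, map_inv₀, fixed_nm, b_fixed_of_a_eq_zero hz]
    have h5 : act l (zet ((nm σ l)⁻¹ * z.b) hb) = z := by
      refine ext_z ?_ hz ?_
      · rw [act_a, zet_a, mul_zero]
      · rw [act_b, zet_b, mul_inv_cancel_left₀ (nm_ne_zero σ l)]
    have h6 := LinearMap.congr_fun (hD l (zet ((nm σ l)⁻¹ * z.b) hb)) w
    rw [h5] at h6
    have h7 : D l (ρ (zet ((nm σ l)⁻¹ * z.b) hb) w) = ρ z (D l w) := h6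
    rw [← h7, hw _ (zet_a _ _), map_smul, zet_b]
  let bas := Module.finBasis k W
  have hli : LinearIndependent k (fun x : Fin (2 ^ n - 1) × Fin (finrank k W) => D (c x.1) ((bas x.2 : W) : V)) := by
    rw [Fintype.linearIndependent_iff]
    rintro γ hγ ⟨i, j⟩
    rw [Fintype.sum_prod_type] at hγ
    have h5 : ∀ i, ∑ j, γ (i, j) • D (c i) ((bas j : W) : V) = D (c i) ((∑ j, γ (i, j) • bas j : W) : V) := by
      intro i
      rw [Submodule.coe_sum, map_sum]
      refine Finset.sum_congr rfl fun j _ => ?_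
      rw [Submodule.coe_smul, map_smul]
    have h6 := eigen_sum_zero (fun z : {z : Heis σ // z.a = 0} => ρ z.1) χ hχ Finset.univ
      (fun i => ∑ j, γ (i, j) • D (c i) ((bas j : W) : V)) (fun i _ z => by
        rw [h5]
        exact hDz (c i) z.1 z.2 _ (Submodule.coe_mem _)) hγ i (Finset.mem_univ i)
    rw [h5] at h6
    have h7 : ((∑ j, γ (i, j) • bas j : W) : V) = 0 := hDi (c i) (by rw [h6, map_zero])
    have h8 : (∑ j, γ (i, j) • bas j : W) = 0 := Subtype.ext h7
    exact Fintype.linearIndependent_iff.1 bas.linearIndependent (fun j => γ (i, j)) h8 j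
  have h5 := hli.fintype_card_le_finrank
  rw [Fintype.card_prod, Fintype.card_fin, Fintype.card_fin] at h5
  exact (Nat.mul_le_mul_left _ hm).trans h5

/-- the elements of `Heis σ` have order dividing four -/
theorem pow_four (x : Heis σ) : x ^ 2 ^ 2 = 1 := by
  have h1 := (mul_self_eq_one_iff (x * x)).2 (sq_a x)
  calc x ^ 2 ^ 2 = x * x * (x * x) := by
        rw [show (2 : ℕ) ^ 2 = 2 + 2 by norm_num, pow_add, sq]
    _ = 1 := h1

/-- **No small representations.** -/
theorem not_hasRep {X : Type*} [Group X] [Finite X] (hX : commutator X = ⊤) {F : Type*} [Field F] [Fintype F] {n : ℕ}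
    (hn : 5 ≤ n) (hF : Fintype.card F = (2 ^ n) ^ 2) (e : Nonempty ((X ⧸ center X) ≃* Cfsg.PSU 3 F (2 ^ n))) :
    ¬ Cfsg.Agent.H340.HasRep 248 X := by
  rintro ⟨k, i1, V, i2, i3, i4, h2, hd, ρ, hρ⟩
  have hq : Qd F n := ⟨by omega, hF⟩
  have hF4 : Fintype.card F = 4 ^ n := by
    rw [hF, ← pow_mul, mul_comm, pow_mul]
    norm_num
  have hc : CharP F 2 := Cfsg.Agent.StdU3.LZeroTop.charP_two hF4
  let σ : F →+* F := iterateFrobenius F 2 n
  have hσ : ∀ x, σ x = bar n x := fun x => iterateFrobenius_def 2 n x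
  have hfact : Fact (∀ x, σ (σ x) = x) := ⟨fun x => by rw [hσ, hσ, bar_bar hq]⟩
  have hS : Sg σ n := ⟨hq, hσ⟩
  obtain ⟨R0⟩ := Cfsg.Agent.StdU3.URelModel.nonempty_urel (σ := σ) (n := n) (by omega) hσ
    (by rw [Nat.card_eq_fintype_card, hF])
  obtain ⟨e⟩ := e
  have R := R0.map e.symm
  have hZ := Cfsg.Agent.StdU3.Cover.odd_center hS hX R
  obtain ⟨P1, q, -, hq1, hq2⟩ := Cfsg.Agent.StdU3.Base.exists_lift R hS hZ
  have hqinj : Function.Injective q := by
    intro x y hxy
    apply R.u_inj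
    rw [← hq1, ← hq1, hxy]
  choose d hd' using fun l : Fˣ => QuotientGroup.mk_surjective (R.d l)
  have hrel : ∀ l x, d l * q x = q (act l x) * d l := by
    intro l x
    have h1 : d l * q x * (d l)⁻¹ = q (act l x) := by
      refine hq2 _ ⟨2, ?_⟩ _ ?_
      · rw [conj_pow, ← map_pow, pow_four, map_one, mul_one, mul_inv_cancel]
      · rw [QuotientGroup.mk_mul, QuotientGroup.mk_mul, QuotientGroup.mk_inv, hq1, hd', R.d_u, mul_inv_cancel_right]
    rw [← h1]
    group
  have h3 := dim_bound h2 hS ((Units.coeHom (Module.End k V)).comp (ρ.comp q)) (fun l => (ρ (d l) : Module.End k V))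
    (fun l => ?_) (fun l x => ?_) (z₀ := zet 1 (map_one σ)) (zet_a _ _) ?_
  · have h5 : 2 ^ 5 ≤ 2 ^ n := Nat.pow_le_pow_right (by norm_num) hn
    have h6 : 31 * 32 ≤ (2 ^ n - 1) * 2 ^ n := Nat.mul_le_mul (by omega) (by omega)
    omega
  · intro v w hvw
    have h5 : ∀ u, ((ρ (d l))⁻¹ : (Module.End k V)ˣ).val ((ρ (d l) : Module.End k V) u) = u := by
      intro u
      have h6 : ((ρ (d l))⁻¹ : (Module.End k V)ˣ).val * (ρ (d l) : Module.End k V) = 1 := Units.inv_mul _
      exact LinearMap.congr_fun h6 u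
    rw [← h5 v, ← h5 w]
    congr 1
  · change (ρ (d l) : Module.End k V) * (ρ (q x) : Module.End k V) =
      (ρ (q (act l x)) : Module.End k V) * (ρ (d l) : Module.End k V)
    rw [← Units.val_mul, ← Units.val_mul, ← map_mul, ← map_mul, hrel]
  · intro h5
    have h6 : ρ (q (zet 1 (map_one σ))) = 1 := Units.ext h5
    have h7 : zet 1 (map_one σ) = (1 : Heis σ) := hqinj (hρ (by rw [h6, map_one, map_one]))
    have h8 := congrArg Heis.b h7
    rw [zet_b, one_b] at h8
    exact one_ne_zero h8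

end Cfsg.Agent.H753.UThreeDeg
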